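import Mathlib
import Cfsg.Agent.TwoFusion.FStarControl
import Cfsg.Agent.Classification.TypeZ.Comp

/-!
# Type Z of the Gorenstein–Walter theorem: exclusion of some components

If an involution `v ≠ t` of the component `L(x)` commutes with `t` and centralises (modulo `O(C(x))`)
all elements of odd order of `C_L(t)`, then we get a contradiction.
-/

set_option autoImplicit false

namespace Cfsg.Agent.Classification.TypeZ.Excl

open Subgroup Cfsg
open Cfsg.Agent.Classification.TypeB.Basic Cfsg.Agent.Classification.TypeB.Core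
open Cfsg.Agent.OddOrderLocal Cfsg.Agent.OddOrderLocal.PiCoreOf
open Cfsg.Agent.Classification.TypeZ.Bender Cfsg.Agent.Classification.TypeZ.Comp

universe u

section

variable {G : Type u} [Group G] [Finite G] {t u x : G} {L : Subgroup G}

omit [Finite G] in
theorem commutator_subset_inf {A : Subgroup G} {v : G} {X Y : Subgroup G}
    (hX : v ∈ X) (hA : A ≤ normalizer (X : Set G)) (hAY : A ≤ Y)
    (hvY : v ∈ normalizer (Y : Set G)) : ⁅A, zpowers v⁆ ≤ X ⊓ Y := by
  rw [commutator_le]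
  intro a ha b hb
  have hbX : b ∈ X := (zpowers_le.2 hX) hb
  have hbY : b ∈ normalizer (Y : Set G) := (zpowers_le.2 hvY) hb
  rw [commutatorElement_def, mem_inf]
  refine ⟨?_, ?_⟩
  · exact mul_mem ((mem_normalizer_iff.1 (hA ha) b).1 hbX) (inv_mem hbX)
  · have h1 := (mem_normalizer_iff.1 hbY a⁻¹).1 (inv_mem (hAY ha))
    have h2 : a * b * a⁻¹ * b⁻¹ = a * (b * a⁻¹ * b⁻¹) := by group
    rw [h2]
    exact mul_mem (hAY ha) h1

/-- The main exclusion lemma. -/
theorem false_of_centralizes (h : ZHyp G t) (g : Good t u x) (hL : IsComp x L) {v : G}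
    (hv : IsInv v) (hvL : v ∈ L) (hvt : v * t = t * v) (hne : v ≠ t)
    (hc : ∀ y ∈ L, y * t = t * y → Odd (orderOf y) →
      y * v * y⁻¹ * v⁻¹ ∈ oc (centralizer ({x} : Set G))) : False := by
  set C := Kc t ⊓ centralizer ({x} : Set G) with hC
  have hvC : v ∈ centralizer ({x} : Set G) := hL.le hvL
  have hvK : v ∈ normalizer (Kc t : Set G) :=
    normalizer_Kc_le t (mem_centralizer_singleton_iff.2 hvt)
  have hvN : v ∈ normalizer (C : Set G) := by
    apply mem_normalizer_of_conj
    intro y hy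
    rw [hC, mem_inf] at hy ⊢
    exact ⟨(mem_normalizer_iff.1 hvK y).1 hy.1, mul_mem (mul_mem hvC hy.2) (inv_mem hvC)⟩
  have hCodd : Odd (Nat.card C) := odd_of_le inf_le_left (odd_Kc t)
  set D := ⁅C, zpowers v⁆ with hD
  have h1 : D ≤ L ⊓ Kc t :=
    commutator_subset_inf hvL (inf_le_right.trans hL.normal) inf_le_left hvK
  have hDC : D ≤ C := comm_le hvN
  have hDodd : Odd (Nat.card D) := odd_of_le hDC hCodd
  have hOc : L ≤ centralizer (oc (centralizer ({x} : Set G)) : Set G) := hL.cent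
  have h2 : ⁅D, zpowers v⁆ ≤ oc (centralizer ({x} : Set G)) := by
    rw [commutator_le]
    intro y hy b hb
    have hyL := (h1 hy).1
    have hyK := (mem_Kc_iff h.sub h.inv).1 (h1 hy).2
    have h3 := hc y hyL hyK.1 hyK.2
    obtain ⟨n, rfl⟩ := hb
    rw [commutatorElement_def]
    rcases Int.even_or_odd' n with ⟨m, hm | hm⟩
    · have : v ^ n = 1 := by rw [hm, zpow_mul, zpow_ofNat, sq, hv.1, one_zpow]
      show y * v ^ n * y⁻¹ * (v ^ n)⁻¹ ∈ _
      rw [this]
      simp
    · have : v ^ n = v := by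
        rw [hm, zpow_add, zpow_mul, zpow_ofNat, sq, hv.1, one_zpow, one_mul, zpow_one]
      show y * v ^ n * y⁻¹ * (v ^ n)⁻¹ ∈ _
      rw [this]
      exact h3
  have h4 : ⁅D, zpowers v⁆ = D := comm_comm hCodd hv hvN
  have h5 : D = ⊥ := by
    rw [← h4, comm_eq_bot_iff]
    intro y hy
    rw [← h4] at hy
    rw [mem_centralizer_singleton_iff]
    exact (mem_centralizer_iff.1 (hOc hvL)) y (h2 hy)
  have h6 : C ≤ centralizer ({v} : Set G) := comm_eq_bot_iff.1 (hD ▸ h5)
  -- `v` centralises `F(K)`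
  set F := fittingOf (Kc t) with hF
  have hFodd : Odd (Nat.card F) := odd_of_le (FitAux.fittingOf_le _) (odd_Kc t)
  set T := F ⊓ centralizer ({x} : Set G) with hT
  have h7 : F ⊓ centralizer (T : Set G) ≤ T := by
    rintro y ⟨hyF, hyT⟩
    refine ⟨hyF, ?_⟩
    have hxT : x ∈ (T : Set G) := ⟨g.mem, mem_centralizer_singleton_iff.2 rfl⟩
    exact mem_centralizer_singleton_iff.2 ((mem_centralizer_iff.1 hyT) x hxT).symm
  have hvF : zpowers v ≤ normalizer (F : Set G) := by
    rw [zpowers_le]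
    exact NilpotentHall.normalizer_le_normalizer_fittingOf _ hvK
  have h8 : zpowers v ≤ centralizer (T : Set G) := by
    rw [zpowers_le_centralizer_iff]
    exact (inf_le_inf_right _ (FitAux.fittingOf_le _)).trans h6
  have h9 := Cfsg.Agent.TwoFusion.FStarControl.centralizes_of_selfcentralizing
    (FitAux.isNilpotent_fittingOf _) inf_le_left h7 hvF (coprime_of_odd hFodd hv) h8
  have hodd := odd_Kc t
  have h10 : zpowers v ≤ centralizer (Kc t : Set G) :=
    FitCores.le_centralizer_of_centralizes_fitting (by rwa [zpowers_le]) (h.ft _ hodd)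
      (coprime_of_odd hodd hv) h9
  have h11 := h.core_eq_bot hv hne (zpowers_le_centralizer_iff.1 h10)
  have h12 := g.mem_Kc
  rw [h11, mem_bot] at h12
  exact g.ne_one h12

end

/-! ### The alternating group of degree seven -/

section alt

open Equiv

def tau0 : Perm (Fin 7) := Equiv.swap 0 1 * Equiv.swap 2 3
def nu0 : Perm (Fin 7) := Equiv.swap 0 2 * Equiv.swap 1 3

theorem tau0_iff : ∀ a : Fin 7, a < 4 ↔ tau0 a ≠ a := by decide

theorem pow_four : ∀ g : Perm {a : Fin 7 // a < 4},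
    g * tau0.subtypePerm (p := fun a => a < 4) (by decide) =
      tau0.subtypePerm (p := fun a => a < 4) (by decide) * g → g ^ 4 = 1 := by
  decide +kernel

theorem fixes {y : Perm (Fin 7)} (hy : y * tau0 = tau0 * y) (ho : Odd (orderOf y)) (a : Fin 7)
    (ha : a < 4) : y a = a := by
  have h1 : ∀ b, tau0 (y b) = y (tau0 b) := fun b => by
    rw [← Perm.mul_apply, ← hy, Perm.mul_apply]
  have h2 : ∀ b, y b < 4 ↔ b < 4 := by
    intro b
    rw [tau0_iff, tau0_iff, h1]
    exact (not_congr y.injective.eq_iff)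
  set g := y.subtypePerm (p := fun a => a < 4) h2 with hg
  have h3 : g ^ 4 = 1 := by
    apply pow_four
    ext b
    show ((y (tau0 b) : Fin 7) : ℕ) = (tau0 (y b) : Fin 7)
    rw [h1]
  have h4 : ∀ n : ℕ, ∀ b : {a : Fin 7 // a < 4}, ((g ^ n) b : Fin 7) = (y ^ n) b := by
    intro n
    induction n with
    | zero => intro b; rfl
    | succ n ih => intro b; rw [pow_succ, pow_succ, Perm.mul_apply, Perm.mul_apply, ih]; rfl
  have h5 : (y ^ 4) a = a := by
    have := h4 4 ⟨a, ha⟩
    rw [h3] at this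
    exact this.symm
  obtain ⟨m, hm⟩ : ∃ m, (y ^ 4) ^ m = y := by
    apply exists_pow_eq_self_of_coprime
    exact Nat.Coprime.pow_left 2 (Nat.coprime_two_left.2 ho)
  rw [← hm]
  have h6 : ∀ n : ℕ, ((y ^ 4) ^ n) a = a := by
    intro n
    induction n with
    | zero => rfl
    | succ n ih => rw [pow_succ, Perm.mul_apply, h5, ih]
  exact h6 m

theorem comm_nu0 {y : Perm (Fin 7)} (hy : y * tau0 = tau0 * y) (ho : Odd (orderOf y)) :
    y * nu0 = nu0 * y := by
  have hf := fixes hy ho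
  have h1 : ∀ b : Fin 7, b < 4 → nu0 b < 4 := by decide
  have h2 : ∀ b : Fin 7, ¬ b < 4 → nu0 b = b := by decide
  ext b
  rw [Perm.mul_apply, Perm.mul_apply]
  by_cases hb : b < 4
  · rw [hf _ (h1 b hb), hf b hb]
  · have h3 : ¬ y b < 4 := by
      intro h4
      apply hb
      have h5 := hf _ h4
      have h6 := y.injective h5
      rw [h6] at h4
      exact h4
    rw [h2 b hb, h2 _ h3]

theorem cycleType_of_inv {τ : Perm (Fin 7)} (h1 : τ * τ = 1) (h2 : τ ≠ 1) (h3 : Perm.sign τ = 1) :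
    τ.cycleType = Multiset.replicate 2 2 := by
  have ho : orderOf τ = 2 := orderOf_eq_prime (by rw [sq, h1]) h2
  have hall : ∀ n ∈ τ.cycleType, n = 2 := by
    intro n hn
    have h4 := Perm.dvd_of_mem_cycleType hn
    rw [ho] at h4
    have h5 := Perm.two_le_of_mem_cycleType hn
    exact le_antisymm (Nat.le_of_dvd (by norm_num) h4) h5
  have hrep := Multiset.eq_replicate_of_mem hall
  have hsum : τ.cycleType.sum ≤ 7 := by
    rw [Perm.sum_cycleType]
    exact (Finset.card_le_univ _).trans (by simp)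
  rw [hrep] at hsum ⊢
  rw [Multiset.sum_replicate, smul_eq_mul] at hsum
  have hsign : (-1 : ℤˣ) ^ Multiset.card τ.cycleType = 1 := by
    rw [Perm.sign_of_cycleType, hrep, Multiset.sum_replicate, Multiset.card_replicate,
      smul_eq_mul, pow_add, pow_mul] at h3
    simpa using h3
  have hev : Even (Multiset.card τ.cycleType) := by
    rcases Nat.even_or_odd (Multiset.card τ.cycleType) with h | h
    · exact h
    · rw [h.neg_one_pow] at hsign
      exact absurd hsign (by decide)
  have hne : Multiset.card τ.cycleType ≠ 0 := by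
    intro h
    rw [Multiset.card_eq_zero, Perm.cycleType_eq_zero] at h
    exact h2 h
  have : Multiset.card τ.cycleType = 2 := by
    obtain ⟨k, hk⟩ := hev
    omega
  rw [this]

theorem exists_alt7 (τ : alternatingGroup (Fin 7)) (hτ : IsInv τ) :
    ∃ ν : alternatingGroup (Fin 7), IsInv ν ∧ ν ≠ τ ∧ ν * τ = τ * ν ∧
      ∀ y, y * τ = τ * y → Odd (orderOf y) → y * ν = ν * y := by
  have h1 : (τ : Perm (Fin 7)) * τ = 1 := congrArg Subtype.val hτ.1
  have h2 : (τ : Perm (Fin 7)) ≠ 1 := fun h => hτ.2 (Subtype.ext h)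
  have h3 : Perm.sign (τ : Perm (Fin 7)) = 1 := τ.2
  have hc : IsConj tau0 (τ : Perm (Fin 7)) := by
    rw [Perm.isConj_iff_cycleType_eq, cycleType_of_inv h1 h2 h3]
    exact cycleType_of_inv (by decide) (by decide) (by decide)
  obtain ⟨c, hc⟩ := isConj_iff.1 hc
  have hmem : c * nu0 * c⁻¹ ∈ alternatingGroup (Fin 7) := by
    rw [Perm.mem_alternatingGroup, map_mul, map_mul, map_inv, mul_comm (Perm.sign c),
      mul_inv_cancel_right]
    decide
  refine ⟨⟨c * nu0 * c⁻¹, hmem⟩, ⟨?_, ?_⟩, ?_, ?_, ?_⟩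
  · apply Subtype.ext
    show c * nu0 * c⁻¹ * (c * nu0 * c⁻¹) = 1
    have : nu0 * nu0 = 1 := by decide
    calc c * nu0 * c⁻¹ * (c * nu0 * c⁻¹) = c * (nu0 * nu0) * c⁻¹ := by group
      _ = 1 := by rw [this]; group
  · intro h
    have h4 : c * nu0 * c⁻¹ = 1 := congrArg Subtype.val h
    have h5 : nu0 = 1 := by
      calc nu0 = c⁻¹ * (c * nu0 * c⁻¹) * c := by group
        _ = 1 := by rw [h4]; group
    exact absurd h5 (by decide)
  · intro h
    have h4 : c * nu0 * c⁻¹ = τ := congrArg Subtype.val h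
    rw [← hc] at h4
    have h5 : nu0 = tau0 := by
      calc nu0 = c⁻¹ * (c * nu0 * c⁻¹) * c := by group
        _ = c⁻¹ * (c * tau0 * c⁻¹) * c := by rw [h4]
        _ = tau0 := by group
    exact absurd h5 (by decide)
  · apply Subtype.ext
    show c * nu0 * c⁻¹ * (τ : Perm (Fin 7)) = (τ : Perm (Fin 7)) * (c * nu0 * c⁻¹)
    rw [← hc]
    have : nu0 * tau0 = tau0 * nu0 := by decide
    calc c * nu0 * c⁻¹ * (c * tau0 * c⁻¹) = c * (nu0 * tau0) * c⁻¹ := by group
      _ = c * (tau0 * nu0) * c⁻¹ := by rw [this]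
      _ = _ := by group
  · intro y hy ho
    have h4 : (y : Perm (Fin 7)) * τ = τ * y := congrArg Subtype.val hy
    rw [← hc] at h4
    have h5 : (c⁻¹ * y * c : Perm (Fin 7)) * tau0 = tau0 * (c⁻¹ * y * c) := by
      calc (c⁻¹ * y * c : Perm (Fin 7)) * tau0 = c⁻¹ * (y * (c * tau0 * c⁻¹)) * c := by group
        _ = c⁻¹ * ((c * tau0 * c⁻¹) * y) * c := by rw [h4]
        _ = _ := by group
    have h6 : Odd (orderOf (c⁻¹ * y * c : Perm (Fin 7))) := by
      have h7 : orderOf (c⁻¹ * y * c : Perm (Fin 7)) = orderOf (y : Perm (Fin 7)) := by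
        have := orderOf_injective (MulAut.conj c⁻¹).toMonoidHom (MulAut.conj c⁻¹).injective
          (y : Perm (Fin 7))
        simpa using this
      rw [h7, Subgroup.orderOf_coe]
      exact ho
    have h8 := comm_nu0 h5 h6
    apply Subtype.ext
    show (y : Perm (Fin 7)) * (c * nu0 * c⁻¹) = (c * nu0 * c⁻¹) * y
    calc (y : Perm (Fin 7)) * (c * nu0 * c⁻¹) = c * ((c⁻¹ * y * c) * nu0) * c⁻¹ := by group
      _ = c * (nu0 * (c⁻¹ * y * c)) * c⁻¹ := by rw [h8]
      _ = _ := by group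

end alt

section

variable {G : Type u} [Group G] [Finite G] {t u x : G} {L : Subgroup G}

theorem IsComp.odd_center (hL : IsComp x L) : Odd (Nat.card (center L)) := by
  have h1 : Nat.card (center L) = Nat.card ((center L).map L.subtype) :=
    (card_map_of_injective (subtype_injective _)).symm
  rw [h1, hL.center_eq]
  exact odd_of_le inf_le_right (odd_oc _)

omit [Finite G] in
theorem mk_inv {v : G} (hv : IsInv v) (hvL : v ∈ L) : IsInv (⟨v, hvL⟩ : L) :=
  ⟨Subtype.ext hv.1, fun hh => hv.2 (congrArg Subtype.val hh)⟩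

/-- Involutions map to involutions modulo an odd kernel. -/
theorem map_inv_of_odd {A M : Type*} [Group A] [Finite A] [Group M] (f : A →* M)
    (hk : Odd (Nat.card f.ker)) {v : A} (hv : IsInv v) : IsInv (f v) := by
  refine ⟨by rw [← map_mul, hv.1, map_one], fun hh => hv.2 ?_⟩
  exact eq_one_of_sq hk (MonoidHom.mem_ker.2 hh) hv.1

/-- Lifting commuting involutions modulo an odd central kernel. -/
theorem exists_lift {A M : Type*} [Group A] [Finite A] [Group M] (f : A →* M)
    (hf : Function.Surjective f) (hc : f.ker ≤ center A) (hk : Odd (Nat.card f.ker)) {τ : A}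
    (hτ : IsInv τ) {ν : M} (hν : IsInv ν) (hcomm : ν * f τ = f τ * ν) :
    ∃ v : A, f v = ν ∧ IsInv v ∧ v * τ = τ * v := by
  obtain ⟨w, rfl⟩ := hf ν
  have hz : w * w ∈ f.ker := by rw [MonoidHom.mem_ker, map_mul, hν.1]
  obtain ⟨m, hm⟩ := hk
  have hzm : (w * w) ^ (2 * m + 1) = 1 := by
    rw [← hm]
    have := pow_card_eq_one' (G := f.ker) (x := ⟨w * w, hz⟩)
    exact congrArg Subtype.val this
  set v := w * (w * w) ^ m with hv
  have hvf : f v = f w := by
    rw [hv, map_mul, map_pow, map_mul, hν.1, one_pow, mul_one]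
  have hvv : v * v = 1 := by
    have h1 : v = w ^ (2 * m + 1) := by
      rw [hv, pow_succ', pow_mul, sq]
    rw [h1, ← (Commute.refl w).mul_pow]
    exact hzm
  have hv1 : v ≠ 1 := by
    intro h
    apply hν.2
    rw [← hvf, h, map_one]
  refine ⟨v, hvf, ⟨hvv, hv1⟩, ?_⟩
  have hz2 : v * τ * v⁻¹ * τ⁻¹ ∈ f.ker := by
    rw [MonoidHom.mem_ker, map_mul, map_mul, map_mul, map_inv, map_inv, hvf, hcomm]
    group
  set z := v * τ * v⁻¹ * τ⁻¹ with hzd
  have hzc : z * τ = τ * z := (mem_center_iff.1 (hc hz2) τ).symm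
  have h1 : v * τ * v⁻¹ = z * τ := by rw [hzd]; group
  have h2 : (z * τ) * (z * τ) = 1 := by
    rw [← h1]
    calc v * τ * v⁻¹ * (v * τ * v⁻¹) = v * (τ * τ) * v⁻¹ := by group
      _ = 1 := by rw [hτ.1]; group
  have h3 : z * z = 1 := by
    calc z * z = z * z * (τ * τ) := by rw [hτ.1, mul_one]
      _ = z * (z * τ) * τ := by group
      _ = z * (τ * z) * τ := by rw [hzc]
      _ = (z * τ) * (z * τ) := by group
      _ = 1 := h2
  have hk' : Odd (Nat.card f.ker) := ⟨m, hm⟩
  have h4 : z = 1 := eq_one_of_sq hk' hz2 h3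
  rw [h4, one_mul] at h1
  exact mul_inv_eq_iff_eq_mul.1 h1

theorem false_of_hom (h : ZHyp G t) (g : Good t u x) (hL : IsComp x L) (htL : t ∈ L)
    {M : Type*} [Group M] (f : L →* M) (hf : Function.Surjective f) (hker : f.ker = center L)
    {ν : M} (hν : IsInv ν) (hne : ν ≠ f ⟨t, htL⟩) (hcomm : ν * f ⟨t, htL⟩ = f ⟨t, htL⟩ * ν)
    (hall : ∀ y : M, y * f ⟨t, htL⟩ = f ⟨t, htL⟩ * y → Odd (orderOf y) → y * ν = ν * y) :
    False := by
  obtain ⟨v, hvf, hv, hvt⟩ := exists_lift f hf hker.le (hker ▸ IsComp.odd_center hL)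
    (mk_inv h.inv htL) hν hcomm
  refine false_of_centralizes h g hL (v := v) ⟨congrArg Subtype.val hv.1,
    fun hh => hv.2 (Subtype.ext hh)⟩ v.2 (congrArg Subtype.val hvt) ?_ ?_
  · intro hh
    apply hne
    rw [← hvf]
    congr 1
    exact Subtype.ext hh
  · intro y hy hyt ho
    have h1 : f ⟨y, hy⟩ * f ⟨t, htL⟩ = f ⟨t, htL⟩ * f ⟨y, hy⟩ := by
      rw [← map_mul, ← map_mul]
      congr 1
      exact Subtype.ext hyt
    have h2 : Odd (orderOf (f ⟨y, hy⟩)) := by
      have h3 : orderOf (f ⟨y, hy⟩) ∣ orderOf (⟨y, hy⟩ : L) := orderOf_map_dvd f _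
      rw [Subgroup.orderOf_mk] at h3
      exact ho.of_dvd_nat h3
    have h4 := hall _ h1 h2
    have h5 : (⟨y, hy⟩ * v * (⟨y, hy⟩ : L)⁻¹ * v⁻¹ : L) ∈ center L := by
      rw [← hker, MonoidHom.mem_ker, map_mul, map_mul, map_mul, map_inv, map_inv, hvf, h4]
      group
    have h6 : y * v * y⁻¹ * (v : G)⁻¹ ∈ (center L).map L.subtype := ⟨_, h5, rfl⟩
    rw [hL.center_eq] at h6
    exact h6.2

/-- The component is not `A₇` modulo its centre. -/
theorem not_alt7 (h : ZHyp G t) (g : Good t u x) (hL : IsComp x L) (htL : t ∈ L)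
    (e : L ⧸ center L ≃* alternatingGroup (Fin 7)) : False := by
  set f : L →* alternatingGroup (Fin 7) := e.toMonoidHom.comp (QuotientGroup.mk' (center L)) with hfd
  have hf : Function.Surjective f := e.surjective.comp (QuotientGroup.mk'_surjective _)
  have hker : f.ker = center L := by
    rw [hfd, ← MonoidHom.comap_ker]
    have : e.toMonoidHom.ker = ⊥ := (MonoidHom.ker_eq_bot_iff _).2 e.injective
    rw [this, MonoidHom.comap_bot, QuotientGroup.ker_mk']
  have hτ : IsInv (f ⟨t, htL⟩) :=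
    map_inv_of_odd f (hker ▸ IsComp.odd_center hL) (mk_inv h.inv htL)
  obtain ⟨ν, h1, h2, h3, h4⟩ := exists_alt7 _ hτ
  exact false_of_hom h g hL htL f hf hker h1 h2 h3 h4

/-- The component is `PSL(2, F)` modulo its centre, and the centraliser of `t` in it has a
nontrivial element of odd order. -/
theorem exists_psl (h : ZHyp G t) (g : Good t u x) (hL : IsComp x L) (htL : t ∈ L)
    (huL : u ∈ L) :
    ∃ (F : Type) (_ : Field F) (_ : Fintype F), Odd (Fintype.card F) ∧ 3 < Fintype.card F ∧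
      ∃ f : L →* Matrix.ProjectiveSpecialLinearGroup (Fin 2) F, Function.Surjective f ∧
        f.ker = center L ∧ ∃ y, y * f ⟨t, htL⟩ = f ⟨t, htL⟩ * y ∧ Odd (orderOf y) ∧ y ≠ 1 := by
  rcases (Cfsg.Agent.Classification.DihMinimal.gwConcl_def _).1 hL.gw with
    ⟨F, i1, i2, h1, h2, ⟨e⟩⟩ | h1
  · refine ⟨F, i1, i2, h1, h2, ?_⟩
    set f : L →* Matrix.ProjectiveSpecialLinearGroup (Fin 2) F :=
      e.toMonoidHom.comp (QuotientGroup.mk' (center L)) with hfd
    have hf : Function.Surjective f := e.surjective.comp (QuotientGroup.mk'_surjective _)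
    have hker : f.ker = center L := by
      rw [hfd, ← MonoidHom.comap_ker]
      have : e.toMonoidHom.ker = ⊥ := (MonoidHom.ker_eq_bot_iff _).2 e.injective
      rw [this, MonoidHom.comap_bot, QuotientGroup.ker_mk']
    refine ⟨f, hf, hker, ?_⟩
    by_contra hcon
    push Not at hcon
    have hodd : Odd (Nat.card f.ker) := hker ▸ IsComp.odd_center hL
    refine false_of_hom h g hL htL f hf hker (ν := f ⟨u, huL⟩)
      (map_inv_of_odd f hodd (mk_inv g.inv_u huL)) ?_ ?_ ?_
    · intro hh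
      have h3 : (⟨u, huL⟩ * (⟨t, htL⟩ : L)⁻¹ : L) ∈ f.ker := by
        rw [MonoidHom.mem_ker, map_mul, map_inv, hh, mul_inv_cancel]
      have h4 : (⟨u, huL⟩ * (⟨t, htL⟩ : L)⁻¹ : L) = 1 := by
        apply eq_one_of_sq hodd h3
        apply Subtype.ext
        show u * t⁻¹ * (u * t⁻¹) = 1
        rw [h.inv.inv_eq]
        calc u * t * (u * t) = u * (t * u) * t := by group
          _ = u * (u * t) * t := by rw [g.comm]
          _ = (u * u) * (t * t) := by group
          _ = 1 := by rw [g.inv_u.1, h.inv.1, one_mul]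
      have h5 : u * t⁻¹ = 1 := congrArg Subtype.val h4
      exact g.ne (mul_inv_eq_one.1 h5)
    · rw [← map_mul, ← map_mul]
      congr 1
      exact Subtype.ext g.comm.symm
    · intro y hy ho
      rw [hcon y hy ho, one_mul, mul_one]
  · obtain ⟨e⟩ := h1
    exact (not_alt7 h g hL htL e).elim

end

end Cfsg.Agent.Classification.TypeZ.Excl
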