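import Mathlib
import Cfsg.Agent.Lib.PSL2Mult
import Cfsg.Agent.Lib.PSL2Four
import Cfsg.Agent.Lib.PSL2Circle
import Cfsg.Agent.Lib.PSL2Inv
import Cfsg.Agent.TwoFusion.PSLTwoGood
import Cfsg.Agent.Classification.TypeZ.Excl

/-!
# Type Z of the Gorenstein–Walter theorem: the component is `PSL(2, q)`; (Z1), (Z2)
-/

set_option autoImplicit false

namespace Cfsg.Agent.Classification.TypeZ.Base

open Subgroup Cfsg
open Cfsg.Agent.Classification.TypeB.Basic Cfsg.Agent.Classification.TypeB.Core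
open Cfsg.Agent.OddOrderLocal Cfsg.Agent.OddOrderLocal.PiCoreOf
open Cfsg.Agent.Classification.TypeZ.Bender Cfsg.Agent.Classification.TypeZ.Comp
open Cfsg.Agent.Classification.TypeZ.Excl
open Cfsg.Agent.ClassicalGeometry.KleinCount (CommInv)

universe u

/-- `L ≅ PSL(2, F)` for a finite field of odd order `> 3`. -/
def IsPsl (L : Type*) [Group L] : Prop :=
  ∃ (F : Type) (_ : Field F) (_ : Fintype F), Odd (Fintype.card F) ∧ 3 < Fintype.card F ∧
    Nonempty (L ≃* Matrix.ProjectiveSpecialLinearGroup (Fin 2) F)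

theorem isPsl_def (L : Type*) [Group L] : IsPsl L ↔
    ∃ (F : Type) (_ : Field F) (_ : Fintype F), Odd (Fintype.card F) ∧ 3 < Fintype.card F ∧
      Nonempty (L ≃* Matrix.ProjectiveSpecialLinearGroup (Fin 2) F) := Iff.rfl

section psl

variable {F : Type*} [Field F] [Fintype F]

theorem two_ne_zero (hodd : Odd (Fintype.card F)) : (2 : F) ≠ 0 :=
  (Cfsg.Agent.ClassicalGeometry.PSLTorus.two_ne_zero_iff_odd F).2 hodd

/-- For `q = 9` the centraliser of an involution is a 2-group. -/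
theorem eq_one_of_nine (h9 : Fintype.card F = 9)
    {a y : Matrix.ProjectiveSpecialLinearGroup (Fin 2) F} (ha : IsInv a) (hy : y * a = a * y)
    (ho : Odd (orderOf y)) : y = 1 := by
  have hodd : Odd (Fintype.card F) := by rw [h9]; decide
  have h1 := Cfsg.Agent.TwoFusion.PSLTwoGood.card_centralizer hodd ha.orderOf_eq
  have h2 : Nat.card {p : F × F // p.1 ^ 2 + p.2 ^ 2 = 1} =
      Nat.card (Cfsg.Agent.Lib.PSL2Circle.Circ F) :=
    Nat.card_congr ⟨fun p => ⟨p.1.1, p.1.2, p.2⟩, fun p => ⟨(p.re, p.im), p.eqn⟩,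
      fun p => rfl, fun p => rfl⟩
  have h3 : Nat.card (Cfsg.Agent.Lib.PSL2Circle.Circ F) = 8 := by
    rcases Cfsg.Agent.Lib.PSL2Circle.card_circ (two_ne_zero hodd) with ⟨-, h⟩ | ⟨h, -⟩
    · rw [h, Nat.card_eq_fintype_card, h9]
    · rw [Nat.card_eq_fintype_card, h9] at h
      omega
  rw [h2, h3] at h1
  have h4 : orderOf y ∣ 8 := by
    rw [← h1]
    have h5 : orderOf (⟨y, mem_centralizer_singleton_iff.2 hy⟩ :
      centralizer ({a} : Set (Matrix.ProjectiveSpecialLinearGroup (Fin 2) F))) ∣ _ :=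
      orderOf_dvd_natCard _
    rwa [Subgroup.orderOf_mk] at h5
  rw [← orderOf_eq_one_iff]
  have h6 : Nat.Coprime (orderOf y) (2 ^ 3) := Nat.Coprime.pow_right 3 (Nat.coprime_two_right.2 ho)
  exact Nat.Coprime.eq_one_of_dvd h6 (by norm_num; exact h4)

end psl

section

variable {G : Type u} [Group G] [Finite G] {t u x : G} {L : Subgroup G}

/-- The component is `PSL(2, q)`. -/
theorem exists_equiv (h : ZHyp G t) (g : Good t u x) (hL : IsComp x L) (htL : t ∈ L)
    (huL : u ∈ L) : IsPsl L ∧ ∃ y ∈ L, y * t = t * y ∧ Odd (orderOf y) ∧ y ≠ 1 := by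
  obtain ⟨F, i1, i2, hodd, h3, f, hf, hker, y, hy, ho, hy1⟩ := exists_psl h g hL htL huL
  have hk : Odd (Nat.card f.ker) := hker ▸ IsComp.odd_center hL
  have hinv : IsInv (f ⟨t, htL⟩) := map_inv_of_odd f hk (mk_inv h.inv htL)
  have h9 : Fintype.card F ≠ 9 := fun h9 => hy1 (eq_one_of_nine h9 hinv hy ho)
  have hcomm : commutator L = ⊤ := by
    have h4 : Group.IsPerfect L := Subgroup.isPerfect_iff.2 hL.perfect
    exact h4.commutator_eq_top
  have hbot : f.ker = ⊥ :=
    Cfsg.Agent.Lib.PSL2Mult.ker_eq_bot hodd h3 h9 hf hker.le hcomm hk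
  have hinj : Function.Injective f := (MonoidHom.ker_eq_bot_iff f).1 hbot
  let e := MulEquiv.ofBijective f ⟨hinj, hf⟩
  refine ⟨⟨F, i1, i2, hodd, h3, ⟨e⟩⟩, ((e.symm y : L) : G), (e.symm y).2, ?_, ?_, ?_⟩
  · have h4 : e.symm y * ⟨t, htL⟩ = ⟨t, htL⟩ * e.symm y := by
      apply e.injective
      rw [map_mul, map_mul, e.apply_symm_apply]
      exact hy
    exact congrArg Subtype.val h4
  · rw [Subgroup.orderOf_coe, MulEquiv.orderOf_eq]
    exact ho
  · intro hh
    apply hy1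
    have h4 : e.symm y = 1 := Subtype.ext hh
    rw [← e.apply_symm_apply y, h4, map_one]

omit [Finite G] in
/-- In `PSL(2, q)` every four-group is fused. -/
theorem IsPsl.exists_fuse (hL : IsPsl L) (ht : IsInv t) (hu : IsInv u) (hc : t * u = u * t)
    (hne : u ≠ t) (htL : t ∈ L) (huL : u ∈ L) : ∃ k ∈ L, k * t * k⁻¹ = u ∧ k * u * k⁻¹ = t * u := by
  obtain ⟨F, i1, i2, hodd, -, ⟨e⟩⟩ := hL
  have h1 : CommInv (e ⟨t, htL⟩) (e ⟨u, huL⟩) := by
    refine ⟨?_, ?_, ?_, ?_, ?_, ?_⟩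
    · intro hh
      exact ht.2 (congrArg Subtype.val ((map_eq_one_iff e e.injective).1 hh))
    · intro hh
      exact hu.2 (congrArg Subtype.val ((map_eq_one_iff e e.injective).1 hh))
    · intro hh
      exact hne (congrArg Subtype.val (e.injective hh)).symm
    · rw [← map_mul]
      have : (⟨t, htL⟩ * ⟨t, htL⟩ : L) = 1 := Subtype.ext ht.1
      rw [this, map_one]
    · rw [← map_mul]
      have : (⟨u, huL⟩ * ⟨u, huL⟩ : L) = 1 := Subtype.ext hu.1
      rw [this, map_one]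
    · rw [← map_mul, ← map_mul]
      congr 1
      exact Subtype.ext hc
  obtain ⟨c, hc1, hc2⟩ := Cfsg.Agent.Lib.PSL2Four.exists_fuse (two_ne_zero hodd) h1
  refine ⟨(e.symm c : L), (e.symm c).2, ?_, ?_⟩
  · have h2 : e.symm c * ⟨t, htL⟩ * (e.symm c)⁻¹ = ⟨u, huL⟩ := by
      apply e.injective
      rw [map_mul, map_mul, map_inv, e.apply_symm_apply, hc1]
    exact congrArg Subtype.val h2
  · have h2 : e.symm c * ⟨u, huL⟩ * (e.symm c)⁻¹ = ⟨t, htL⟩ * ⟨u, huL⟩ := by
      apply e.injective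
      rw [map_mul, map_mul, map_inv, e.apply_symm_apply, hc2, map_mul]
    exact congrArg Subtype.val h2

omit [Finite G] in
/-- In `PSL(2, q)` an element of odd order does not centralise a four-group. -/
theorem IsPsl.eq_one_of_odd (hL : IsPsl L) (ht : IsInv t) (hu : IsInv u) (hc : t * u = u * t)
    (hne : u ≠ t) (htL : t ∈ L) (huL : u ∈ L) {c : G} (hcL : c ∈ L) (hct : c * t = t * c)
    (hcu : c * u = u * c) (ho : Odd (orderOf c)) : c = 1 := by
  obtain ⟨F, i1, i2, hodd, -, ⟨e⟩⟩ := hL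
  have h1 : CommInv (e ⟨t, htL⟩) (e ⟨u, huL⟩) := by
    refine ⟨?_, ?_, ?_, ?_, ?_, ?_⟩
    · intro hh
      exact ht.2 (congrArg Subtype.val ((map_eq_one_iff e e.injective).1 hh))
    · intro hh
      exact hu.2 (congrArg Subtype.val ((map_eq_one_iff e e.injective).1 hh))
    · intro hh
      exact hne (congrArg Subtype.val (e.injective hh)).symm
    · rw [← map_mul]
      have : (⟨t, htL⟩ * ⟨t, htL⟩ : L) = 1 := Subtype.ext ht.1
      rw [this, map_one]
    · rw [← map_mul]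
      have : (⟨u, huL⟩ * ⟨u, huL⟩ : L) = 1 := Subtype.ext hu.1
      rw [this, map_one]
    · rw [← map_mul, ← map_mul]
      congr 1
      exact Subtype.ext hc
  have h2 : e ⟨c, hcL⟩ = 1 := by
    apply Cfsg.Agent.Lib.PSL2Four.eq_one_of_odd (two_ne_zero hodd) h1
    · rw [← map_mul, ← map_mul]
      congr 1
      exact Subtype.ext hct
    · rw [← map_mul, ← map_mul]
      congr 1
      exact Subtype.ext hcu
    · rw [MulEquiv.orderOf_eq, Subgroup.orderOf_mk]
      exact ho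
  exact congrArg Subtype.val ((map_eq_one_iff e e.injective).1 h2)

/-- **(Z1)** -/
theorem z1 (h : ZHyp G t) (g : Good t u x) (hL : IsComp x L) (htL : t ∈ L) (huL : u ∈ L)
    {y : G} (hy : y ∈ fittingOf (Kc t)) (hyu : y * u = u * y) (hyx : y * x = x * y) {s n : ℕ}
    (hs : s.Prime) (hys : y ^ s ^ n = 1) : y ∈ centralizer (L : Set G) := by
  have hpsl := (exists_equiv h g hL htL huL).1
  obtain ⟨F, i1, i2, hodd, -, ⟨e⟩⟩ := id hpsl
  have hyK : y ∈ Kc t := FitAux.fittingOf_le _ hy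
  have hyt := ((mem_Kc_iff h.sub h.inv).1 hyK).1
  have hyo := ((mem_Kc_iff h.sub h.inv).1 hyK).2
  by_cases hy1 : y = 1
  · rw [hy1]; exact one_mem _
  have hs2 : s ≠ 2 := by
    rintro rfl
    apply hy1
    rw [← orderOf_eq_one_iff]
    have h1 : orderOf y ∣ 2 ^ n := orderOf_dvd_of_pow_eq_one hys
    exact Nat.Coprime.eq_one_of_dvd (Nat.Coprime.pow_right n (Nat.coprime_two_right.2 hyo)) h1
  have := Fact.mk hs
  have hyN : y ∈ normalizer (L : Set G) := hL.normal (mem_centralizer_singleton_iff.2 hyx)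
  let α : MulAut L := L.normalizerMonoidHom ⟨y, hyN⟩
  have hα : ∀ z : L, ((α z : L) : G) = y * z * y⁻¹ := fun z => rfl
  have hαpow : α ^ s ^ n = 1 := by
    have h1 : (⟨y, hyN⟩ : normalizer (L : Set G)) ^ s ^ n = 1 := Subtype.ext hys
    show L.normalizerMonoidHom ⟨y, hyN⟩ ^ s ^ n = 1
    rw [← map_pow, h1, map_one]
  have hαt : α ⟨t, htL⟩ = ⟨t, htL⟩ := by
    apply Subtype.ext
    rw [hα]
    show y * t * y⁻¹ = t
    rw [hyt]; group
  -- `y ∈ O_s(K)`
  have hyz : zpowers y ≤ piCoreOf {s} (Kc t) := by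
    apply FitCores.le_core_of_le_fittingOf hs (zpowers_le.2 hy)
    apply IsPGroup.of_card (n := (Nat.card (zpowers y)).factorization s)
    have h1 : Nat.card (zpowers y) ∣ s ^ n := by
      rw [Nat.card_zpowers]; exact orderOf_dvd_of_pow_eq_one hys
    obtain ⟨m, -, hm⟩ := (Nat.dvd_prime_pow hs).1 h1
    rw [hm, Nat.Prime.factorization_pow hs, Finsupp.single_eq_same]
  have hyO : y ∈ piCoreOf {s} (Kc t) := hyz (mem_zpowers y)
  have hOp : IsPGroup s (piCoreOf {s} (Kc t)) := FitCores.isPGroup_piCoreOf hs _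
  obtain ⟨c, hct, hcpow, hc⟩ := Cfsg.Agent.Lib.PSL2Inv.exists_inner_of_fix (two_ne_zero hodd) e
    (t := ⟨t, htL⟩) (fun hh => h.inv.2 (congrArg Subtype.val hh)) (Subtype.ext h.inv.1) hs hs2
    hαpow hαt (by
      intro z hzt hzo
      have hzK : (z : G) ∈ Kc t := by
        rw [mem_Kc_iff h.sub h.inv]
        refine ⟨congrArg Subtype.val hzt, ?_⟩
        rw [Subgroup.orderOf_coe]; exact hzo
      have h1 : (z : G)⁻¹ * y * z ∈ piCoreOf {s} (Kc t) := by
        have h2 := (mem_normalizer_iff.1 (le_normalizer_piCoreOf {s} (Kc t) (inv_mem hzK)) y).1 hyO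
        rwa [inv_inv] at h2
      have h3 : (z : G)⁻¹ * (y * z * y⁻¹) ∈ piCoreOf {s} (Kc t) := by
        have h4 : (z : G)⁻¹ * (y * z * y⁻¹) = ((z : G)⁻¹ * y * z) * y⁻¹ := by group
        rw [h4]
        exact mul_mem h1 (inv_mem hyO)
      obtain ⟨j, hj⟩ := hOp ⟨_, h3⟩
      refine ⟨j, ?_⟩
      apply Subtype.ext
      have h5 : ((z : G)⁻¹ * (y * z * y⁻¹)) ^ s ^ j = 1 := congrArg Subtype.val hj
      exact h5)
  -- `c` centralises `u`, hence `c = 1`
  have hcu : (c : G) * u = u * c := by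
    have h1 := congrArg Subtype.val (hc ⟨u, huL⟩)
    rw [hα] at h1
    have h2 : y * u * y⁻¹ = (c : G) * u * (c : G)⁻¹ := h1
    have h3 : y * u * y⁻¹ = u := by rw [hyu]; group
    rw [h3] at h2
    exact (mul_inv_eq_iff_eq_mul.1 h2.symm)
  have hco : Odd (orderOf (c : G)) := by
    have h1 : orderOf c ∣ s ^ n := orderOf_dvd_of_pow_eq_one hcpow
    rw [Subgroup.orderOf_coe]
    exact Odd.of_dvd_nat ((hs.odd_of_ne_two hs2).pow) h1
  have hc1 : (c : G) = 1 := hpsl.eq_one_of_odd h.inv g.inv_u g.comm g.ne htL huL c.2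
    (congrArg Subtype.val hct) hcu hco
  rw [mem_centralizer_iff]
  intro z hz
  have h1 := congrArg Subtype.val (hc ⟨z, hz⟩)
  rw [hα] at h1
  have h2 : y * z * y⁻¹ = (c : G) * z * (c : G)⁻¹ := h1
  rw [hc1, one_mul, inv_one, mul_one] at h2
  exact (mul_inv_eq_iff_eq_mul.1 h2).symm

/-- Elements of prime power order in the Fitting subgroup. -/
theorem mem_core_of_pow {K : Subgroup G} {y : G} (hy : y ∈ fittingOf K) {s n : ℕ} (hs : s.Prime)
    (hys : y ^ s ^ n = 1) : y ∈ piCoreOf {s} K := by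
  have hyz : zpowers y ≤ piCoreOf {s} K := by
    apply FitCores.le_core_of_le_fittingOf hs (zpowers_le.2 hy)
    apply IsPGroup.of_card (n := (Nat.card (zpowers y)).factorization s)
    have h1 : Nat.card (zpowers y) ∣ s ^ n := by
      rw [Nat.card_zpowers]; exact orderOf_dvd_of_pow_eq_one hys
    obtain ⟨m, -, hm⟩ := (Nat.dvd_prime_pow hs).1 h1
    rw [hm, Nat.Prime.factorization_pow hs, Finsupp.single_eq_same]
  exact hyz (mem_zpowers y)

/-- A subgroup is generated by its elements of prime power order. -/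
theorem le_of_prime_pow {X C : Subgroup G}
    (h : ∀ y ∈ X, ∀ s n : ℕ, s.Prime → y ^ s ^ n = 1 → y ∈ C) : X ≤ C := by
  rw [← subgroupOf_eq_top]
  apply Cfsg.Agent.Lib.Cores.eq_top_of_sylow_le
  intro p hp
  obtain ⟨P⟩ : Nonempty (Sylow p X) := inferInstance
  refine ⟨P, fun y hy => ?_⟩
  obtain ⟨n, hn⟩ := P.2 ⟨y, hy⟩
  have h1 : y ^ p ^ n = 1 := congrArg Subtype.val hn
  exact h y y.2 p n hp.out (congrArg Subtype.val h1)

omit [Finite G] in
theorem isComp_unique {y : G} {L L' : Subgroup G} (h1 : IsComp y L) (h2 : IsComp y L') : L = L' :=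
  le_antisymm (h2.perf_le L h1.le h1.perfect) (h1.perf_le L' h2.le h2.perfect)

/-- If `y ∈ F(K)` centralises `L ∋ t, u` then `(t, u, y)` is good. -/
theorem good_of_centralizes (h : ZHyp G t) (g : Good t u x) (hpsl : IsPsl L) (htL : t ∈ L)
    (huL : u ∈ L) {y : G} (hy : y ∈ fittingOf (Kc t)) (hy1 : y ≠ 1)
    (hyL : y ∈ centralizer (L : Set G)) : Good t u y := by
  obtain ⟨k, hk, hk1, hk2⟩ := hpsl.exists_fuse h.inv g.inv_u g.comm g.ne htL huL
  refine ⟨g.inv_u, g.comm, g.ne, hy, hy1, ?_, k, ?_, hk1, hk2⟩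
  · exact ((mem_centralizer_iff.1 hyL) u huL).symm
  · exact (mem_centralizer_iff.1 hyL) k hk

/-- **(Z2)**, first form. -/
theorem z2_aux (h : ZHyp G t) (g : Good t u x) :
    ∃ L : Subgroup G, t ∈ L ∧ u ∈ L ∧ IsPsl L ∧ (∃ y ∈ L, y * t = t * y ∧ Odd (orderOf y) ∧ y ≠ 1) ∧
      ∀ y ∈ fittingOf (Kc t), y * u = u * y → y ≠ 1 → Good t u y ∧ IsComp y L := by
  -- an element `x'` of prime order
  obtain ⟨p, hp, hpx⟩ := Nat.exists_prime_and_dvd
    (fun hh => g.ne_one (orderOf_eq_one_iff.1 hh) : orderOf x ≠ 1)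
  have := Fact.mk hp
  set K := Kc t with hK
  set x' := x ^ (orderOf x / p) with hx'
  have hx'p : orderOf x' = p := by
    rw [hx', orderOf_pow_orderOf_div (orderOf_pos x).ne' hpx]
  have hx'1 : x' ≠ 1 := by
    intro hh
    rw [hh, orderOf_one] at hx'p
    exact hp.one_lt.ne hx'p
  have hx'F : x' ∈ fittingOf K := pow_mem g.mem _
  have hx'c : ∀ k : G, k * x = x * k → k * x' = x' * k := by
    intro k hk
    exact ((show Commute k x from hk).pow_right _).eq
  have g' : Good t u x' := by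
    obtain ⟨k, hkx, hk1, hk2⟩ := g.fused
    exact ⟨g.inv_u, g.comm, g.ne, hx'F, hx'1, (hx'c u g.comm_u.symm).symm, k, hx'c k hkx, hk1, hk2⟩
  obtain ⟨L', hL', htL', huL'⟩ := exists_isComp h g'
  -- the central element `z`
  set Xp := piCoreOf {p} K ⊓ centralizer ({u} : Set G) with hXp
  have hXpg : IsPGroup p Xp := (FitCores.isPGroup_piCoreOf hp _).to_le inf_le_left
  have hx'pow : x' ^ p ^ 1 = 1 := by rw [pow_one, ← hx'p, pow_orderOf_eq_one]
  have hx'X : x' ∈ Xp := mem_inf.2 ⟨mem_core_of_pow hx'F hp hx'pow,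
    mem_centralizer_singleton_iff.2 g'.comm_u⟩
  have hnt : Nontrivial Xp := ⟨⟨⟨x', hx'X⟩, 1, fun hh => hx'1 (congrArg Subtype.val hh)⟩⟩
  have hcn := hXpg.center_nontrivial
  obtain ⟨z0, hz01⟩ := exists_ne (1 : center Xp)
  set z : G := ((z0 : Xp) : G) with hz
  have hz1 : z ≠ 1 := fun hh => hz01 (Subtype.ext (Subtype.ext hh))
  have hzX : z ∈ Xp := (z0 : Xp).2
  have hzc : ∀ y ∈ Xp, y * z = z * y := fun y hy =>
    congrArg Subtype.val ((mem_center_iff.1 z0.2) ⟨y, hy⟩)
  have hzO : z ∈ piCoreOf {p} K := (mem_inf.1 hzX).1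
  have hzF : z ∈ fittingOf K := FitCores.piCoreOf_singleton_le_fittingOf hp _ hzO
  have hzu : z * u = u * z := mem_centralizer_singleton_iff.1 (mem_inf.1 hzX).2
  obtain ⟨m, hm⟩ := hXpg ⟨z, hzX⟩
  have hzpow : z ^ p ^ m = 1 := congrArg Subtype.val hm
  -- `z` centralises `L'`
  have hzL' : z ∈ centralizer (L' : Set G) :=
    z1 h g' hL' htL' huL' hzF hzu (hzc x' hx'X).symm hp hzpow
  have hpsl' := (exists_equiv h g' hL' htL' huL').1
  have gz : Good t u z := good_of_centralizes h g' hpsl' htL' huL' hzF hz1 hzL'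
  obtain ⟨L, hL, htL, huL⟩ := exists_isComp h gz
  obtain ⟨hpsl, hodd⟩ := exists_equiv h gz hL htL huL
  -- prime power elements commute with `z`
  have hcomm : ∀ y ∈ fittingOf K, y * u = u * y → ∀ s n : ℕ, s.Prime → y ^ s ^ n = 1 →
      y * z = z * y := by
    intro y hy hyu s n hs hys
    have hyO := mem_core_of_pow hy hs hys
    by_cases hsp : s = p
    · subst hsp
      exact hzc y (mem_inf.2 ⟨hyO, mem_centralizer_singleton_iff.2 hyu⟩)
    · have h1 := FitCores.core_le_centralizer_core hs hp hsp K hyO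
      exact ((mem_centralizer_iff.1 h1) z hzO).symm
  -- all of `X` centralises `L`
  have hXL : fittingOf K ⊓ centralizer ({u} : Set G) ≤ centralizer (L : Set G) := by
    apply le_of_prime_pow
    intro y hy s n hs hys
    obtain ⟨hyF, hyu⟩ := mem_inf.1 hy
    rw [mem_centralizer_singleton_iff] at hyu
    exact z1 h gz hL htL huL hyF hyu (hcomm y hyF hyu s n hs hys) hs hys
  refine ⟨L, htL, huL, hpsl, hodd, fun y hy hyu hy1 => ?_⟩
  have hyL : y ∈ centralizer (L : Set G) :=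
    hXL (mem_inf.2 ⟨hy, mem_centralizer_singleton_iff.2 hyu⟩)
  have gy : Good t u y := good_of_centralizes h gz hpsl htL huL hy hy1 hyL
  refine ⟨gy, ?_⟩
  obtain ⟨M, hM, htM, huM⟩ := exists_isComp h gy
  have h1 : L ≤ M := hM.perf_le L (by
    intro l hl
    rw [mem_centralizer_singleton_iff]
    exact (mem_centralizer_iff.1 hyL) l hl) hL.perfect
  have h2 : M ≤ L := by
    obtain ⟨s, hs, hsy⟩ := Nat.exists_prime_and_dvd
      (fun hh => hy1 (orderOf_eq_one_iff.1 hh) : orderOf y ≠ 1)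
    have := Fact.mk hs
    set y' := y ^ (orderOf y / s) with hy'
    have hy's : orderOf y' = s := by
      rw [hy', orderOf_pow_orderOf_div (orderOf_pos y).ne' hsy]
    have hy'1 : y' ≠ 1 := by
      intro hh
      rw [hh, orderOf_one] at hy's
      exact hs.one_lt.ne hy's
    have hy'F : y' ∈ fittingOf K := pow_mem hy _
    have hy'c : ∀ k : G, k * y = y * k → k * y' = y' * k := by
      intro k hk
      exact ((show Commute k y from hk).pow_right _).eq
    have hy'u : y' * u = u * y' := (hy'c u hyu.symm).symm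
    have gy' : Good t u y' := by
      obtain ⟨k, hkx, hk1, hk2⟩ := gy.fused
      exact ⟨gy.inv_u, gy.comm, gy.ne, hy'F, hy'1, hy'u, k, hy'c k hkx, hk1, hk2⟩
    obtain ⟨M', hM', htM', huM'⟩ := exists_isComp h gy'
    have h3 : M ≤ M' := hM'.perf_le M (by
      intro l hl
      rw [mem_centralizer_singleton_iff]
      exact hy'c l (mem_centralizer_singleton_iff.1 (hM.le hl))) hM.perfect
    have hy'pow : y' ^ s ^ 1 = 1 := by rw [pow_one, ← hy's, pow_orderOf_eq_one]
    have h4 : z ∈ centralizer (M' : Set G) :=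
      z1 h gy' hM' htM' huM' hzF hzu (hcomm y' hy'F hy'u s 1 hs hy'pow).symm hp hzpow
    have h5 : M' ≤ L := hL.perf_le M' (by
      intro l hl
      rw [mem_centralizer_singleton_iff]
      exact (mem_centralizer_iff.1 h4) l hl) hM'.perfect
    exact h3.trans h5
  rw [le_antisymm h1 h2]
  exact hM

end

/-- The base data of type Z: the common component `L ≅ PSL(2, q)`. -/
structure Data {G : Type u} [Group G] [Finite G] (t u : G) (L : Subgroup G) : Prop where
  inv_u : IsInv u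
  comm : t * u = u * t
  ne : u ≠ t
  mem_t : t ∈ L
  mem_u : u ∈ L
  psl : IsPsl L
  perfect : ⁅L, L⁆ = L
  comp : ∀ y ∈ fittingOf (Kc t), y * u = u * y → y ≠ 1 → Good t u y ∧ IsComp y L
  ex : ∃ y ∈ fittingOf (Kc t), y * u = u * y ∧ y ≠ 1
  odd_elt : ∃ y ∈ L, y * t = t * y ∧ Odd (orderOf y) ∧ y ≠ 1

section

variable {G : Type u} [Group G] [Finite G] {t u x : G} {L : Subgroup G}

/-- **(Z2)** -/
theorem exists_data (h : ZHyp G t) (g : Good t u x) : ∃ L : Subgroup G, Data t u L := by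
  obtain ⟨L, h1, h2, h3, h4, h5⟩ := z2_aux h g
  exact ⟨L, g.inv_u, g.comm, g.ne, h1, h2, h3, (h5 x g.mem g.comm_u g.ne_one).2.perfect, h5,
    ⟨x, g.mem, g.comm_u, g.ne_one⟩, h4⟩

namespace Data

theorem isComp (b : Data t u L) {y : G} (hy : y ∈ fittingOf (Kc t)) (hyu : y * u = u * y)
    (hy1 : y ≠ 1) : IsComp y L := (b.comp y hy hyu hy1).2

theorem good (b : Data t u L) {y : G} (hy : y ∈ fittingOf (Kc t)) (hyu : y * u = u * y)
    (hy1 : y ≠ 1) : Good t u y := (b.comp y hy hyu hy1).1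

theorem unique {L' : Subgroup G} (b : Data t u L) (b' : Data t u L') : L = L' := by
  obtain ⟨y, h1, h2, h3⟩ := b.ex
  exact isComp_unique (b.isComp h1 h2 h3) (b'.isComp h1 h2 h3)

/-- `X = C_F(u)` centralises `L`. -/
theorem mem_centralizer (b : Data t u L) {y : G} (hy : y ∈ fittingOf (Kc t))
    (hyu : y * u = u * y) : y ∈ centralizer (L : Set G) := by
  by_cases hy1 : y = 1
  · rw [hy1]; exact one_mem _
  · rw [mem_centralizer_iff]
    intro l hl
    exact mem_centralizer_singleton_iff.1 ((b.isComp hy hyu hy1).le hl)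

/-- `C_F(u) = C_F(L)` -/
theorem fitting_inf (b : Data t u L) : fittingOf (Kc t) ⊓ centralizer ({u} : Set G) =
    fittingOf (Kc t) ⊓ centralizer (L : Set G) := by
  apply le_antisymm
  · intro y hy
    obtain ⟨h1, h2⟩ := mem_inf.1 hy
    exact mem_inf.2 ⟨h1, b.mem_centralizer h1 (mem_centralizer_singleton_iff.1 h2)⟩
  · intro y hy
    obtain ⟨h1, h2⟩ := mem_inf.1 hy
    exact mem_inf.2 ⟨h1, mem_centralizer_singleton_iff.2
      ((mem_centralizer_iff.1 h2) u b.mem_u).symm⟩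

/-- `C(y) ≤ N(L)` for `1 ≠ y ∈ C_F(u)`. -/
theorem centralizer_le (b : Data t u L) {y : G} (hy : y ∈ fittingOf (Kc t)) (hyu : y * u = u * y)
    (hy1 : y ≠ 1) : centralizer ({y} : Set G) ≤ normalizer (L : Set G) :=
  (b.isComp hy hyu hy1).normal

end Data

omit [Finite G] in
theorem mem_normalizer_of_map_le [Finite G] {L : Subgroup G} {g : G}
    (h : L.map (MulAut.conj g).toMonoidHom ≤ L) : g ∈ normalizer (L : Set G) := by
  apply mem_normalizer_of_conj
  intro x hx
  exact h ⟨x, hx, rfl⟩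

namespace Data

/-- `C_F(u)` is a TI-subset with respect to `N(L)`: if `y, g y g⁻¹ ∈ C_F(u)`, `y ≠ 1`, then
`g` normalises `L`. -/
theorem mem_normalizer (b : Data t u L) {y g : G} (hy : y ∈ fittingOf (Kc t))
    (hyu : y * u = u * y) (hy1 : y ≠ 1) (hgy : g * y * g⁻¹ ∈ fittingOf (Kc t))
    (hgu : (g * y * g⁻¹) * u = u * (g * y * g⁻¹)) : g ∈ normalizer (L : Set G) := by
  have hg1 : g * y * g⁻¹ ≠ 1 := by
    intro hh
    apply hy1
    calc y = g⁻¹ * (g * y * g⁻¹) * g := by group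
      _ = 1 := by rw [hh]; group
  have h1 := b.isComp hy hyu hy1
  have h2 := b.isComp hgy hgu hg1
  apply mem_normalizer_of_map_le
  apply h2.perf_le
  · rintro _ ⟨l, hl, rfl⟩
    rw [mem_centralizer_singleton_iff]
    have h3 := mem_centralizer_singleton_iff.1 (h1.le hl)
    show g * l * g⁻¹ * (g * y * g⁻¹) = (g * y * g⁻¹) * (g * l * g⁻¹)
    calc g * l * g⁻¹ * (g * y * g⁻¹) = g * (l * y) * g⁻¹ := by group
      _ = g * (y * l) * g⁻¹ := by rw [h3]
      _ = _ := by group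
  · rw [← Subgroup.map_commutator, b.perfect]

/-- `C_K(u) ≤ N(L)`; more generally `C(t) ∩ C(u) ≤ N(L)`. -/
theorem mem_normalizer_of_comm (b : Data t u L) {k : G} (hkt : k * t = t * k)
    (hku : k * u = u * k) : k ∈ normalizer (L : Set G) := by
  obtain ⟨y, h1, h2, h3⟩ := b.ex
  have hkK : k ∈ normalizer (Kc t : Set G) :=
    normalizer_Kc_le t (mem_centralizer_singleton_iff.2 hkt)
  have hkF : k ∈ normalizer (fittingOf (Kc t) : Set G) :=
    NilpotentHall.normalizer_le_normalizer_fittingOf _ hkK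
  apply b.mem_normalizer h1 h2 h3 ((mem_normalizer_iff.1 hkF y).1 h1)
  have h4 : k⁻¹ * u = u * k⁻¹ := by
    rw [inv_mul_eq_iff_eq_mul, ← mul_assoc, hku, mul_assoc, mul_inv_cancel, mul_one]
  calc k * y * k⁻¹ * u = k * y * (k⁻¹ * u) := by group
    _ = k * (y * u) * k⁻¹ := by rw [h4]; group
    _ = (k * u) * y * k⁻¹ := by rw [h2]; group
    _ = u * (k * y * k⁻¹) := by rw [hku]; group

theorem inf_centralizer_le (b : Data t u L) :
    Kc t ⊓ centralizer ({u} : Set G) ≤ normalizer (L : Set G) := by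
  intro k hk
  obtain ⟨h1, h2⟩ := mem_inf.1 hk
  exact b.mem_normalizer_of_comm (mem_centralizer_singleton_iff.1 (Kc_le t h1))
    (mem_centralizer_singleton_iff.1 h2)

/-- `N(Y) ≤ N(L)` for `1 ≠ Y ≤ C_F(u)`. -/
theorem normalizer_le (b : Data t u L) {Y : Subgroup G} (hY : Y ≤ fittingOf (Kc t))
    (hYu : Y ≤ centralizer ({u} : Set G)) (hY1 : Y ≠ ⊥) :
    normalizer (Y : Set G) ≤ normalizer (L : Set G) := by
  intro g hg
  obtain ⟨y, hy, hy1⟩ := Y.bot_or_exists_ne_one.resolve_left hY1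
  have h1 := (mem_normalizer_iff.1 hg y).1 hy
  exact b.mem_normalizer (hY hy) (mem_centralizer_singleton_iff.1 (hYu hy)) hy1 (hY h1)
    (mem_centralizer_singleton_iff.1 (hYu h1))

/-- `t` is not central in `L`. -/
theorem not_le_centralizer (h : ZHyp G t) (b : Data t u L) :
    ¬ L ≤ centralizer ({t} : Set G) := by
  intro hle
  obtain ⟨k, hk, hk1, -⟩ := b.psl.exists_fuse h.inv b.inv_u b.comm b.ne b.mem_t b.mem_u
  apply b.ne
  have h1 := mem_centralizer_singleton_iff.1 (hle hk)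
  rw [← hk1, h1]
  group

/-- (B5) No prime is special. -/
theorem not_special (h : ZHyp G t) (b : Data t u L) {p : ℕ} (hp : p.Prime)
    (hpF : p ∣ Nat.card (fittingOf (Kc t))) :
    ¬ piCoreOf {p} (Kc t) ≤ centralizer ({u} : Set G) := by
  intro hle
  have hO1 : piCoreOf {p} (Kc t) ≠ ⊥ := by
    intro hbot
    obtain ⟨y, hy, hyp⟩ := FitCores.exists_mem_orderOf hp hpF
    have h1 : y ∈ piCoreOf {p} (Kc t) :=
      mem_core_of_pow hy hp (n := 1) (by rw [pow_one, ← hyp, pow_orderOf_eq_one])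
    rw [hbot, mem_bot] at h1
    rw [h1, orderOf_one] at hyp
    exact hp.one_lt.ne hyp
  have hLc : L ≤ centralizer (piCoreOf {p} (Kc t) : Set G) := by
    intro l hl
    rw [mem_centralizer_iff]
    intro y hy
    have h1 := b.mem_centralizer (FitCores.piCoreOf_singleton_le_fittingOf hp _ hy)
      (mem_centralizer_singleton_iff.1 (hle hy))
    exact ((mem_centralizer_iff.1 h1) l hl).symm
  apply b.not_le_centralizer h
  intro l hl
  rw [mem_centralizer_singleton_iff]
  apply h.commute_of_mem_normalizer (X := piCoreOf {p} (Kc t))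
    (h.ne_top_of_odd (odd_of_le (piCoreOf_le _ _) (odd_Kc t))) hO1
  · exact (normalizer_Kc_le t).trans (normalizer_le_normalizer_piCoreOf _ _)
  · exact centralizer_le_normalizer _ (hLc hl)

end Data

end

end Cfsg.Agent.Classification.TypeZ.Base
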