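import Mathlib
import Cfsg.Agent.Classification.TypeB.Core
import Cfsg.Agent.Classification.TypeZ.Critical
import Cfsg.Agent.Transfer.TausskyTwoGroup

/-!
# Type Z of the Gorenstein–Walter theorem: an involution and a critical subgroup

The elementary part of the proof of `S ≤ L`: a group `B` of odd order inverted by the involution
`w` acts on the `p`-group `P`; the elements of `P ⊓ M` are inverted by `w` and
`C_P(x) ≤ M` for `1 ≠ x ∈ C_P(u)`. If `|B| ≥ p + 2`, then some element `≠ 1` of `B`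
centralises `P`.
-/

set_option autoImplicit false

namespace Cfsg.Agent.Classification.TypeZ.BetaCrit

open Subgroup Cfsg
open Cfsg.Agent.Classification.TypeB.Basic Cfsg.Agent.Classification.TypeB.Core
open scoped commutatorElement

section elementary

variable {G : Type*} [Group G]

theorem commute_of_sq {b y : G} (ho : Odd (orderOf b)) (h : Commute (b ^ 2) y) : Commute b y := by
  obtain ⟨n, hn⟩ := ho
  have h1 : (b ^ 2) ^ (n + 1) = b := by
    rw [← pow_mul]
    have h2 : 2 * (n + 1) = (2 * n + 1) + 1 := by ring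
    rw [h2, pow_succ, ← hn, pow_orderOf_eq_one, one_mul]
  rw [← h1]
  exact h.pow_left _

/-- If `b` (of odd order), `y` and `b y b⁻¹` are inverted by `w`, then `b` and `y` commute. -/
theorem commute_of_inverted {w b y : G} (hb : w * b * w⁻¹ = b⁻¹) (ho : Odd (orderOf b))
    (hy : w * y * w⁻¹ = y⁻¹) (hby : w * (b * y * b⁻¹) * w⁻¹ = (b * y * b⁻¹)⁻¹) :
    b * y = y * b := by
  have h1 : w * (b * y * b⁻¹) * w⁻¹ = (w * b * w⁻¹) * (w * y * w⁻¹) * (w * b * w⁻¹)⁻¹ := by group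
  rw [h1, hb, hy, inv_inv] at hby
  -- b⁻¹ y⁻¹ b = (b y b⁻¹)⁻¹
  have h2 : y * (b * b) = (b * b) * y := by
    have h3 : b⁻¹ * y⁻¹ * b = b * y⁻¹ * b⁻¹ := by rw [hby]; group
    have h4 : y⁻¹ * (b * b) = (b * b) * y⁻¹ := by
      calc y⁻¹ * (b * b) = b * (b⁻¹ * y⁻¹ * b) * b := by group
        _ = b * (b * y⁻¹ * b⁻¹) * b := by rw [h3]
        _ = _ := by group
    calc y * (b * b) = y * ((b * b) * y⁻¹) * y := by group
      _ = y * (y⁻¹ * (b * b)) * y := by rw [h4]
      _ = _ := by group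
  have h5 : Commute (b ^ 2) y := by
    rw [sq]; exact h2.symm
  exact commute_of_sq ho h5

end elementary

section crit

variable {G : Type*} [Group G] [Finite G]

/-- Hypotheses of the main lemma. -/
structure Hyp (p : ℕ) (P M B : Subgroup G) (u w : G) : Prop where
  prime : p.Prime
  ne_two : p ≠ 2
  pgroup : IsPGroup p P
  inv_u : IsInv u
  norm_u : u ∈ normalizer (P : Set G)
  norm_w : w ∈ normalizer (P : Set G)
  cent : ∀ x ∈ P, x * u = u * x → x ≠ 1 → ∀ y ∈ P, y * x = x * y → y ∈ M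
  inverts : ∀ y ∈ P, y ∈ M → w * y * w⁻¹ = y⁻¹
  small : ∀ Z : Subgroup G, Z ≤ P → Z ≤ M → (∀ z ∈ Z, u * z * u⁻¹ = z⁻¹) → (∀ z ∈ Z, z ^ p = 1) →
    Nat.card Z ≤ p
  norm_B : B ≤ normalizer (P : Set G)
  inv_B : ∀ b ∈ B, w * b * w⁻¹ = b⁻¹
  odd_B : ∀ b ∈ B, Odd (orderOf b)
  coprime_B : ∀ b ∈ B, (orderOf b).Coprime p
  card_B : p + 2 ≤ Nat.card B
  ex : ∃ x ∈ P, x * u = u * x ∧ x ≠ 1

namespace Hyp

variable {p : ℕ} {P M B : Subgroup G} {u w : G}

/-- `b ∈ B` centralises `y` if `y, b y b⁻¹ ∈ P ⊓ M`. -/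
theorem commute (h : Hyp p P M B u w) {b y : G} (hb : b ∈ B) (hyP : y ∈ P) (hyM : y ∈ M)
    (hby : b * y * b⁻¹ ∈ M) : b * y = y * b :=
  commute_of_inverted (h.inv_B b hb) (h.odd_B b hb) (h.inverts y hyP hyM)
    (h.inverts _ ((mem_normalizer_iff.1 (h.norm_B hb) y).1 hyP) hby)

theorem odd_P (h : Hyp p P M B u w) : Odd (Nat.card P) := odd_of_isPGroup h.prime h.ne_two h.pgroup

/-- If `B`-invariant `E ≤ P` lies in `M` then `B` centralises `E`. -/
theorem centralizes_of_le (h : Hyp p P M B u w) {E : Subgroup G} (hEP : E ≤ P) (hEM : E ≤ M)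
    {b : G} (hb : b ∈ B) (hbE : b ∈ normalizer (E : Set G)) :
    ∀ y ∈ E, b * y = y * b := fun y hy =>
  h.commute hb (hEP hy) (hEM hy) (hEM ((mem_normalizer_iff.1 hbE y).1 hy))

end Hyp

/-- `b` centralises the abelian `p`-group `E`, if some `p`-element `x` acts on `E`, the actions of
`x` and `b` on `E` commute, and `b` centralises `C_E(x)`. -/
theorem commute_of_fixed {p : ℕ} [Fact p.Prime] {E : Subgroup G} (hE : IsPGroup p E)
    (hab : ∀ y ∈ E, ∀ z ∈ E, y * z = z * y) {x b : G} (hx : x ∈ normalizer (E : Set G))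
    (hxp : IsPGroup p (zpowers x)) (hb : b ∈ normalizer (E : Set G)) (hbp : (orderOf b).Coprime p)
    (hcomm : ∀ y ∈ E, x * (b * y * b⁻¹) * x⁻¹ = b * (x * y * x⁻¹) * b⁻¹)
    (hfix : ∀ y ∈ E, x * y = y * x → b * y = y * b) : ∀ y ∈ E, b * y = y * b := by
  -- the map `y ↦ [b, y]` on `E`
  have hcop : (Nat.card (zpowers b)).Coprime (Nat.card E) := by
    obtain ⟨n, hn⟩ := IsPGroup.iff_card.1 hE
    rw [Nat.card_zpowers, hn]
    exact Nat.Coprime.pow_right n hbp
  have hbn : zpowers b ≤ normalizer (E : Set G) := zpowers_le.2 hb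
  -- `D = {b y b⁻¹ y⁻¹}`
  let f : E →* E :=
    { toFun := fun y => ⟨b * y * b⁻¹ * (y : G)⁻¹, mul_mem ((mem_normalizer_iff.1 hb _).1 y.2)
        (inv_mem y.2)⟩
      map_one' := by apply Subtype.ext; simp
      map_mul' := by
        intro y z
        apply Subtype.ext
        show b * (y * z) * b⁻¹ * ((y : G) * z)⁻¹ = (b * y * b⁻¹ * (y : G)⁻¹) * (b * z * b⁻¹ * (z : G)⁻¹)
        have h1 : b * z * b⁻¹ ∈ E := (mem_normalizer_iff.1 hb _).1 z.2
        have h2 : (y : G)⁻¹ * (b * z * b⁻¹ * (z : G)⁻¹) = (b * z * b⁻¹ * (z : G)⁻¹) * (y : G)⁻¹ :=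
          hab _ (inv_mem y.2) _ (mul_mem h1 (inv_mem z.2))
        calc b * (y * z) * b⁻¹ * ((y : G) * z)⁻¹
            = b * y * b⁻¹ * ((b * z * b⁻¹ * (z : G)⁻¹) * (y : G)⁻¹) := by group
          _ = _ := by rw [← h2]; group }
  have hf : ∀ y : E, ((f y : E) : G) = b * y * b⁻¹ * (y : G)⁻¹ := fun y => rfl
  set D : Subgroup G := f.range.map E.subtype with hD
  have hDE : D ≤ E := map_subtype_le _
  have hDmem : ∀ y ∈ E, b * y * b⁻¹ * y⁻¹ ∈ D := fun y hy => ⟨f ⟨y, hy⟩, ⟨⟨y, hy⟩, rfl⟩, rfl⟩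
  by_cases hD1 : D = ⊥
  · intro y hy
    have h1 := hDmem y hy
    rw [hD1, mem_bot] at h1
    have h2 : b * y * b⁻¹ = y := mul_inv_eq_one.1 h1
    exact mul_inv_eq_iff_eq_mul.1 h2
  exfalso
  have hxD : x ∈ normalizer (D : Set G) := by
    apply mem_normalizer_of_conj
    rintro _ ⟨_, ⟨y, rfl⟩, rfl⟩
    have h1 : x * (b * y * b⁻¹ * (y : G)⁻¹) * x⁻¹ =
        b * (x * y * x⁻¹) * b⁻¹ * (x * y * x⁻¹)⁻¹ := by
      rw [← hcomm y y.2]; group
    have h2 := hDmem (x * y * x⁻¹) ((mem_normalizer_iff.1 hx _).1 y.2)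
    rw [← h1] at h2
    exact h2
  -- a fixed point of `x` in `D`
  have hDp : IsPGroup p D := hE.to_le hDE
  obtain ⟨d, hdD, hdx, hd1⟩ : ∃ d ∈ D, x * d = d * x ∧ d ≠ 1 := by
    by_contra hcon
    push Not at hcon
    have h1 : D ⊓ centralizer (zpowers x : Set G) = ⊥ := by
      rw [eq_bot_iff]
      rintro d ⟨hd, hdx⟩
      rw [mem_bot]
      apply hcon d hd
      exact (mem_centralizer_iff.1 hdx) x (mem_zpowers x)
    -- `D ⊔ ⟨x⟩` is a `p`-group, `D` normal
    have hT : IsPGroup p (zpowers x ⊔ D : Subgroup G) :=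
      hxp.to_sup_of_normal_right' hDp (zpowers_le.2 hxD)
    set T : Subgroup G := zpowers x ⊔ D with hTdef
    have hDn : (D.subgroupOf T).Normal := by
      rw [normal_subgroupOf_iff_le_normalizer le_sup_right]
      exact sup_le (zpowers_le.2 hxD) le_normalizer
    have hDb : D.subgroupOf T ≠ ⊥ := by
      rw [Ne, subgroupOf_eq_bot, disjoint_iff, inf_eq_left.2 (le_sup_right : D ≤ T)]
      exact hD1
    obtain ⟨z, hzD, hzc, hz1⟩ :=
      Cfsg.Agent.Transfer.TausskyTwoGroup.exists_ne_one_mem_inf_center hT (D.subgroupOf T) hDb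
    have hzx : x * z = z * x := by
      have h3 := (mem_center_iff.1 hzc) ⟨x, (le_sup_left : zpowers x ≤ T) (mem_zpowers x)⟩
      exact congrArg Subtype.val h3
    exact hz1 (Subtype.ext (hcon z hzD hzx))
  -- `b` centralises `d`
  have hbd := hfix d (hDE hdD) hdx
  obtain ⟨_, ⟨y, rfl⟩, rfl⟩ := hdD
  -- then `b` centralises `y`
  have hbD : (f y : E) = ⟨b * y * b⁻¹ * (y : G)⁻¹, mul_mem ((mem_normalizer_iff.1 hb _).1 y.2)
        (inv_mem y.2)⟩ := rfl
  apply hd1
  show b * y * b⁻¹ * (y : G)⁻¹ = 1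
  have h5 : b * y * b⁻¹ = y := by
    let φ : MulAut E := E.normalizerMonoidHom ⟨b, hb⟩
    have hφ : ∀ y : E, ((φ y : E) : G) = b * y * b⁻¹ := fun y => rfl
    have hφo : (orderOf φ).Coprime p := by
      have h6 : orderOf φ ∣ orderOf (⟨b, hb⟩ : normalizer (E : Set G)) := orderOf_map_dvd _ _
      rw [Subgroup.orderOf_mk] at h6
      exact Nat.Coprime.coprime_dvd_left h6 hbp
    have h7 := Cfsg.Agent.Classification.TypeZ.Critical.fix_of_fix_div hE φ hφo y (by
      apply Subtype.ext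
      rw [hφ]
      show b * ((y : G)⁻¹ * (b * y * b⁻¹)) * b⁻¹ = (y : G)⁻¹ * (b * y * b⁻¹)
      have h8 : (y : G)⁻¹ * (b * y * b⁻¹) = b * y * b⁻¹ * (y : G)⁻¹ :=
        hab _ (inv_mem y.2) _ ((mem_normalizer_iff.1 hb _).1 y.2)
      rw [h8]
      have h9 : b * (b * y * b⁻¹ * (y : G)⁻¹) = (b * y * b⁻¹ * (y : G)⁻¹) * b := hbd
      rw [h9]; group)
    exact congrArg Subtype.val h7
  rw [h5]; group

/-- a group inverted elementwise by `w` is commutative -/
theorem comm_of_inverted {A : Subgroup G} {w : G} (h : ∀ y ∈ A, w * y * w⁻¹ = y⁻¹) :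
    ∀ y ∈ A, ∀ z ∈ A, y * z = z * y := by
  intro y hy z hz
  have h1 := h (y * z) (mul_mem hy hz)
  have h2 : w * (y * z) * w⁻¹ = (w * y * w⁻¹) * (w * z * w⁻¹) := by group
  rw [h2, h y hy, h z hz] at h1
  have h3 := congrArg (·⁻¹) h1
  simp only [mul_inv_rev, inv_inv] at h3
  exact h3.symm

namespace Hyp

variable {p : ℕ} {P M B : Subgroup G} {u w : G}

theorem exists_ne_one (h : Hyp p P M B u w) : ∃ b ∈ B, b ≠ 1 := by
  by_contra hcon
  push Not at hcon
  have h1 : B = ⊥ := eq_bot_iff.2 fun b hb => mem_bot.2 (hcon b hb)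
  have h2 := h.card_B
  rw [h1, card_bot] at h2
  omega

/-- fixed points of `u` are inverted by `w` -/
theorem inverts_fixed (h : Hyp p P M B u w) {c : G} (hc : c ∈ P) (hcu : c * u = u * c) :
    w * c * w⁻¹ = c⁻¹ := by
  by_cases hc1 : c = 1
  · rw [hc1]; group
  · exact h.inverts c hc (h.cent c hc hcu hc1 c hc rfl)

/-- Case A: `E` is inverted by `u`. -/
theorem caseA (h : Hyp p P M B u w) {E : Subgroup G} (hEP : E ≤ P)
    (hNE : normalizer (P : Set G) ≤ normalizer (E : Set G))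
    (hE : ∀ x ∈ E, x * u = u * x → x = 1) {b : G} (hb : b ∈ B) : ∀ y ∈ E, b * y = y * b := by
  have := Fact.mk h.prime
  have hu := h.inv_u
  have huE : u ∈ normalizer (E : Set G) := hNE h.norm_u
  have hwE : w ∈ normalizer (E : Set G) := hNE h.norm_w
  have hbE : b ∈ normalizer (E : Set G) := hNE (h.norm_B hb)
  have hPE : P ≤ normalizer (E : Set G) := le_normalizer.trans hNE
  have hEo : Odd (Nat.card E) := odd_of_le hEP h.odd_P
  have hinv : ∀ x ∈ E, u * x * u⁻¹ = x⁻¹ := fun x hx =>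
    inverts_of_fixedPointFree hu huE (by
      rw [eq_bot_iff]
      rintro y ⟨hy, hyu⟩
      rw [mem_bot]
      exact hE y hy (mem_centralizer_singleton_iff.1 hyu)) hx
  have hab := comm_of_inverted hinv
  -- `[P, u]` centralises `E`
  have hPu : ⁅P, zpowers u⁆ ≤ centralizer (E : Set G) := by
    rw [commutator_le]
    rintro y hy _ ⟨n, rfl⟩
    rw [mem_centralizer_iff]
    intro e he
    rcases Int.even_or_odd' n with ⟨m, hm | hm⟩
    · have h1 : u ^ n = 1 := by rw [hm, zpow_mul, zpow_ofNat, sq, hu.1, one_zpow]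
      show e * ⁅y, u ^ n⁆ = ⁅y, u ^ n⁆ * e
      rw [h1]; simp
    · have h1 : u ^ n = u := by
        rw [hm, zpow_add, zpow_mul, zpow_ofNat, sq, hu.1, one_zpow, one_mul, zpow_one]
      show e * ⁅y, u ^ n⁆ = ⁅y, u ^ n⁆ * e
      rw [h1, commutatorElement_def]
      have h2 : u⁻¹ * e * u = e⁻¹ := by
        have := hinv e he
        rw [hu.inv_eq] at this ⊢
        exact this
      have h3 : y⁻¹ * e⁻¹ * y ∈ E := by
        have := (mem_normalizer_iff.1 (inv_mem (hPE hy)) e⁻¹).1 (inv_mem he)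
        rwa [inv_inv] at this
      have h4 := hinv _ h3
      have h5 : (y * u * y⁻¹ * u⁻¹) * e * (y * u * y⁻¹ * u⁻¹)⁻¹ = e := by
        calc (y * u * y⁻¹ * u⁻¹) * e * (y * u * y⁻¹ * u⁻¹)⁻¹
            = y * (u * (y⁻¹ * (u⁻¹ * e * u) * y) * u⁻¹) * y⁻¹ := by group
          _ = y * (y⁻¹ * e⁻¹ * y)⁻¹ * y⁻¹ := by rw [h2, h4]
          _ = e := by group
      exact (mul_inv_eq_iff_eq_mul.1 h5).symm
  -- the action of `y ∈ P` is the action of some `c ∈ C_P(u)`
  have hact : ∀ y ∈ P, ∃ c ∈ P, c * u = u * c ∧ ∀ e ∈ E, y * e * y⁻¹ = c * e * c⁻¹ := by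
    intro y hy
    obtain ⟨m, hm, c, hc, rfl⟩ := Lib.CoprimeCommutator.exists_commutator_mul_fixed_of_isPGroup 2
      (zpowers u) P hu.isPGroup (by rw [zpowers_le]; exact h.norm_u) (not_two_dvd h.odd_P) y hy
    rw [centralizer_zpowers] at hc
    refine ⟨c, hc.1, mem_centralizer_singleton_iff.1 hc.2, fun e he => ?_⟩
    have h1 : c * e * c⁻¹ ∈ E := (mem_normalizer_iff.1 (hPE hc.1) e).1 he
    have h2 := (mem_centralizer_iff.1 (hPu hm)) _ h1
    calc m * c * e * (m * c)⁻¹ = m * (c * e * c⁻¹) * m⁻¹ := by group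
      _ = c * e * c⁻¹ := by rw [← h2]; group
  obtain ⟨x, hx, hxu, hx1⟩ := h.ex
  -- the actions of `b` and `x` commute
  let φ : normalizer (E : Set G) →* MulAut E := E.normalizerMonoidHom
  have hφ : ∀ (g : normalizer (E : Set G)) (y : E), ((φ g y : E) : G) = g * y * (g : G)⁻¹ :=
    fun g y => rfl
  set β : normalizer (E : Set G) := ⟨b, hbE⟩ with hβ
  set ω : normalizer (E : Set G) := ⟨w, hwE⟩ with hω
  set ξ : normalizer (E : Set G) := ⟨x, hPE hx⟩ with hξ
  have hcomm : φ β * φ ξ = φ ξ * φ β := by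
    apply commute_of_inverted (w := φ ω)
    · rw [← map_inv, ← map_mul, ← map_mul, ← map_inv]
      congr 1
      exact Subtype.ext (h.inv_B b hb)
    · have h1 : orderOf (φ β) ∣ orderOf β := orderOf_map_dvd _ _
      rw [hβ, Subgroup.orderOf_mk] at h1
      exact (h.odd_B b hb).of_dvd_nat h1
    · rw [← map_inv, ← map_mul, ← map_mul, ← map_inv]
      congr 1
      exact Subtype.ext (h.inverts_fixed hx hxu)
    · have h1 : b * x * b⁻¹ ∈ P := (mem_normalizer_iff.1 (h.norm_B hb) x).1 hx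
      obtain ⟨c, hc, hcu, hce⟩ := hact _ h1
      have h2 : φ β * φ ξ * (φ β)⁻¹ = φ ⟨c, hPE hc⟩ := by
        rw [← map_inv, ← map_mul, ← map_mul]
        apply MulEquiv.ext
        intro y
        apply Subtype.ext
        rw [hφ, hφ]
        exact hce y y.2
      rw [h2, ← map_inv, ← map_mul, ← map_mul, ← map_inv]
      congr 1
      exact Subtype.ext (h.inverts_fixed hc hcu)
  have hcomm' : ∀ y ∈ E, x * (b * y * b⁻¹) * x⁻¹ = b * (x * y * x⁻¹) * b⁻¹ := by
    intro y hy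
    have h1 := congrArg (fun f : MulAut E => ((f ⟨y, hy⟩ : E) : G)) hcomm
    exact h1.symm
  have hxM : ∀ y ∈ E, x * y = y * x → y ∈ M := fun y hy hxy =>
    h.cent x hx hxu hx1 y (hEP hy) hxy.symm
  refine commute_of_fixed (h.pgroup.to_le hEP) hab (hPE hx) ?_ hbE (h.coprime_B b hb) hcomm' ?_
  · exact h.pgroup.to_le (zpowers_le.2 hx)
  · intro y hy hxy
    refine h.commute hb (hEP hy) (hxM y hy hxy) ?_
    have h1 : b * y * b⁻¹ ∈ E := (mem_normalizer_iff.1 hbE y).1 hy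
    apply hxM _ h1
    have h2 : x * y * x⁻¹ = y := by rw [hxy]; group
    have h3 := hcomm' y hy
    rw [h2] at h3
    exact mul_inv_eq_iff_eq_mul.1 h3

omit [Finite G] in
theorem normalizer_le_center [Finite G] (E : Subgroup G) : normalizer (E : Set G) ≤
    normalizer ((E ⊓ centralizer (E : Set G) : Subgroup G) : Set G) := by
  intro g hg
  apply mem_normalizer_of_conj
  rintro z ⟨hz, hzc⟩
  refine ⟨(mem_normalizer_iff.1 hg z).1 hz, ?_⟩
  show g * z * g⁻¹ ∈ centralizer (E : Set G)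
  rw [mem_centralizer_iff]
  intro e he
  have h1 : g⁻¹ * e * g ∈ E := by
    have := (mem_normalizer_iff.1 (inv_mem hg) e).1 he
    rwa [inv_inv] at this
  have h2 := (mem_centralizer_iff.1 hzc) _ h1
  calc e * (g * z * g⁻¹) = g * (g⁻¹ * e * g * z) * g⁻¹ := by group
    _ = g * (z * (g⁻¹ * e * g)) * g⁻¹ := by rw [h2]
    _ = _ := by group

/-- Case B: `E` (of class two and exponent `p`) contains a fixed point of `u`. -/
theorem caseB (h : Hyp p P M B u w) {E : Subgroup G} (hEP : E ≤ P)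
    (hNE : normalizer (P : Set G) ≤ normalizer (E : Set G))
    (hcl : ∀ x ∈ E, ∀ y ∈ E, ∀ z ∈ E, Commute ⁅x, y⁆ z) (hexp : ∀ x ∈ E, x ^ p = 1)
    (hex : ∃ x ∈ E, x * u = u * x ∧ x ≠ 1) : ∃ b ∈ B, b ≠ 1 ∧ ∀ y ∈ E, b * y = y * b := by
  have := Fact.mk h.prime
  have hu := h.inv_u
  have hBE : B ≤ normalizer (E : Set G) := h.norm_B.trans hNE
  have hEp : IsPGroup p E := h.pgroup.to_le hEP
  obtain ⟨b0, hb0, hb01⟩ := h.exists_ne_one
  by_contra hcon
  push Not at hcon
  have hB1 : ∀ x ∈ E, x * u = u * x → x ≠ 1 → ∃ y ∈ E, x * y ≠ y * x := by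
    intro x hx hxu hx1
    by_contra hc
    push Not at hc
    have hEM : E ≤ M := fun y hy => h.cent x (hEP hx) hxu hx1 y (hEP hy) (hc y hy).symm
    obtain ⟨y, hy, hne⟩ := hcon b0 hb0 hb01
    exact hne (h.centralizes_of_le hEP hEM hb0 (hBE hb0) y hy)
  obtain ⟨x, hx, hxu, hx1⟩ := hex
  obtain ⟨y1, hy1, hne⟩ := hB1 x hx hxu hx1
  have hxM : ∀ y ∈ E, y * x = x * y → y ∈ M := fun y hy hyx =>
    h.cent x (hEP hx) hxu hx1 y (hEP hy) hyx
  set Z := E ⊓ centralizer (E : Set G) with hZ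
  set A := E ⊓ centralizer ({x} : Set G) with hA
  have hZc : ∀ z ∈ Z, ∀ e ∈ E, e * z = z * e := fun z hz e he => (mem_centralizer_iff.1 hz.2) e he
  have hZn : normalizer (E : Set G) ≤ normalizer (Z : Set G) := normalizer_le_center E
  have hZE : Z ≤ E := inf_le_left
  have hAE : A ≤ E := inf_le_left
  have hZM : Z ≤ M := fun z hz => hxM z (hZE hz) ((hZc z hz x hx).symm)
  have hZA : Z ≤ A := fun z hz => mem_inf.2 ⟨hZE hz,
    mem_centralizer_singleton_iff.2 (hZc z hz x hx).symm⟩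
  have hxA : x ∈ A := mem_inf.2 ⟨hx, mem_centralizer_singleton_iff.2 rfl⟩
  have hxZ : x ∉ Z := fun hxZ => hne (hZc x hxZ y1 hy1).symm
  have hy1A : y1 ∉ A := fun hy => hne (mem_centralizer_singleton_iff.1 hy.2).symm
  have hAM : A ≤ M := fun y hy => hxM y (hAE hy) (mem_centralizer_singleton_iff.1 hy.2)
  have hAinv : ∀ a ∈ A, w * a * w⁻¹ = a⁻¹ := fun a ha => h.inverts a (hEP (hAE ha)) (hAM ha)
  have hAab := comm_of_inverted hAinv
  have hZinv : ∀ z ∈ Z, u * z * u⁻¹ = z⁻¹ := by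
    intro z hz
    refine inverts_of_fixedPointFree hu (hZn (hNE h.norm_u)) ?_ hz
    rw [eq_bot_iff]
    rintro y ⟨hy, hyu⟩
    rw [mem_bot]
    by_contra hy1
    obtain ⟨y2, hy2, hne2⟩ := hB1 y (hZE hy) (mem_centralizer_singleton_iff.1 hyu) hy1
    exact hne2 (hZc y hy y2 hy2).symm
  have hZp : Nat.card Z ≤ p :=
    h.small Z (hZE.trans hEP) hZM hZinv (fun z hz => hexp z (hZE hz))
  -- the commutator map
  have hcomE : ∀ e ∈ E, x * e * x⁻¹ * e⁻¹ ∈ E := fun e he =>
    mul_mem (mul_mem (mul_mem hx he) (inv_mem hx)) (inv_mem he)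
  have hcomc : ∀ e ∈ E, ∀ z ∈ E, (x * e * x⁻¹ * e⁻¹) * z = z * (x * e * x⁻¹ * e⁻¹) :=
    fun e he z hz => hcl x hx e he z hz
  let f : E →* E :=
    { toFun := fun e => ⟨x * e * x⁻¹ * (e : G)⁻¹, hcomE e e.2⟩
      map_one' := by apply Subtype.ext; simp
      map_mul' := by
        intro e e'
        apply Subtype.ext
        show x * (e * e') * x⁻¹ * ((e : G) * e')⁻¹ =
          (x * e * x⁻¹ * (e : G)⁻¹) * (x * e' * x⁻¹ * (e' : G)⁻¹)
        have h1 := hcomc e' e'.2 (e : G)⁻¹ (inv_mem e.2)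
        calc x * (e * e') * x⁻¹ * ((e : G) * e')⁻¹
            = x * e * x⁻¹ * ((x * e' * x⁻¹ * (e' : G)⁻¹) * (e : G)⁻¹) := by group
          _ = _ := by rw [h1]; group }
  have hf : ∀ e : E, ((f e : E) : G) = x * e * x⁻¹ * (e : G)⁻¹ := fun e => rfl
  have hker : Nat.card f.ker = Nat.card A := by
    refine Nat.card_congr ⟨fun e => ⟨e.1.1, ?_⟩, fun a => ⟨⟨a.1, hAE a.2⟩, ?_⟩, fun e => rfl,
      fun a => rfl⟩
    · refine mem_inf.2 ⟨e.1.2, ?_⟩
      rw [mem_centralizer_singleton_iff]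
      have h1 := congrArg Subtype.val (MonoidHom.mem_ker.1 e.2)
      rw [hf] at h1
      have h2 : x * (e.1 : G) * x⁻¹ = e.1 := mul_inv_eq_one.1 h1
      exact (mul_inv_eq_iff_eq_mul.1 h2).symm
    · rw [MonoidHom.mem_ker]
      apply Subtype.ext
      rw [hf]
      have h1 : (a : G) * x = x * a := mem_centralizer_singleton_iff.1 a.2.2
      show x * (a : G) * x⁻¹ * (a : G)⁻¹ = 1
      rw [← h1]; group
  have hrange : Nat.card f.range ≤ Nat.card Z := by
    have h1 : f.range.map E.subtype ≤ Z := by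
      rintro _ ⟨_, ⟨e, rfl⟩, rfl⟩
      refine mem_inf.2 ⟨(f e).2, ?_⟩
      rw [mem_centralizer_iff]
      intro z hz
      exact (hcomc e e.2 z hz).symm
    rw [← card_map_of_injective (K := f.range) E.subtype_injective]
    exact card_le_of_le h1
  have hcardE : Nat.card E ≤ Nat.card A * Nat.card Z := by
    have h1 := f.ker.card_mul_index
    rw [index_ker, hker] at h1
    rw [← h1]
    exact Nat.mul_le_mul_left _ hrange
  -- `|Z| = p`
  have hZlt : Nat.card Z < Nat.card A := by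
    apply lt_of_le_of_ne (card_le_of_le hZA)
    intro heq
    exact hxZ ((eq_of_le_of_card_ge hZA heq.ge) ▸ hxA)
  have hAlt : Nat.card A < Nat.card E := by
    apply lt_of_le_of_ne (card_le_of_le hAE)
    intro heq
    exact hy1A ((eq_of_le_of_card_ge hAE heq.ge) ▸ hy1)
  obtain ⟨nz, hnz⟩ := IsPGroup.iff_card.1 (hEp.to_le hZE)
  obtain ⟨na, hna⟩ := IsPGroup.iff_card.1 (hEp.to_le hAE)
  have hp1 : 1 < p := h.prime.one_lt
  have hnz1 : nz ≠ 0 := by
    rintro rfl
    rw [pow_zero] at hnz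
    rw [hnz, mul_one] at hcardE
    omega
  have hZeq : Nat.card Z = p := by
    apply le_antisymm hZp
    rw [hnz]
    exact Nat.le_self_pow hnz1 p
  have hAge : p ^ 2 ≤ Nat.card A := by
    rw [hna]
    apply Nat.pow_le_pow_right hp1.le
    by_contra hc
    push Not at hc
    have h1 : p ^ na ≤ p ^ 1 := Nat.pow_le_pow_right hp1.le (by omega)
    rw [← hna, pow_one, ← hZeq] at h1
    omega
  -- the stabiliser of `A`
  have hstab : ∀ c ∈ B, c ≠ 1 → ∀ a ∈ A, a ∉ Z → c * a * c⁻¹ ∉ A := by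
    intro c hc hc1 a ha haZ hcaA
    have hcE := hBE hc
    by_cases hcA : c ∈ normalizer (A : Set G)
    · -- `c` centralises `A` and `E / A`
      have h1 : ∀ y ∈ A, c * y = y * c :=
        h.centralizes_of_le (hAE.trans hEP) hAM hc hcA
      obtain ⟨e, he, hce⟩ := hcon c hc hc1
      apply hce
      have h2 : c * e * c⁻¹ ∈ E := (mem_normalizer_iff.1 hcE e).1 he
      have h3 : x * (c * e * c⁻¹) * x⁻¹ * (c * e * c⁻¹)⁻¹ = x * e * x⁻¹ * e⁻¹ := by
        have h4 : c⁻¹ * x * c = x := by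
          have := h1 x hxA
          calc c⁻¹ * x * c = c⁻¹ * (x * c) := by group
            _ = c⁻¹ * (c * x) := by rw [this]
            _ = x := by group
        have h5 : x * e * x⁻¹ * e⁻¹ ∈ A := by
          apply hZA
          refine mem_inf.2 ⟨hcomE e he, ?_⟩
          rw [mem_centralizer_iff]
          intro z hz
          exact (hcomc e he z hz).symm
        have h6 := h1 _ h5
        calc x * (c * e * c⁻¹) * x⁻¹ * (c * e * c⁻¹)⁻¹
            = c * ((c⁻¹ * x * c) * e * (c⁻¹ * x * c)⁻¹ * e⁻¹) * c⁻¹ := by group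
          _ = c * (x * e * x⁻¹ * e⁻¹) * c⁻¹ := by rw [h4]
          _ = x * e * x⁻¹ * e⁻¹ := by rw [h6]; group
      have h4 : e⁻¹ * (c * e * c⁻¹) ∈ A := by
        refine mem_inf.2 ⟨mul_mem (inv_mem he) h2, ?_⟩
        rw [mem_centralizer_singleton_iff]
        set e' := c * e * c⁻¹ with he'
        have h5 := hcomc e he e' h2
        -- x e' x⁻¹ = κ e', x e x⁻¹ = κ e
        set κ := x * e * x⁻¹ * e⁻¹ with hκ
        have h6 : x * e' * x⁻¹ = κ * e' := by rw [← h3]; group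
        have h7 : x * e * x⁻¹ = κ * e := by rw [hκ]; group
        have h8 : x * (e⁻¹ * e') * x⁻¹ = e⁻¹ * e' := by
          calc x * (e⁻¹ * e') * x⁻¹ = (x * e * x⁻¹)⁻¹ * (x * e' * x⁻¹) := by group
            _ = (κ * e)⁻¹ * (κ * e') := by rw [h6, h7]
            _ = _ := by group
        exact (mul_inv_eq_iff_eq_mul.1 h8).symm
      let φ : MulAut E := E.normalizerMonoidHom ⟨c, hcE⟩
      have hφ : ∀ y : E, ((φ y : E) : G) = c * y * c⁻¹ := fun y => rfl
      have hφo : (orderOf φ).Coprime p := by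
        have h6 : orderOf φ ∣ orderOf (⟨c, hcE⟩ : normalizer (E : Set G)) := orderOf_map_dvd _ _
        rw [Subgroup.orderOf_mk] at h6
        exact Nat.Coprime.coprime_dvd_left h6 (h.coprime_B c hc)
      have h7 := Cfsg.Agent.Classification.TypeZ.Critical.fix_of_fix_div hEp φ hφo ⟨e, he⟩ (by
        apply Subtype.ext
        rw [hφ]
        show c * (e⁻¹ * (c * e * c⁻¹)) * c⁻¹ = e⁻¹ * (c * e * c⁻¹)
        rw [h1 _ h4]; group)
      have h8 : c * e * c⁻¹ = e := congrArg Subtype.val h7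
      exact mul_inv_eq_iff_eq_mul.1 h8
    · -- `E = ⟨A, A^c⟩` centralises `c a c⁻¹`
      obtain ⟨a', ha', hca'⟩ : ∃ a' ∈ A, c * a' * c⁻¹ ∉ A := by
        by_contra hcc
        push Not at hcc
        exact hcA (mem_normalizer_of_conj hcc)
      set W : Subgroup G := E ⊓ centralizer ({c * a * c⁻¹} : Set G) with hW
      have hAW : A ≤ W := fun y hy => mem_inf.2 ⟨hAE hy,
        mem_centralizer_singleton_iff.2 (hAab y hy _ hcaA)⟩
      have ha'W : c * a' * c⁻¹ ∈ W := by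
        refine mem_inf.2 ⟨(mem_normalizer_iff.1 hcE a').1 (hAE ha'), ?_⟩
        rw [mem_centralizer_singleton_iff]
        have h1 := hAab a' ha' a ha
        calc c * a' * c⁻¹ * (c * a * c⁻¹) = c * (a' * a) * c⁻¹ := by group
          _ = c * (a * a') * c⁻¹ := by rw [h1]
          _ = _ := by group
      have hWE : W ≤ E := inf_le_left
      have hWeq : W = E := by
        apply eq_of_le_of_card_ge hWE
        have h1 : Nat.card A < Nat.card W := by
          apply lt_of_le_of_ne (card_le_of_le hAW)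
          intro heq
          exact hca' ((eq_of_le_of_card_ge hAW heq.ge) ▸ ha'W)
        obtain ⟨nw, hnw⟩ := IsPGroup.iff_card.1 (hEp.to_le hWE)
        have h2 : na < nw := by
          by_contra hc2
          push Not at hc2
          have := Nat.pow_le_pow_right hp1.le hc2
          rw [← hnw, ← hna] at this
          omega
        have h3 : p ^ (na + 1) ≤ p ^ nw := Nat.pow_le_pow_right hp1.le h2
        rw [← hnw, pow_succ, ← hna] at h3
        rw [hZeq] at hcardE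
        exact hcardE.trans h3
      have h5 : c * a * c⁻¹ ∈ Z := by
        refine mem_inf.2 ⟨hAE hcaA, ?_⟩
        rw [mem_centralizer_iff]
        intro e he
        have h6 : e ∈ W := by rw [hWeq]; exact he
        exact mem_centralizer_singleton_iff.1 h6.2
      apply haZ
      exact (mem_normalizer_iff.1 (hZn hcE) a).2 h5
  -- counting
  have hcount : Nat.card B * (Nat.card A - Nat.card Z) ≤ Nat.card E - Nat.card Z := by
    have hd : ∀ X : Subgroup G, Z ≤ X → Nat.card ((X : Set G) \ (Z : Set G) : Set G) =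
        Nat.card X - Nat.card Z := by
      intro X hX
      rw [Nat.card_coe_set_eq, Set.ncard_sdiff hX]
      rfl
    rw [← hd A hZA, ← hd E hZE, ← Nat.card_prod]
    refine Nat.card_le_card_of_injective (fun q : B × ((A : Set G) \ (Z : Set G) : Set G) =>
      (⟨(q.1 : G) * q.2 * (q.1 : G)⁻¹, ?_, ?_⟩ : ((E : Set G) \ (Z : Set G) : Set G))) ?_
    · exact (mem_normalizer_iff.1 (hBE q.1.2) _).1 (hAE q.2.2.1)
    · intro hq
      exact q.2.2.2 ((mem_normalizer_iff.1 (hZn (hBE q.1.2)) _).2 hq)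
    · rintro ⟨⟨b, hb⟩, ⟨a, ha, haZ⟩⟩ ⟨⟨b', hb'⟩, ⟨a', ha', haZ'⟩⟩ heq
      have h1 : b * a * b⁻¹ = b' * a' * b'⁻¹ := congrArg Subtype.val heq
      have h2 : (b'⁻¹ * b) * a * (b'⁻¹ * b)⁻¹ = a' := by
        calc (b'⁻¹ * b) * a * (b'⁻¹ * b)⁻¹ = b'⁻¹ * (b * a * b⁻¹) * b' := by group
          _ = a' := by rw [h1]; group
      have h3 : b'⁻¹ * b = 1 := by
        by_contra h3
        apply hstab _ (mul_mem (inv_mem hb') hb) h3 a ha haZ
        rw [h2]; exact ha'
      have h4 : b' = b := inv_mul_eq_one.1 h3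
      subst h4
      have h5 : a = a' := by
        rw [← h2]; group
      subst h5
      rfl
  -- arithmetic
  have hB2 := h.card_B
  rw [hZeq] at hcount hcardE
  generalize Nat.card B = nB at *
  generalize Nat.card A = a at *
  generalize Nat.card E = e at *
  have h1 : (p + 2) * (a - p) ≤ nB * (a - p) := Nat.mul_le_mul_right _ hB2
  have h2 : (p + 2) * (a - p) ≤ a * p - p := by omega
  obtain ⟨d, rfl⟩ : ∃ d, a = p ^ 2 + d := ⟨a - p ^ 2, by omega⟩
  have hpp : p ≤ p ^ 2 := Nat.le_self_pow (by norm_num) p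
  zify [show p ≤ p ^ 2 + d by omega, show p ≤ (p ^ 2 + d) * p by nlinarith] at h2
  nlinarith [h.prime.two_le]

/-- Some element `≠ 1` of `B` centralises `P`. -/
theorem exists_centralizing (h : Hyp p P M B u w) : ∃ b ∈ B, b ≠ 1 ∧ ∀ y ∈ P, b * y = y * b := by
  have := Fact.mk h.prime
  obtain ⟨C, E, hCP, hEC, hNC, hNE, hE, hcc, hCC, hfix⟩ :=
    Cfsg.Agent.Classification.TypeZ.Critical.exists_critical h.ne_two h.pgroup
  have hEP : E ≤ P := hEC.trans hCP
  have key : ∃ b ∈ B, b ≠ 1 ∧ ∀ y ∈ E, b * y = y * b := by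
    by_cases hc : ∀ x ∈ E, x * u = u * x → x = 1
    · obtain ⟨b, hb, hb1⟩ := h.exists_ne_one
      exact ⟨b, hb, hb1, h.caseA hEP hNE hc hb⟩
    · push Not at hc
      exact h.caseB hEP hNE (fun x hx y hy z hz => hcc x (hEC hx) y (hEP hy) z (hEC hz))
        (fun x hx => ((hE x).1 hx).2) hc
  obtain ⟨b, hb, hb1, hbE⟩ := key
  exact ⟨b, hb, hb1, hfix b (h.norm_B hb) (h.coprime_B b hb) hbE⟩

end Hyp

end crit

end Cfsg.Agent.Classification.TypeZ.BetaCrit
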