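import Cfsg.Agent.Classification.TypeZ.Special
import Cfsg.Agent.Classification.TypeB.Fusion
import Cfsg.Agent.Classification.TypeB.Fused
import Cfsg.Agent.SignalizersComponents.RelSylow
import Cfsg.Agent.S1287
import Cfsg.Agent.S0118

/-!
# Type Z of the Gorenstein–Walter theorem: fusion (section F of `blueprints/S0483_TypeZ.md`)

`h : ZHyp G t`, `S` a Sylow 2-subgroup of `G` centralising `t`, `p` odd, `P = O_p(K_t) ≠ 1`,
`T` an `S`-invariant Sylow `p`-subgroup of `K_t`.
-/

set_option autoImplicit false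

namespace Cfsg.Agent.Classification.TypeZ.Fusion

open Subgroup Cfsg
open Cfsg.Agent.Classification.TypeB.Basic Cfsg.Agent.Classification.TypeB.Core
open Cfsg.Agent.Classification.TypeB.Fusion Cfsg.Agent.Classification.TypeZ.Bender
open Cfsg.Agent.OddOrderLocal Cfsg.Agent.OddOrderLocal.PiCoreOf
open Cfsg.Agent.Classification.DihedralCentral Cfsg.Agent.Classification.TransferSign
open Cfsg.Agent.Classification.DihReduction Cfsg.Agent.Classification.DihStructure
open Cfsg.Agent.Classification.DihMinimal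
open Cfsg.Agent.SignalizersComponents.RelSylow

universe u

section util

variable {G : Type*} [Group G] [Finite G]

theorem isMaxP_inf {p : ℕ} [Fact p.Prime] {H P N : Subgroup G} (hP : IsMaxP p H P)
    (hN : N ≤ H) (hn : H ≤ normalizer (N : Set G)) : IsMaxP p N (P ⊓ N) := by
  refine ⟨hP.1.to_le inf_le_left, inf_le_right, fun W hW hWN hle => ?_⟩
  obtain ⟨c, hc, h1⟩ := hP.exists_conj_le hW (hWN.trans hN)
  have h2 : W.map (MulAut.conj c).toMonoidHom ≤ P ⊓ N := by
    refine le_inf h1 ?_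
    rintro _ ⟨w, hw, rfl⟩
    exact conj_mem_of_mem_normalizer (hn hc) (hWN hw)
  have h3 : Nat.card W ≤ Nat.card (P ⊓ N : Subgroup G) := by
    rw [← card_map_conj W c]
    exact Nat.card_le_card_of_injective _ (inclusion_injective h2)
  exact (eq_of_le_of_card_ge hle h3).ge

theorem isMaxP_sylow {p : ℕ} [Fact p.Prime] (S : Sylow p G) {H : Subgroup G}
    (hH : (S : Subgroup G) ≤ H) : IsMaxP p H (S : Subgroup G) :=
  ⟨S.2, hH, fun _ hW _ hle => (S.3 hW hle).le⟩

/-- Frattini argument for `S ⊓ C`, `C` normalised by `S`. -/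
theorem exists_frattini {p : ℕ} [Fact p.Prime] (S : Sylow p G) {C : Subgroup G}
    (hSC : (S : Subgroup G) ≤ normalizer (C : Set G)) {g : G} (hg : g ∈ normalizer (C : Set G)) :
    ∃ c ∈ C, ∀ x ∈ (S : Subgroup G) ⊓ C, (c * g) * x * (c * g)⁻¹ ∈ (S : Subgroup G) ⊓ C := by
  have h1 : IsMaxP p C ((S : Subgroup G) ⊓ C) :=
    isMaxP_inf (isMaxP_sylow S hSC) le_normalizer le_rfl
  obtain ⟨c, hc, h2⟩ := (h1.map_conj_mem hg).exists_conj h1
  refine ⟨c, hc, fun x hx => ?_⟩
  rw [← h2]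
  refine ⟨g * x * g⁻¹, ⟨x, hx, rfl⟩, ?_⟩
  show c * (g * x * g⁻¹) * c⁻¹ = _
  group

theorem centralizer_zpowers' (t : G) :
    centralizer ((zpowers t : Subgroup G) : Set G) = centralizer ({t} : Set G) := by
  apply le_antisymm
  · exact centralizer_le (Set.singleton_subset_iff.mpr (mem_zpowers t))
  · intro x hx
    rw [mem_centralizer_iff]
    rintro _ ⟨n, rfl⟩
    have h1 : Commute t x := (mem_centralizer_singleton_iff.1 hx).symm
    exact (h1.zpow_left n).eq

/-- fixed points of an involution on an invariant Sylow subgroup -/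
theorem card_inf_centralizer {t : G} (ht : IsInv t) {O T : Subgroup G} (hO : Odd (Nat.card O))
    (htO : t ∈ normalizer (O : Set G)) {p : ℕ} [Fact p.Prime] (hT : IsSyl p O T)
    (htT : t ∈ normalizer (T : Set G)) :
    Nat.card (T ⊓ centralizer ({t} : Set G) : Subgroup G) =
      p ^ (Nat.card (O ⊓ centralizer ({t} : Set G) : Subgroup G)).factorization p := by
  haveI : Fact (Nat.Prime 2) := ⟨Nat.prime_two⟩
  have := Cfsg.Agent.S1287.card_fixed_sylow (B := zpowers t) (H := O) (S := T) ht.isPGroup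
    (not_two_dvd hO)
    (fun b hb u hu => conj_mem_of_mem_normalizer ((zpowers_le.2 htO) hb) hu) hT
    (fun b hb u hu => conj_mem_of_mem_normalizer ((zpowers_le.2 htT) hb) hu)
  rwa [centralizer_zpowers'] at this

/-- if `w = n t n⁻¹`, `n` normalises `O` odd and `t` centralises the `⟨t, w⟩`-invariant Sylow subgroup `T` of
`O` then so does `w`. -/
theorem le_centralizer_of_conj {t w n : G} (ht : IsInv t) (hn : n * t * n⁻¹ = w) {O T : Subgroup G}
    (hO : Odd (Nat.card O)) (htO : t ∈ normalizer (O : Set G)) (hnO : n ∈ normalizer (O : Set G))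
    {p : ℕ} [Fact p.Prime] (hT : IsSyl p O T) (htT : T ≤ centralizer ({t} : Set G))
    (hwT : w ∈ normalizer (T : Set G)) : T ≤ centralizer ({w} : Set G) := by
  have hw : IsInv w := hn ▸ ht.conj n
  have hwO : w ∈ normalizer (O : Set G) := by
    rw [← hn]; exact mul_mem (mul_mem hnO htO) (inv_mem hnO)
  have htT' : t ∈ normalizer (T : Set G) := by
    apply mem_normalizer_of_conj
    intro x hx
    have := mem_centralizer_singleton_iff.1 (htT hx)
    rw [show t * x * t⁻¹ = x by rw [← this]; group]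
    exact hx
  have h1 := card_inf_centralizer ht hO htO hT htT'
  have h2 := card_inf_centralizer hw hO hwO hT hwT
  have h3 : Nat.card (O ⊓ centralizer ({w} : Set G) : Subgroup G) =
      Nat.card (O ⊓ centralizer ({t} : Set G) : Subgroup G) := by
    have : (O ⊓ centralizer ({t} : Set G) : Subgroup G).map (MulAut.conj n).toMonoidHom =
        O ⊓ centralizer ({w} : Set G) := by
      ext x
      rw [mem_map_conj]
      constructor
      · rintro ⟨hx1, hx2⟩
        refine ⟨?_, ?_⟩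
        · have := conj_mem_of_mem_normalizer hnO hx1
          rwa [show n * (n⁻¹ * x * n) * n⁻¹ = x by group] at this
        · show x ∈ centralizer {w}
          rw [mem_centralizer_singleton_iff, ← hn]
          have h4 : n⁻¹ * x * n * t = t * (n⁻¹ * x * n) := mem_centralizer_singleton_iff.1 hx2
          calc x * (n * t * n⁻¹) = n * (n⁻¹ * x * n * t) * n⁻¹ := by group
            _ = n * (t * (n⁻¹ * x * n)) * n⁻¹ := by rw [h4]
            _ = _ := by group
      · rintro ⟨hx1, hx2⟩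
        refine ⟨?_, ?_⟩
        · have := conj_mem_of_mem_normalizer (inv_mem hnO) hx1
          rwa [inv_inv] at this
        · show n⁻¹ * x * n ∈ centralizer {t}
          rw [mem_centralizer_singleton_iff]
          have h4 : x * w = w * x := mem_centralizer_singleton_iff.1 hx2
          rw [← hn] at h4
          calc n⁻¹ * x * n * t = n⁻¹ * (x * (n * t * n⁻¹)) * n := by group
            _ = n⁻¹ * ((n * t * n⁻¹) * x) * n := by rw [h4]
            _ = _ := by group
    rw [← this, card_map_conj]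
  rw [h3, ← h1, inf_eq_left.2 htT] at h2
  have h4 : T ⊓ centralizer ({w} : Set G) = T := eq_of_le_of_card_ge inf_le_left h2.ge
  exact inf_eq_left.1 h4

/-! ### Fused four-groups -/

open Cfsg.Agent.TwoFusion.DihedralFusion in
/-- a four-group `⟨a, b⟩` in a `SubDihedral` group all of whose involutions are conjugate is permuted
transitively by some element normalising it. -/
theorem exists_three_cycle (hG : SubDihedral G) {a b : G} (ha : IsInv a) (hb : IsInv b)
    (hab : a * b = b * a) (hne : a ≠ b) (h1 : IsConj a b) (h2 : IsConj a (a * b)) :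
    ∃ h : G, h * a * h⁻¹ = b ∧ h * b * h⁻¹ = a * b := by
  haveI : Fact (Nat.Prime 2) := ⟨Nat.prime_two⟩
  set V : Subgroup G := fourGroup a b ha.1 hb.1 hab with hVdef
  have hV : IsKleinFour V := isKleinFour_fourGroup ha.1 hb.1 hab ha.2 hb.2 hne
  have haV : a ∈ V := left_mem_fourGroup ha.1 hb.1 hab
  have hbV : b ∈ V := right_mem_fourGroup ha.1 hb.1 hab
  have hV4 : Nat.card V = 4 := hV.card_four
  have hVc : V ≤ centralizer (V : Set G) := fun x hx => mem_centralizer_iff.2 fun y hy =>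
    comm_of_isKleinFour hV hy hx
  have hV2 : IsPGroup 2 V := IsPGroup.of_card (n := 2) (by rw [hV4]; norm_num)
  -- 2-elements centralising `V` are in `V`, inside 2-groups containing `V`
  have hcen : ∀ R : Subgroup G, IsPGroup 2 R → V ≤ R → ∀ x ∈ R, x ∈ centralizer (V : Set G) →
      x ∈ V := by
    intro R hR hVR x hxR hxc
    have h3 := eq_of_centralizes hG V (R ⊓ centralizer (V : Set G)) hV (le_inf hVR hVc)
      (hR.to_le inf_le_left) inf_le_right
    rw [← h3]
    exact ⟨hxR, hxc⟩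
  obtain ⟨S, hVS⟩ := hV2.exists_le_sylow
  -- a central involution
  obtain ⟨z, hzV, hz1, hzS⟩ : ∃ z ∈ V, z ≠ 1 ∧ ∀ s ∈ (S : Subgroup G), s * z = z * s := by
    have hnt : Nontrivial (S : Subgroup G) := by
      refine ⟨⟨⟨a, hVS haV⟩, 1, fun h => ha.2 (congrArg Subtype.val h)⟩⟩
    have hcn : Nontrivial (Subgroup.center (S : Subgroup G)) := S.2.center_nontrivial
    obtain ⟨z, hz⟩ := exists_ne (1 : Subgroup.center (S : Subgroup G))
    have hzS : ∀ s ∈ (S : Subgroup G), s * ((z : (S : Subgroup G)) : G) = (z : (S : Subgroup G)) * s := by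
      intro s hs
      exact congrArg Subtype.val (mem_center_iff.1 z.2 ⟨s, hs⟩)
    refine ⟨(z : (S : Subgroup G)), ?_, ?_, hzS⟩
    · exact hcen S S.2 hVS _ (z : (S : Subgroup G)).2 (mem_centralizer_iff.2 fun y hy =>
        hzS y (hVS hy))
    · intro h
      exact hz (Subtype.ext (Subtype.ext h))
  have hall : ∀ v ∈ V, v ≠ 1 → IsConj v z := by
    have h3 : ∀ v ∈ V, v ≠ 1 → IsConj a v := by
      intro v hv hv1
      rcases hv with rfl | rfl | rfl | rfl
      · exact absurd rfl hv1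
      · exact IsConj.refl _
      · exact h1
      · exact h2
    intro v hv hv1
    exact (h3 v hv hv1).symm.trans (h3 z hzV hz1)
  by_cases h8 : (S : Subgroup G) ≤ V
  · -- `V` is a Sylow subgroup
    have hSV : (S : Subgroup G) = V := le_antisymm h8 hVS
    obtain ⟨g, hg⟩ := isConj_iff.1 h1
    have hbc : V ≤ centralizer ({b} : Set G) := fun x hx => mem_centralizer_singleton_iff.2
      (comm_of_isKleinFour hV hx hbV)
    have hgV : V.map (MulAut.conj g).toMonoidHom ≤ centralizer ({b} : Set G) := by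
      rintro _ ⟨x, hx, rfl⟩
      rw [mem_centralizer_singleton_iff]
      show g * x * g⁻¹ * b = b * (g * x * g⁻¹)
      rw [← hg]
      have := comm_of_isKleinFour hV hx haV
      calc g * x * g⁻¹ * (g * a * g⁻¹) = g * (x * a) * g⁻¹ := by group
        _ = g * (a * x) * g⁻¹ := by rw [this]
        _ = _ := by group
    obtain ⟨c, hc, hcV⟩ := exists_conj_mem S (centralizer ({b} : Set G))
      (V.map (MulAut.conj g).toMonoidHom) (by rw [hSV]; exact hbc) hgV (hV2.map _)
    have hn : ∀ x ∈ V, (c * g) * x * (c * g)⁻¹ ∈ V := by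
      intro x hx
      have := hcV (g * x * g⁻¹) ⟨x, hx, rfl⟩
      rw [hSV] at this
      rwa [show (c * g) * x * (c * g)⁻¹ = c * (g * x * g⁻¹) * c⁻¹ by group]
    have hna : (c * g) * a * (c * g)⁻¹ = b := by
      have h3 := mem_centralizer_singleton_iff.1 hc
      calc (c * g) * a * (c * g)⁻¹ = c * (g * a * g⁻¹) * c⁻¹ := by group
        _ = c * b * c⁻¹ := by rw [hg]
        _ = b := by rw [h3]; group
    set n := c * g with hndef
    refine ⟨n, hna, ?_⟩
    have h4 : n * b * n⁻¹ ∈ V := hn b hbV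
    have h5 : n * b * n⁻¹ ≠ 1 := conj_ne_one n hb.2
    have h6 : n * b * n⁻¹ ≠ b := by
      intro h
      apply hne
      have := hna.trans h.symm
      exact mul_left_cancel (mul_right_cancel this)
    rcases h4 with h | h | h | h
    · exact absurd h h5
    · exfalso
      -- an odd power of `n` is a 2-element swapping `a` and `b`
      have hsw : ∀ k : ℕ, Odd k → n ^ k * a * (n ^ k)⁻¹ = b ∧ n ^ k * b * (n ^ k)⁻¹ = a := by
        rintro k ⟨j, rfl⟩
        induction j with
        | zero => simpa using ⟨hna, h⟩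
        | succ j ih =>
          obtain ⟨ih1, ih2⟩ := ih
          have e : n ^ (2 * (j + 1) + 1) = n * (n * n ^ (2 * j + 1)) := by
            rw [← pow_succ', ← pow_succ']
            rfl
          rw [e]
          constructor
          · calc n * (n * n ^ (2 * j + 1)) * a * (n * (n * n ^ (2 * j + 1)))⁻¹
                = n * (n * (n ^ (2 * j + 1) * a * (n ^ (2 * j + 1))⁻¹) * n⁻¹) * n⁻¹ := by group
              _ = b := by rw [ih1, h, hna]
          · calc n * (n * n ^ (2 * j + 1)) * b * (n * (n * n ^ (2 * j + 1)))⁻¹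
                = n * (n * (n ^ (2 * j + 1) * b * (n ^ (2 * j + 1))⁻¹) * n⁻¹) * n⁻¹ := by group
              _ = a := by rw [ih2, hna, h]
      obtain ⟨k, m, hm, hkm⟩ := Nat.exists_eq_two_pow_mul_odd (orderOf_pos n).ne'
      obtain ⟨h7, h8'⟩ := hsw m hm
      have h9 : IsPGroup 2 (zpowers (n ^ m)) := by
        apply IsPGroup.of_card (n := k)
        rw [Nat.card_zpowers, orderOf_pow_of_dvd (Odd.pos hm).ne' ⟨2 ^ k, by rw [hkm]; ring⟩, hkm]
        exact Nat.mul_div_cancel _ (Odd.pos hm)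
      have h10 : zpowers (n ^ m) ≤ normalizer (V : Set G) := by
        rw [zpowers_le]
        apply pow_mem
        exact mem_normalizer_of_conj hn
      have h11 : IsPGroup 2 (V ⊔ zpowers (n ^ m) : Subgroup G) :=
        hV2.to_sup_of_normal_left' h9 h10
      have h12 : V ⊔ zpowers (n ^ m) = V := by
        have := S.3 h11 (by rw [hSV]; exact le_sup_left)
        rw [this, hSV]
      have h13 : n ^ m ∈ V := by
        rw [← h12]
        exact mem_sup_right (mem_zpowers _)
      have h14 := comm_of_isKleinFour hV h13 haV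
      rw [h14] at h7
      apply hne
      calc a = a * n ^ m * (n ^ m)⁻¹ := by group
        _ = b := h7
    · exact absurd h h6
    · exact h
  · -- `|S| ≥ 8`
    have key : ∀ v ∈ V, v ≠ 1 → ∃ s : G, s * v * s⁻¹ = v ∧ ∀ w ∈ V, w ≠ 1 → w ≠ v →
        s * w * s⁻¹ = w * v := by
      intro v hv hv1
      obtain ⟨g, hg⟩ := isConj_iff.1 (hall v hv hv1)
      -- a Sylow subgroup of `G` in `C(v)`
      have hQ : ((g⁻¹ • S : Sylow 2 G) : Subgroup G) ≤ centralizer ({v} : Set G) := by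
        rintro x hx
        obtain ⟨y, hy, rfl⟩ : ∃ y ∈ (S : Subgroup G), g⁻¹ * y * g = x := by
          rw [Sylow.coe_subgroup_smul] at hx
          obtain ⟨y, hy, rfl⟩ := hx
          exact ⟨y, hy, by simp⟩
        rw [mem_centralizer_singleton_iff]
        have h3 := hzS y hy
        rw [← hg] at h3
        calc g⁻¹ * y * g * v = g⁻¹ * (y * (g * v * g⁻¹)) * g := by group
          _ = g⁻¹ * (g * v * g⁻¹ * y) * g := by rw [h3]
          _ = _ := by group
      have hvV : V ≤ centralizer ({v} : Set G) := fun x hx => mem_centralizer_singleton_iff.2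
        (comm_of_isKleinFour hV hx hv)
      obtain ⟨c, hc, hcV⟩ := exists_conj_mem (g⁻¹ • S : Sylow 2 G) (centralizer ({v} : Set G)) V
        hQ hvV hV2
      set R : Subgroup G := ((c⁻¹ • (g⁻¹ • S) : Sylow 2 G) : Subgroup G) with hR
      have hmemR : ∀ x, x ∈ R ↔ c * x * c⁻¹ ∈ ((g⁻¹ • S : Sylow 2 G) : Subgroup G) := by
        intro x
        rw [hR, Sylow.coe_subgroup_smul, mem_pointwise_smul_iff_inv_smul_mem]
        simp
      have hVR : V ≤ R := fun x hx => (hmemR x).2 (hcV x hx)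
      have hRv : ∀ x ∈ R, x * v = v * x := by
        intro x hx
        have h3 := mem_centralizer_singleton_iff.1 (hQ ((hmemR x).1 hx))
        have h4 := mem_centralizer_singleton_iff.1 hc
        have h5 : c⁻¹ * v * c = v := by
          calc c⁻¹ * v * c = c⁻¹ * (v * c) := by group
            _ = c⁻¹ * (c * v) := by rw [h4]
            _ = v := by group
        calc x * v = c⁻¹ * (c * x * c⁻¹ * (c * v)) := by group
          _ = c⁻¹ * (c * x * c⁻¹ * (v * c)) := by rw [h4]
          _ = c⁻¹ * (c * x * c⁻¹ * v) * c := by group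
          _ = c⁻¹ * (v * (c * x * c⁻¹)) * c := by rw [h3]
          _ = (c⁻¹ * v * c) * x := by group
          _ = v * x := by rw [h5]
      have hR2 : IsPGroup 2 R := (c⁻¹ • (g⁻¹ • S) : Sylow 2 G).2
      have hRV : ¬ R ≤ V := by
        intro h
        apply h8
        have h3 : Nat.card R = Nat.card (S : Subgroup G) :=
          ((c⁻¹ • (g⁻¹ • S) : Sylow 2 G).card_eq_multiplicity).trans (S.card_eq_multiplicity).symm
        have h4 : Nat.card R ≤ Nat.card V := Nat.card_le_card_of_injective _ (inclusion_injective h)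
        exact (eq_of_le_of_card_ge hVS (by rw [← h3]; exact h4)).ge
      obtain ⟨s, hsR, hsN, hsV⟩ := exists_mem_normalizer hR2 hVR hRV
      have hsv : s * v * s⁻¹ = v := by rw [hRv s hsR]; group
      refine ⟨s, hsv, fun w hw hw1 hwv => ?_⟩
      have h3 : s * w * s⁻¹ ∈ V := conj_mem_of_mem_normalizer hsN hw
      have h4 : ∀ y, y ∈ V → y = 1 ∨ y = w ∨ y = v ∨ y = w * v := fun y hy =>
        eq_of_isKleinFour hV hw hv hy hw1 hv1 hwv
      rcases h4 _ h3 with h5 | h5 | h5 | h5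
      · exact absurd h5 (conj_ne_one s hw1)
      · exfalso
        apply hsV
        apply hcen R hR2 hVR s hsR
        rw [mem_centralizer_iff]
        have e1 : w * s = s * w := by
          calc w * s = s * w * s⁻¹ * s := by rw [h5]
            _ = s * w := by group
        have e2 : v * s = s * v := (hRv s hsR).symm
        intro y hy
        rcases h4 y hy with rfl | rfl | rfl | rfl
        · group
        · exact e1
        · exact e2
        · rw [mul_assoc, e2, ← mul_assoc, e1, mul_assoc]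
      · exfalso
        apply hwv
        have := h5.trans hsv.symm
        exact mul_left_cancel (mul_right_cancel this)
      · exact h5
    have hab1 : a * b ≠ 1 := by
      intro h
      apply hne
      rw [eq_inv_of_mul_eq_one_left h, hb.inv_eq]
    obtain ⟨s₁, -, h3⟩ := key (a * b) (V.mul_mem haV hbV) hab1
    obtain ⟨s₂, h4, h5⟩ := key a haV ha.2
    have h6 : s₁ * a * s₁⁻¹ = b := by
      rw [h3 a haV ha.2 (fun h => hb.2 (by simpa using h.symm)), ← mul_assoc, ha.1, one_mul]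
    have h7 : s₂ * b * s₂⁻¹ = b * a := h5 b hbV hb.2 hne.symm
    have h8' : s₁ * b * s₁⁻¹ = a := by
      rw [h3 b hbV hb.2 (fun h => ha.2 (by simpa using h.symm)), ← mul_assoc, ← hab, mul_assoc,
        hb.1, mul_one]
    refine ⟨s₁ * s₂, ?_, ?_⟩
    · calc s₁ * s₂ * a * (s₁ * s₂)⁻¹ = s₁ * (s₂ * a * s₂⁻¹) * s₁⁻¹ := by group
        _ = b := by rw [h4, h6]
    · calc s₁ * s₂ * b * (s₁ * s₂)⁻¹ = s₁ * (s₂ * b * s₂⁻¹) * s₁⁻¹ := by group
        _ = (s₁ * b * s₁⁻¹) * (s₁ * a * s₁⁻¹) := by rw [h7]; group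
        _ = a * b := by rw [h8', h6]

/-- the same inside a subgroup -/
theorem exists_three_cycle' (hG : SubDihedral G) {C : Subgroup G} {a b : G} (ha : IsInv a)
    (hb : IsInv b) (hab : a * b = b * a) (hne : a ≠ b) (haC : a ∈ C) (hbC : b ∈ C)
    (h1 : ∃ g ∈ C, g * a * g⁻¹ = b) (h2 : ∃ g ∈ C, g * a * g⁻¹ = a * b) :
    ∃ h ∈ C, h * a * h⁻¹ = b ∧ h * b * h⁻¹ = a * b := by
  obtain ⟨g₁, hg₁, e₁⟩ := h1
  obtain ⟨g₂, hg₂, e₂⟩ := h2
  obtain ⟨h, h3, h4⟩ := exists_three_cycle
    (subDihedral_of_injective C.subtype C.subtype_injective hG)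
    (a := (⟨a, haC⟩ : C)) (b := ⟨b, hbC⟩)
    ⟨Subtype.ext ha.1, fun h => ha.2 (congrArg Subtype.val h)⟩
    ⟨Subtype.ext hb.1, fun h => hb.2 (congrArg Subtype.val h)⟩
    (Subtype.ext hab) (fun h => hne (congrArg Subtype.val h))
    (isConj_iff.2 ⟨⟨g₁, hg₁⟩, Subtype.ext e₁⟩) (isConj_iff.2 ⟨⟨g₂, hg₂⟩, Subtype.ext e₂⟩)
  exact ⟨h, h.2, congrArg Subtype.val h3, congrArg Subtype.val h4⟩

/-- central elements of exponent `p` of a `p`-group `T` lie in `Z(J(T))` -/
theorem mem_centerThompsonOf {G : Type u} [Group G] [Finite G] {p : ℕ} {T : Subgroup G} {e : G}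
    (heT : e ∈ T) (hep : e ^ p = 1) (hec : ∀ x ∈ T, x * e = e * x) : e ∈ centerThompsonOf p T := by
  have hJT := Cfsg.Agent.PLocal.ThompsonJ.thompsonSubgroupOf_le_self p T
  refine ⟨?_, ?_⟩
  · obtain ⟨A, hA⟩ := Cfsg.Agent.PLocal.ThompsonJ.exists_maxElementaryAbelian p T
    obtain ⟨hA1, hA2⟩ := Cfsg.Agent.PLocal.ThompsonJ.isElementaryAbelian_iff.1
      (Cfsg.Agent.PLocal.ThompsonJ.mem_maxElementaryAbelianSubgroups_iff.1 hA).1
    have hcomm : ∀ x : T, x * ⟨e, heT⟩ = ⟨e, heT⟩ * x := fun x => Subtype.ext (hec x x.2)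
    have hcomm' : ∀ (x : T) (n : ℤ), Commute x ((⟨e, heT⟩ : T) ^ n) := fun x n =>
      (show Commute x (⟨e, heT⟩ : T) from hcomm x).zpow_right n
    have hnorm : (zpowers (⟨e, heT⟩ : T)).Normal := by
      refine ⟨?_⟩
      rintro _ ⟨n, rfl⟩ g
      have : g * (⟨e, heT⟩ : T) ^ n * g⁻¹ = (⟨e, heT⟩ : T) ^ n := by
        rw [(hcomm' g n).eq]; group
      exact ⟨n, this.symm⟩
    have hpow : ∀ n : ℤ, ((⟨e, heT⟩ : T) ^ n) ^ p = 1 := by
      intro n
      have h1 : (⟨e, heT⟩ : T) ^ p = 1 := Subtype.ext hep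
      rw [← zpow_natCast, ← zpow_mul, mul_comm, zpow_mul, zpow_natCast, h1, one_zpow]
    have hB : IsElementaryAbelian p (A ⊔ zpowers (⟨e, heT⟩ : T) : Subgroup T) := by
      rw [Cfsg.Agent.PLocal.ThompsonJ.isElementaryAbelian_iff]
      constructor
      · intro x hx y hy
        obtain ⟨a, ha, _, ⟨n, rfl⟩, rfl⟩ := mem_sup_of_normal_right.1 hx
        obtain ⟨b, hb, _, ⟨m, rfl⟩, rfl⟩ := mem_sup_of_normal_right.1 hy
        have h1 : Commute (a * (⟨e, heT⟩ : T) ^ n) (b * (⟨e, heT⟩ : T) ^ m) := by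
          refine Commute.mul_left (Commute.mul_right (hA1 a ha b hb) (hcomm' a m))
            (Commute.mul_right (hcomm' b n).symm (hcomm' _ m))
        exact h1.eq
      · intro x hx
        obtain ⟨a, ha, _, ⟨n, rfl⟩, rfl⟩ := mem_sup_of_normal_right.1 hx
        rw [(hcomm' a n).mul_pow, hA2 a ha, hpow n, one_mul]
    have h2 := Cfsg.Agent.PLocal.ThompsonJ.eq_of_le_of_mem_max hA hB le_sup_left
    have h3 : (⟨e, heT⟩ : T) ∈ A := by
      rw [h2]; exact mem_sup_right (mem_zpowers _)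
    exact ⟨⟨e, heT⟩, Cfsg.Agent.PLocal.ThompsonJ.le_thompsonSubgroup hA h3, rfl⟩
  · show e ∈ centralizer _
    rw [mem_centralizer_iff]
    intro y hy
    exact hec y (hJT hy)

end util

/-- `C = D O(C)` for a Sylow 2-subgroup `D` of an `OddClosed` subgroup `C` -/
theorem exists_mul' {G : Type u} [Group G] [Finite G] {C D : Subgroup G} (h : OddClosed C)
    (hD : IsMaxP 2 C D) {y : G} (hy : y ∈ C) : ∃ s ∈ D, ∃ k ∈ oc C, y = s * k := by
  haveI : Fact (Nat.Prime 2) := ⟨Nat.prime_two⟩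
  obtain ⟨N, hN, hodd, k, hk⟩ := exists_of_oddClosed h
  have hNle : ∀ z ∈ N, (z : G) ∈ oc C := by
    intro z hz
    apply mem_oc h z.2
    have h1 : orderOf (⟨z, hz⟩ : N) ∣ Nat.card N := orderOf_dvd_natCard _
    rw [← Subgroup.orderOf_coe] at h1
    rw [Subgroup.orderOf_coe]
    exact hodd.of_dvd_nat h1
  have hsup : (hD.toSylow : Subgroup C) ⊔ N = ⊤ := by
    rw [← index_eq_one]
    have h1 : ((hD.toSylow : Subgroup C) ⊔ N).index ∣ 2 ^ k := by
      rw [← hk]
      exact index_dvd_of_le le_sup_right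
    have h2 : ((hD.toSylow : Subgroup C) ⊔ N).index ∣ (hD.toSylow : Subgroup C).index :=
      index_dvd_of_le le_sup_left
    obtain ⟨j, hj, hj2⟩ := (Nat.dvd_prime_pow Nat.prime_two).1 h1
    rcases Nat.eq_zero_or_pos j with rfl | hj0
    · rw [hj2, pow_zero]
    · exfalso
      apply hD.toSylow.not_dvd_index
      rw [hj2] at h2
      exact (dvd_pow_self 2 hj0.ne').trans h2
  have h3 : (⟨y, hy⟩ : C) ∈ (hD.toSylow : Subgroup C) ⊔ N := by rw [hsup]; exact mem_top _
  obtain ⟨a, ha, b, hb, hab⟩ := mem_sup_of_normal_right.1 h3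
  refine ⟨a, ?_, b, hNle b hb, (congrArg Subtype.val hab).symm⟩
  rw [hD.coe_toSylow, mem_subgroupOf] at ha
  exact ha

/-! ### The context -/

section main

variable {G : Type u} [Group G] [Finite G] {t : G} {p : ℕ}

/-- the context of section F: `S` is a Sylow 2-subgroup of `G` inside `C(t)`, `T` an `S`-invariant Sylow
`p`-subgroup of `K_t`, `p` is not special. -/
structure Ctx (t : G) (S : Sylow 2 G) (p : ℕ) (T : Subgroup G) : Prop where
  z : ZHyp G t
  sub : (S : Subgroup G) ≤ centralizer ({t} : Set G)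
  non : NonSpecial t p
  syl : IsSyl p (Kc t) T
  inv : (S : Subgroup G) ≤ normalizer (T : Set G)

theorem card_of_isSyl [Fact p.Prime] {K T : Subgroup G} (h : IsSyl p K T) :
    Nat.card T = p ^ (Nat.card K).factorization p :=
  Cfsg.Agent.Blocks.SylowIn.card_of_sylow_map_eq h

/-- `C(t)` contains a Sylow 2-subgroup of `G` -/
theorem exists_sylow_le (h : ZHyp G t) : ∃ S : Sylow 2 G,
    (S : Subgroup G) ≤ centralizer ({t} : Set G) := by
  haveI : Fact (Nat.Prime 2) := ⟨Nat.prime_two⟩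
  obtain ⟨S, hS⟩ := h.inv.isPGroup.exists_le_sylow
  have hnt : Nontrivial (S : Subgroup G) :=
    ⟨⟨⟨t, hS (mem_zpowers t)⟩, 1, fun h' => h.inv.2 (congrArg Subtype.val h')⟩⟩
  have hcn : Nontrivial (Subgroup.center (S : Subgroup G)) := S.2.center_nontrivial
  have h2 : IsPGroup 2 (Subgroup.center (S : Subgroup G)) := S.2.to_subgroup _
  obtain ⟨n, hn, hc⟩ := h2.nontrivial_iff_card.mp hcn
  obtain ⟨z, hz⟩ := exists_prime_orderOf_dvd_card' 2 (hc ▸ dvd_pow_self 2 hn.ne')
  have hzo : orderOf ((z : (S : Subgroup G)) : G) = 2 := by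
    rw [Subgroup.orderOf_coe, Subgroup.orderOf_coe]; exact hz
  have hzi : IsInv ((z : (S : Subgroup G)) : G) := by
    refine ⟨?_, ?_⟩
    · have h3 := pow_orderOf_eq_one ((z : (S : Subgroup G)) : G)
      rwa [hzo, sq] at h3
    · intro h1
      rw [h1, orderOf_one] at hzo
      exact absurd hzo (by norm_num)
  obtain ⟨g, hg⟩ := isConj_iff.1 (h.one _ _ hzi h.inv)
  refine ⟨g • S, ?_⟩
  intro x hx
  rw [Sylow.coe_subgroup_smul] at hx
  obtain ⟨y, hy, rfl⟩ := hx
  rw [mem_centralizer_singleton_iff]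
  have h1 : y * ((z : (S : Subgroup G)) : G) = (z : (S : Subgroup G)) * y :=
    congrArg Subtype.val (mem_center_iff.1 z.2 ⟨y, hy⟩)
  show g * y * g⁻¹ * t = t * (g * y * g⁻¹)
  rw [← hg]
  calc g * y * g⁻¹ * (g * z * g⁻¹) = g * (y * z) * g⁻¹ := by group
    _ = g * (z * y) * g⁻¹ := by rw [h1]
    _ = _ := by group

theorem exists_ctx (h : ZHyp G t) (hp : NonSpecial t p) : ∃ S T, Ctx t S p T := by
  haveI : Fact (Nat.Prime 2) := ⟨Nat.prime_two⟩
  haveI : Fact p.Prime := ⟨hp.prime⟩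
  obtain ⟨S, hS⟩ := exists_sylow_le h
  obtain ⟨T, hT, hST⟩ := Lib.PGroupCoprimeAction.exists_invariant_sylow (p := 2)
    (A := (S : Subgroup G)) (H := Kc t) S.2 (not_two_dvd (odd_Kc t))
    (fun b hb u hu => conj_mem_of_mem_normalizer (normalizer_Kc_le t (hS hb)) hu) p
  exact ⟨S, T, h, hS, hp, hT, fun b hb => mem_normalizer_of_conj (hST b hb)⟩

namespace Ctx

variable {S : Sylow 2 G} {T : Subgroup G}

theorem fact (c : Ctx t S p T) : Fact p.Prime := ⟨c.non.prime⟩

theorem ne_two (c : Ctx t S p T) : p ≠ 2 := by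
  rintro rfl
  exact not_two_dvd (odd_of_le (FitAux.fittingOf_le _) (odd_Kc t)) c.non.dvd

theorem mem_S (c : Ctx t S p T) : t ∈ (S : Subgroup G) := by
  haveI : Fact (Nat.Prime 2) := ⟨Nat.prime_two⟩
  have h1 : (S : Subgroup G) ≤ normalizer ((zpowers t : Subgroup G) : Set G) := by
    intro s hs
    apply mem_normalizer_of_conj
    rintro _ ⟨n, rfl⟩
    have h2 : Commute s (t ^ n) :=
      (show Commute s t from mem_centralizer_singleton_iff.1 (c.sub hs)).zpow_right n
    have h3 : s * t ^ n * s⁻¹ = t ^ n := by rw [h2.eq]; group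
    exact ⟨n, h3.symm⟩
  have h2 : IsPGroup 2 (zpowers t ⊔ (S : Subgroup G) : Subgroup G) :=
    c.z.inv.isPGroup.to_sup_of_normal_left' S.2 h1
  rw [← S.3 h2 le_sup_right]
  exact mem_sup_left (mem_zpowers t)

theorem T_le (c : Ctx t S p T) : T ≤ Kc t := (isSyl_iff.1 c.syl).1

theorem T_le' (c : Ctx t S p T) : T ≤ centralizer ({t} : Set G) := c.T_le.trans (Kc_le t)

theorem isPGroup (c : Ctx t S p T) : IsPGroup p T := (isSyl_iff.1 c.syl).2.1

theorem P_le (c : Ctx t S p T) : piCoreOf {p} (Kc t) ≤ T := by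
  haveI := c.fact
  have h1 : IsPGroup p (T ⊔ piCoreOf {p} (Kc t) : Subgroup G) := by
    rw [sup_comm]
    exact (FitCores.isPGroup_piCoreOf c.non.prime _).to_sup_of_normal_left' c.isPGroup
      (c.T_le.trans (le_normalizer_piCoreOf _ _))
  have h2 := (isSyl_iff.1 c.syl).2.2 _ (sup_le c.T_le (piCoreOf_le _ _)) h1 le_sup_left
  rw [← h2]
  exact le_sup_right

theorem P_ne (c : Ctx t S p T) : piCoreOf {p} (Kc t) ≠ ⊥ :=
  FitCores.core_ne_bot_of_dvd c.non.prime c.non.dvd

theorem le_normalizer_P (t : G) (p : ℕ) :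
    centralizer ({t} : Set G) ≤ normalizer (piCoreOf {p} (Kc t) : Set G) :=
  (normalizer_Kc_le t).trans (normalizer_le_normalizer_piCoreOf _ _)

theorem odd_of_le_Kc {X : Subgroup G} (hX : X ≤ Kc t) : Odd (Nat.card X) := odd_of_le hX (odd_Kc t)

/-- `N_G(Y) ≤ C(t)` for `1 ≠ Y ⊴ C(t)`, `Y ≤ K_t`. -/
theorem normalizer_le_of_normal (h : ZHyp G t) {Y : Subgroup G} (hY : Y ≤ Kc t) (hY1 : Y ≠ ⊥)
    (hn : centralizer ({t} : Set G) ≤ normalizer (Y : Set G)) :
    normalizer (Y : Set G) ≤ centralizer ({t} : Set G) := fun _ hy =>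
  mem_centralizer_singleton_iff.2
    (h.commute_of_mem_normalizer (h.ne_top_of_odd (odd_of_le_Kc hY)) hY1 hn hy)

theorem centralizer_le_of_normal (h : ZHyp G t) {Y X : Subgroup G} (hY : Y ≤ Kc t) (hY1 : Y ≠ ⊥)
    (hn : centralizer ({t} : Set G) ≤ normalizer (Y : Set G)) (hYX : Y ≤ X) :
    centralizer (X : Set G) ≤ centralizer ({t} : Set G) :=
  ((centralizer_le hYX).trans (centralizer_le_normalizer _)).trans
    (normalizer_le_of_normal h hY hY1 hn)

/-- The Frattini step: `X ≤ C(t)`, `C(X) ≤ C(t)`, `S ≤ N(X)`. -/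
theorem step (c : Ctx t S p T) {X : Subgroup G}
    (hXC : centralizer (X : Set G) ≤ centralizer ({t} : Set G))
    (htX : X ≤ centralizer ({t} : Set G)) (hSX : (S : Subgroup G) ≤ normalizer (X : Set G))
    {g : G} (hg : g ∈ normalizer (X : Set G)) :
    g * t = t * g ∨ ∃ n ∈ normalizer (X : Set G), ∃ w : G, n * t * n⁻¹ = w ∧ w ≠ t ∧
      w ∈ (S : Subgroup G) ∧ w ∈ centralizer (X : Set G) ∧
        ∀ x ∈ (S : Subgroup G) ⊓ centralizer (X : Set G), x * w = w * x := by
  haveI : Fact (Nat.Prime 2) := ⟨Nat.prime_two⟩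
  have hCn : normalizer (X : Set G) ≤ normalizer (centralizer (X : Set G) : Set G) :=
    NilpotentHall.normalizer_le_normalizer_centralizer X
  obtain ⟨e, he, h1⟩ := exists_frattini S (hSX.trans hCn) (hCn hg)
  have htC : t ∈ centralizer (X : Set G) := by
    rw [mem_centralizer_iff]
    intro y hy
    exact mem_centralizer_singleton_iff.1 (htX hy)
  have het := mem_centralizer_singleton_iff.1 (hXC he)
  by_cases hw : (e * g) * t * (e * g)⁻¹ = t
  · left
    have h2 : (e * g) * t = t * (e * g) := by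
      rw [mul_inv_eq_iff_eq_mul] at hw
      exact hw
    calc g * t = e⁻¹ * (e * g * t) := by group
      _ = e⁻¹ * (t * (e * g)) := by rw [h2]
      _ = e⁻¹ * (t * e) * g := by group
      _ = e⁻¹ * (e * t) * g := by rw [het]
      _ = t * g := by group
  · right
    have h2 := h1 t ⟨c.mem_S, htC⟩
    refine ⟨e * g, mul_mem (centralizer_le_normalizer _ he) hg, _, rfl, hw, h2.1, h2.2, ?_⟩
    have hn : e * g ∈ normalizer (((S : Subgroup G) ⊓ centralizer (X : Set G) : Subgroup G) : Set G) :=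
      mem_normalizer_of_conj h1
    intro x hx
    have h3 := conj_mem_of_mem_normalizer (inv_mem hn) hx
    rw [inv_inv] at h3
    have h4 : (e * g)⁻¹ * x * (e * g) * t = t * ((e * g)⁻¹ * x * (e * g)) :=
      mem_centralizer_singleton_iff.1 (c.sub h3.1)
    calc x * (e * g * t * (e * g)⁻¹)
        = (e * g) * ((e * g)⁻¹ * x * (e * g) * t) * (e * g)⁻¹ := by group
      _ = (e * g) * (t * ((e * g)⁻¹ * x * (e * g))) * (e * g)⁻¹ := by rw [h4]
      _ = _ := by group

/-- **F1** -/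
theorem normalizer_le (c : Ctx t S p T) : normalizer (T : Set G) ≤ centralizer ({t} : Set G) := by
  haveI := c.fact
  intro g hg
  rw [mem_centralizer_singleton_iff]
  rcases c.step (centralizer_le_of_normal c.z (piCoreOf_le _ _) c.P_ne (le_normalizer_P t p) c.P_le)
    c.T_le' c.inv hg with h | ⟨n, -, w, hw, hne, hwS, hwT, -⟩
  · exact h
  · exfalso
    refine c.non.ns w (hw ▸ c.z.inv.conj n) hne
      (mem_centralizer_singleton_iff.1 (c.sub hwS)).symm ⟨T, c.T_le, ?_, c.isPGroup,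
        card_of_isSyl c.syl⟩
    intro x hx
    exact mem_centralizer_singleton_iff.2 (mem_centralizer_iff.1 hwT x hx)

/-- **F1** `T` is a Sylow `p`-subgroup of `G`. -/
theorem exists_sylow (c : Ctx t S p T) : ∃ P : Sylow p G, (P : Subgroup G) = T := by
  haveI := c.fact
  refine ⟨⟨T, c.isPGroup, fun {Q} hQ hle => ?_⟩, rfl⟩
  refine Cfsg.Agent.Blocks.SylowIn.eq_of_normalizer_inf_le hQ hle ?_
  have h2 : IsPGroup p ↥(normalizer (T : Set G) ⊓ Q) := hQ.to_le inf_le_right
  exact ((isSyl_iff.mp c.syl).2.2 _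
    (le_Kc c.z.sub c.z.inv (odd_of_isPGroup c.non.prime c.ne_two h2)
      (inf_le_left.trans c.normalizer_le)) h2 (le_inf le_normalizer hle)).le

theorem index_modEq (c : Ctx t S p T) : (centralizer ({t} : Set G)).index ≡ 1 [MOD p] := by
  haveI := c.fact
  set C : Subgroup G := centralizer ({t} : Set G) with hC
  have h1 := c.isPGroup.card_modEq_card_fixedPoints (G ⧸ C)
  have h2 : MulAction.fixedPoints T (G ⧸ C) = {((1 : G) : G ⧸ C)} := by
    ext x
    rw [Set.mem_singleton_iff]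
    constructor
    · intro hx
      obtain ⟨g, rfl⟩ := QuotientGroup.mk_surjective x
      have hx' : ∀ y ∈ T, g⁻¹ * y * g ∈ C := by
        intro y hy
        have h3 : ((y * g : G) : G ⧸ C) = (g : G ⧸ C) := hx ⟨y, hy⟩
        have h4 := QuotientGroup.eq.1 h3.symm
        rwa [← mul_assoc] at h4
      have hmax : IsMaxP p (Kc t) T := by
        obtain ⟨h3, h4, h5⟩ := isSyl_iff.1 c.syl
        exact ⟨h4, h3, fun R hR hRK hle => (h5 R hRK hR hle).le⟩
      have hTg : T.map (MulAut.conj g⁻¹).toMonoidHom ≤ Kc t := by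
        rintro _ ⟨y, hy, rfl⟩
        show g⁻¹ * y * g⁻¹⁻¹ ∈ Kc t
        rw [inv_inv, mem_Kc_iff c.z.sub c.z.inv]
        refine ⟨mem_centralizer_singleton_iff.1 (hx' y hy), ?_⟩
        have h3 : orderOf (g⁻¹ * y * g) = orderOf y := by
          have := orderOf_injective (MulAut.conj g⁻¹).toMonoidHom (MulAut.conj g⁻¹).injective y
          rw [← this]
          congr 1
          show g⁻¹ * y * g = g⁻¹ * y * g⁻¹⁻¹
          rw [inv_inv]
        rw [h3]
        exact odd_orderOf_of_mem (odd_Kc t) (c.T_le hy)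
      obtain ⟨k, hk, h3⟩ := hmax.exists_conj_le (c.isPGroup.map _) hTg
      have h4 : k * g⁻¹ ∈ normalizer (T : Set G) := by
        apply mem_normalizer_of_conj
        intro y hy
        have := h3 ⟨g⁻¹ * y * g⁻¹⁻¹, ⟨y, hy, rfl⟩, rfl⟩
        have e : (MulAut.conj k).toMonoidHom (g⁻¹ * y * g⁻¹⁻¹) = k * g⁻¹ * y * (k * g⁻¹)⁻¹ := by
          show k * (g⁻¹ * y * g⁻¹⁻¹) * k⁻¹ = _
          group
        rwa [e] at this
      have h5 := c.normalizer_le h4
      have h6 : g⁻¹ ∈ C := by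
        have := C.mul_mem (C.inv_mem (Kc_le t hk)) h5
        rwa [inv_mul_cancel_left] at this
      exact (QuotientGroup.eq.2 (by rw [mul_one]; exact h6))
    · rintro rfl
      rintro ⟨y, hy⟩
      show ((y * 1 : G) : G ⧸ C) = ((1 : G) : G ⧸ C)
      rw [mul_one, QuotientGroup.eq, mul_one]
      exact C.inv_mem (c.T_le' hy)
  rw [h2] at h1
  have h3 : Nat.card ({((1 : G) : G ⧸ C)} : Set (G ⧸ C)) = 1 := by simp
  rw [h3] at h1
  exact h1

theorem not_dvd_index (c : Ctx t S p T) : ¬ p ∣ (centralizer ({t} : Set G)).index := by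
  intro h
  have h1 := c.index_modEq
  have h2 : (centralizer ({t} : Set G)).index ≡ 0 [MOD p] := (Nat.modEq_zero_iff_dvd).2 h
  have h3 : p ∣ 1 := (Nat.modEq_zero_iff_dvd).1 (h1.symm.trans h2)
  exact c.non.prime.one_lt.ne' (Nat.dvd_one.1 h3)

/-! ### F2 -/

theorem not_section [Fact p.Prime] {L : Type*} [Group L] [Finite L] (hL : SubDihedral L)
    (hp : p ≠ 2) : ¬ ∃ (H K : Subgroup L) (hK : (K.subgroupOf H).Normal),
      Nonempty ((H ⧸ K.subgroupOf H) ≃* Matrix.SpecialLinearGroup (Fin 2) (ZMod p)) :=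
  Cfsg.Agent.Classification.TypeB.NoSL2.not_section_sl2 hL hp

/-- **F2** `Z(J(T)) ∩ O_p(K)` is normal in `C(t)`. -/
theorem le_normalizer_inf (c : Ctx t S p T) : centralizer ({t} : Set G) ≤
    normalizer ((centerThompsonOf p T ⊓ piCoreOf {p} (Kc t) : Subgroup G) : Set G) := by
  haveI := c.fact
  set C : Subgroup G := centralizer ({t} : Set G) with hC
  obtain ⟨h3, h4, h5⟩ := isSyl_iff.1 c.syl
  obtain ⟨P, hP⟩ : ∃ P : Sylow p C, (P : Subgroup C).map C.subtype = T := by
    rw [Cfsg.Agent.Blocks.SylowIn.exists_sylow_map_eq_iff]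
    refine ⟨c.T_le', h4, fun Q hQC hQ hTQ => ?_⟩
    exact h5 Q (le_Kc c.z.sub c.z.inv (odd_of_isPGroup c.non.prime c.ne_two hQ) hQC) hQ hTQ
  intro g hg
  apply mem_normalizer_of_conj
  rintro x ⟨hxJ, hxP⟩
  refine ⟨?_, conj_mem_of_mem_normalizer (le_normalizer_P t p hg) hxP⟩
  have hJ : centerThompsonOf p T = (centerThompsonOf p (P : Subgroup C)).map C.subtype := by
    rw [← hP, PLocal.ZJElem.centerThompsonOf_map p C.subtype_injective]
  have hsub : SubDihedral C := subDihedral_of_injective C.subtype C.subtype_injective c.z.sub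
  have hmemP : ∀ y ∈ T, ∀ hy : y ∈ C, (⟨y, hy⟩ : C) ∈ (P : Subgroup C) := by
    intro y hy hyC
    rw [← hP] at hy
    obtain ⟨y', hy', hyy⟩ := hy
    have : y' = ⟨y, hyC⟩ := Subtype.ext hyy
    exact this ▸ hy'
  have hxT : x ∈ T := c.P_le hxP
  have hgxT : g * x * g⁻¹ ∈ T := c.P_le (conj_mem_of_mem_normalizer (le_normalizer_P t p hg) hxP)
  have hxC : x ∈ C := c.T_le' hxT
  obtain ⟨n, hn, h6⟩ := Cfsg.Agent.S0118.result (G := C) c.ne_two (not_section hsub c.ne_two) P
    {⟨x, hxC⟩} (by rw [Set.singleton_subset_iff]; exact hmemP x hxT hxC) (⟨g, hg⟩⁻¹ : C) (by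
      rw [Set.image_singleton, Set.singleton_subset_iff]
      have := hmemP _ hgxT (c.T_le' hgxT)
      have e : (⟨g, hg⟩⁻¹ : C)⁻¹ * ⟨x, hxC⟩ * (⟨g, hg⟩⁻¹ : C) = ⟨g * x * g⁻¹, c.T_le' hgxT⟩ := by
        apply Subtype.ext
        simp
      show (⟨g, hg⟩⁻¹ : C)⁻¹ * ⟨x, hxC⟩ * (⟨g, hg⟩⁻¹ : C) ∈ (P : Subgroup C)
      rw [e]; exact this)
  have h7 := h6 ⟨x, hxC⟩ rfl
  have h8 : g * x * g⁻¹ = (n : G)⁻¹ * x * n := by
    have := congrArg Subtype.val h7
    simpa using this.symm
  rw [h8, hJ]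
  have h9 : (⟨x, hxC⟩ : C) ∈ centerThompsonOf p (P : Subgroup C) := by
    rw [hJ] at hxJ
    obtain ⟨y', hy', hyy⟩ := hxJ
    have : y' = ⟨x, hxC⟩ := Subtype.ext hyy
    exact this ▸ hy'
  have h10 := conj_mem_of_mem_normalizer (inv_mem hn) h9
  rw [inv_inv] at h10
  exact ⟨_, h10, rfl⟩

theorem inf_ne_bot (c : Ctx t S p T) : centerThompsonOf p T ⊓ piCoreOf {p} (Kc t) ≠ ⊥ := by
  haveI := c.fact
  -- `P ⊴ T` meets the centre of `T`
  set P := piCoreOf {p} (Kc t) with hPdef
  have hPT : P ≤ T := c.P_le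
  have hn : (P.subgroupOf T).Normal := by
    refine ⟨fun x hx g => ?_⟩
    rw [mem_subgroupOf] at hx ⊢
    exact conj_mem_of_mem_normalizer (le_normalizer_P t p (c.T_le' g.2)) hx
  have hP1 : P.subgroupOf T ≠ ⊥ := by
    intro h
    apply c.P_ne
    rw [subgroupOf_eq_bot] at h
    have := h.eq_bot
    rwa [inf_eq_left.2 hPT] at this
  haveI : Group.IsNilpotent T := c.isPGroup.isNilpotent
  have hne := Cfsg.Agent.Lib.NormalAbelian.normal_inf_center_ne_bot (P.subgroupOf T) hP1
  have hdvd : p ∣ Nat.card (P.subgroupOf T ⊓ Subgroup.center T : Subgroup T) :=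
    FitCores.dvd_card_of_ne_bot c.non.prime (c.isPGroup.to_subgroup _) hne le_rfl
  obtain ⟨z, hz, hzp⟩ := FitCores.exists_mem_orderOf c.non.prime hdvd
  have hz1 : (z : G) ≠ 1 := by
    intro h
    have : z = 1 := Subtype.ext h
    rw [this, orderOf_one] at hzp
    exact c.non.prime.one_lt.ne hzp
  intro hbot
  apply hz1
  rw [← mem_bot, ← hbot]
  refine ⟨mem_centerThompsonOf z.2 ?_ ?_, hz.1⟩
  · rw [← SubgroupClass.coe_pow, ← hzp, pow_orderOf_eq_one]; rfl
  · intro x hx
    exact congrArg Subtype.val (mem_center_iff.1 hz.2 ⟨x, hx⟩)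

theorem J_le (c : Ctx t S p T) : centerThompsonOf p T ≤ T := PLocal.ZJElem.centerThompsonOf_le p T

theorem J_inv (c : Ctx t S p T) : (S : Subgroup G) ≤ normalizer (centerThompsonOf p T : Set G) :=
  c.inv.trans (PLocal.ZJElem.normalizer_le_normalizer_centerThompsonOf p T)

theorem centralizer_J (c : Ctx t S p T) :
    centralizer (centerThompsonOf p T : Set G) ≤ centralizer ({t} : Set G) :=
  centralizer_le_of_normal c.z (inf_le_right.trans (piCoreOf_le _ _)) c.inf_ne_bot
    c.le_normalizer_inf inf_le_left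

/-- **F2** -/
theorem normalizer_J (c : Ctx t S p T) :
    normalizer (centerThompsonOf p T : Set G) ≤ centralizer ({t} : Set G) := by
  haveI := c.fact
  haveI : Fact (Nat.Prime 2) := ⟨Nat.prime_two⟩
  set J : Subgroup G := centerThompsonOf p T with hJdef
  set N : Subgroup G := normalizer (J : Set G) with hN
  set C : Subgroup G := centralizer (J : Set G) with hC
  intro g hg
  rw [mem_centralizer_singleton_iff]
  rcases c.step c.centralizer_J (c.J_le.trans c.T_le') c.J_inv hg with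
    h | ⟨n, hnN, w, hw, hne, hwS, hwC, hwcen⟩
  · exact h
  exfalso
  have hti := c.z.inv
  have hwi : IsInv w := hw ▸ hti.conj n
  have htw : t * w = w * t := (mem_centralizer_singleton_iff.1 (c.sub hwS)).symm
  have htC : t ∈ C := by
    rw [hC, mem_centralizer_iff]
    intro y hy
    exact mem_centralizer_singleton_iff.1 (c.T_le' (c.J_le hy))
  have hCN : C ≤ N := centralizer_le_normalizer _
  have hNC : N ≤ normalizer (C : Set G) := NilpotentHall.normalizer_le_normalizer_centralizer J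
  have hCodd : OddClosed C := oddClosed_of_le
    (oddClosed_centralizer c.z.sub hti.2 hti.1) c.centralizer_J
  have hNO : N ≤ normalizer (oc C : Set G) := hNC.trans (normalizer_le_oc C)
  have hwC' : w ∈ C := hwC
  have htwi : IsInv (t * w) := hti.mul hwi htw hne.symm
  -- the Sylow 2-subgroup of `C` is `⟨t, w⟩`
  have hD : ∀ x ∈ (S : Subgroup G) ⊓ C, x = 1 ∨ x = t ∨ x = w ∨ x = t * w := by
    intro x hx
    have hV := TwoFusion.DihedralFusion.isKleinFour_fourGroup hti.1 hwi.1 htw hti.2 hwi.2 hne.symm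
    have h1 := eq_of_centralizes c.z.sub _ ((S : Subgroup G) ⊓ C) hV
      (TwoFusion.DihedralFusion.fourGroup_le hti.1 hwi.1 htw ⟨c.mem_S, htC⟩ ⟨hwS, hwC'⟩)
      (S.2.to_le inf_le_left) (by
        intro y hy
        rw [mem_centralizer_iff]
        have e1 : t * y = y * t := (mem_centralizer_singleton_iff.1 (c.sub hy.1)).symm
        have e2 : w * y = y * w := (hwcen y hy).symm
        rintro v (rfl | rfl | rfl | rfl)
        · group
        · exact e1
        · exact e2
        · rw [mul_assoc, e2, ← mul_assoc, e1, mul_assoc])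
    rw [h1] at hx
    exact TwoFusion.DihedralFusion.mem_fourGroup.1 hx
  have hmaxC : IsMaxP 2 C ((S : Subgroup G) ⊓ C) :=
    isMaxP_inf (isMaxP_sylow S (c.J_inv.trans hNC)) le_normalizer le_rfl
  -- `C = O(C) D`
  have hmul : ∀ y ∈ C, ∃ s ∈ (S : Subgroup G) ⊓ C, ∃ k ∈ oc C, y = s * k := fun y hy =>
    exists_mul' hCodd hmaxC hy
  have hCO : ∀ a ∈ C, ∀ k ∈ oc C, a * k * a⁻¹ ∈ oc C := fun a ha k hk =>
    conj_mem_of_mem_normalizer (hNO (hCN ha)) hk
  have hnot : ∀ v, IsInv v → v ∉ oc C := by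
    intro v hv hvO
    have h1 := odd_orderOf_of_mem (odd_oc C) hvO
    rw [hv.orderOf_eq] at h1
    exact absurd h1 (by decide)
  -- the subgroup `C₁` of elements acting trivially on `C / O(C)`
  let C₁ : Subgroup G :=
    { carrier := {x | x ∈ N ∧ ∀ y ∈ C, x * y * x⁻¹ * y⁻¹ ∈ oc C}
      one_mem' := ⟨one_mem _, fun y _ => by
        have : (1 : G) * y * 1⁻¹ * y⁻¹ = 1 := by group
        rw [this]; exact one_mem _⟩
      mul_mem' := by
        rintro x x' ⟨hx, hx2⟩ ⟨hx', hx'2⟩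
        refine ⟨mul_mem hx hx', fun y hy => ?_⟩
        have e : x * x' * y * (x * x')⁻¹ * y⁻¹ =
            x * (x' * y * x'⁻¹ * y⁻¹) * x⁻¹ * (x * y * x⁻¹ * y⁻¹) := by group
        rw [e]
        exact mul_mem (conj_mem_of_mem_normalizer (hNO hx) (hx'2 y hy)) (hx2 y hy)
      inv_mem' := by
        rintro x ⟨hx, hx2⟩
        refine ⟨inv_mem hx, fun y hy => ?_⟩
        have e : x⁻¹ * y * x⁻¹⁻¹ * y⁻¹ = x⁻¹ * (x * y * x⁻¹ * y⁻¹)⁻¹ * x⁻¹⁻¹ := by group
        rw [e]
        exact conj_mem_of_mem_normalizer (inv_mem (hNO hx)) (inv_mem (hx2 y hy)) }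
  have hmemC₁ : ∀ x, x ∈ C₁ ↔ x ∈ N ∧ ∀ y ∈ C, x * y * x⁻¹ * y⁻¹ ∈ oc C := fun x => Iff.rfl
  have hC₁N : N ≤ normalizer (C₁ : Set G) := by
    intro a ha
    apply mem_normalizer_of_conj
    rintro x ⟨hx, hx2⟩
    refine (hmemC₁ _).2 ⟨mul_mem (mul_mem ha hx) (inv_mem ha), fun y hy => ?_⟩
    have h1 := conj_mem_of_mem_normalizer (inv_mem (hNC ha)) hy
    have e : a * x * a⁻¹ * y * (a * x * a⁻¹)⁻¹ * y⁻¹ =
        a * (x * (a⁻¹ * y * a⁻¹⁻¹) * x⁻¹ * (a⁻¹ * y * a⁻¹⁻¹)⁻¹) * a⁻¹ := by group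
    rw [e]
    exact conj_mem_of_mem_normalizer (hNO ha) (hx2 _ h1)
  have hTN : T ≤ N := le_normalizer.trans
    (PLocal.ZJElem.normalizer_le_normalizer_centerThompsonOf p T)
  have hTC₁ : T ≤ C₁ := by
    -- elements of `T` centralise `w` modulo `O(C)`
    have hw' : ∀ x ∈ T, x * w * x⁻¹ * w⁻¹ ∈ oc C := by
      intro x hx
      have hxN := hTN hx
      have hxt : x * t = t * x := mem_centralizer_singleton_iff.1 (c.T_le' hx)
      obtain ⟨s, hs, k, hk, h1⟩ := hmul (x * w * x⁻¹) (conj_mem_of_mem_normalizer (hNC hxN) hwC')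
      have h1' : x * w = s * k * x := by rw [← h1]; group
      rcases hD s hs with rfl | rfl | rfl | rfl
      · exfalso
        apply hnot _ (hwi.conj x)
        rw [h1, one_mul]; exact hk
      · exfalso
        apply hnot _ htwi
        have h2 := conj_mem_of_mem_normalizer (inv_mem (hNO hxN)) hk
        rw [inv_inv] at h2
        have e : s * w = x⁻¹ * k * x := by
          have hxs : x⁻¹ * s = s * x⁻¹ := by
            calc x⁻¹ * s = x⁻¹ * (s * x) * x⁻¹ := by group
              _ = x⁻¹ * (x * s) * x⁻¹ := by rw [hxt]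
              _ = s * x⁻¹ := by group
          calc s * w = s * (x⁻¹ * (x * w)) := by group
            _ = s * (x⁻¹ * (s * k * x)) := by rw [h1']
            _ = s * (x⁻¹ * s) * k * x := by group
            _ = s * (s * x⁻¹) * k * x := by rw [hxs]
            _ = (s * s) * (x⁻¹ * k * x) := by group
            _ = _ := by rw [hti.1, one_mul]
        rw [e]; exact h2
      · rw [h1]
        exact hCO s hwC' k hk
      · exfalso
        -- `x ^ 2` centralises `w` modulo `O(C)`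
        let W : Subgroup G :=
          { carrier := {x | x ∈ N ∧ x * w * x⁻¹ * w⁻¹ ∈ oc C}
            one_mem' := ⟨one_mem _, by
              have : (1 : G) * w * 1⁻¹ * w⁻¹ = 1 := by group
              rw [this]; exact one_mem _⟩
            mul_mem' := by
              rintro x x' ⟨hx, hx2⟩ ⟨hx', hx'2⟩
              refine ⟨mul_mem hx hx', ?_⟩
              have e : x * x' * w * (x * x')⁻¹ * w⁻¹ =
                  x * (x' * w * x'⁻¹ * w⁻¹) * x⁻¹ * (x * w * x⁻¹ * w⁻¹) := by group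
              rw [e]
              exact mul_mem (conj_mem_of_mem_normalizer (hNO hx) hx'2) hx2
            inv_mem' := by
              rintro x ⟨hx, hx2⟩
              refine ⟨inv_mem hx, ?_⟩
              have e : x⁻¹ * w * x⁻¹⁻¹ * w⁻¹ = x⁻¹ * (x * w * x⁻¹ * w⁻¹)⁻¹ * x⁻¹⁻¹ := by group
              rw [e]
              exact conj_mem_of_mem_normalizer (inv_mem (hNO hx)) (inv_mem hx2) }
        have hx2 : x ^ 2 ∈ W := by
          refine ⟨pow_mem hxN 2, ?_⟩
          have h2 := conj_mem_of_mem_normalizer (hNO hxN) hk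
          have e : x ^ 2 * w * (x ^ 2)⁻¹ * w⁻¹ = w * (k * (x * k * x⁻¹)) * w⁻¹ := by
            have hxt' : x * t * x⁻¹ = t := by rw [hxt]; group
            calc x ^ 2 * w * (x ^ 2)⁻¹ * w⁻¹ = x * (x * w * x⁻¹) * x⁻¹ * w⁻¹ := by rw [sq]; group
              _ = x * (t * w * k) * x⁻¹ * w⁻¹ := by rw [h1]
              _ = (x * t * x⁻¹) * (x * w * x⁻¹) * (x * k * x⁻¹) * w⁻¹ := by group
              _ = t * (t * w * k) * (x * k * x⁻¹) * w⁻¹ := by rw [hxt', h1]
              _ = (t * t) * (w * (k * (x * k * x⁻¹)) * w⁻¹) := by group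
              _ = _ := by rw [hti.1, one_mul]
          rw [e]
          exact hCO w hwC' _ (mul_mem hk h2)
        have hxW : x ∈ W := by
          have ho := odd_orderOf_of_mem (odd_of_le_Kc c.T_le) hx
          obtain ⟨m, hm⟩ := ho
          have e : x = (x ^ 2) ^ (m + 1) := by
            rw [← pow_mul, show 2 * (m + 1) = orderOf x + 1 by omega, pow_succ, pow_orderOf_eq_one,
              one_mul]
          rw [e]
          exact pow_mem hx2 _
        apply hnot _ hti
        have h3 : x * w * x⁻¹ * w⁻¹ ∈ oc C := hxW.2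
        rw [h1] at h3
        have h4 := hCO w hwC' k hk
        have e : t = (t * w * k * w⁻¹) * (w * k * w⁻¹)⁻¹ := by group
        rw [e]
        exact mul_mem h3 (inv_mem h4)
    intro x hx
    have hxN := hTN hx
    have hxt : x * t = t * x := mem_centralizer_singleton_iff.1 (c.T_le' hx)
    refine (hmemC₁ x).2 ⟨hxN, fun y hy => ?_⟩
    obtain ⟨s, hs, k, hk, rfl⟩ := hmul y hy
    have h1 : x * s * x⁻¹ * s⁻¹ ∈ oc C := by
      rcases hD s hs with rfl | rfl | rfl | rfl
      · have : x * 1 * x⁻¹ * 1⁻¹ = 1 := by group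
        rw [this]; exact one_mem _
      · have : x * s * x⁻¹ * s⁻¹ = 1 := by rw [hxt]; group
        rw [this]; exact one_mem _
      · exact hw' x hx
      · have : x * (t * w) * x⁻¹ * (t * w)⁻¹ = t * (x * w * x⁻¹ * w⁻¹) * t⁻¹ := by
          calc x * (t * w) * x⁻¹ * (t * w)⁻¹ = (x * t) * w * x⁻¹ * w⁻¹ * t⁻¹ := by group
            _ = (t * x) * w * x⁻¹ * w⁻¹ * t⁻¹ := by rw [hxt]
            _ = _ := by group
        rw [this]
        exact hCO t htC _ (hw' x hx)
    have e : x * (s * k) * x⁻¹ * (s * k)⁻¹ =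
        (x * s * x⁻¹ * s⁻¹) * (s * ((x * k * x⁻¹) * k⁻¹) * s⁻¹) := by group
    rw [e]
    exact mul_mem h1 (hCO s hs.2 _ (mul_mem (conj_mem_of_mem_normalizer (hNO hxN) hk) (inv_mem hk)))
  have htC₁ : t ∈ C₁ := by
    refine (hmemC₁ t).2 ⟨hCN htC, fun y hy => ?_⟩
    obtain ⟨s, hs, k, hk, rfl⟩ := hmul y hy
    have h1 : t * s = s * t := (mem_centralizer_singleton_iff.1 (c.sub hs.1)).symm
    have e : t * (s * k) * t⁻¹ * (s * k)⁻¹ = s * ((t * k * t⁻¹) * k⁻¹) * s⁻¹ := by
      calc t * (s * k) * t⁻¹ * (s * k)⁻¹ = (t * s) * k * t⁻¹ * k⁻¹ * s⁻¹ := by group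
        _ = (s * t) * k * t⁻¹ * k⁻¹ * s⁻¹ := by rw [h1]
        _ = _ := by group
    rw [e]
    exact hCO s hs.2 _ (mul_mem (hCO t htC k hk) (inv_mem hk))
  have hC₁odd : OddClosed C₁ := by
    by_contra hno
    have hmax : IsMaxP 2 C₁ ((S : Subgroup G) ⊓ C₁) :=
      isMaxP_inf (isMaxP_sylow S (c.J_inv.trans hC₁N)) le_normalizer le_rfl
    obtain ⟨u, g', hu, htu, hne', h1, -⟩ := Cfsg.Agent.Classification.TypeB.Fused.exists_fused
      (subDihedral_of_injective C₁.subtype C₁.subtype_injective c.z.sub) hno hmax.toSylow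
      (t := (⟨t, htC₁⟩ : C₁)) (by
        rw [hmax.coe_toSylow, mem_subgroupOf]
        exact ⟨c.mem_S, htC₁⟩)
      ⟨Subtype.ext hti.1, fun h => hti.2 (congrArg Subtype.val h)⟩ (by
        intro s hs
        rw [hmax.coe_toSylow, mem_subgroupOf] at hs
        exact Subtype.ext (mem_centralizer_singleton_iff.1 (c.sub hs.1)))
    have h2 : (g' : G) * t * (g' : G)⁻¹ = u := congrArg Subtype.val h1
    have h3 : (g' : G) * t * (g' : G)⁻¹ * t⁻¹ ∈ oc C := ((hmemC₁ _).1 g'.2).2 t htC
    rw [h2] at h3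
    have hui : IsInv (u : G) := ⟨congrArg Subtype.val hu.1, fun h => hu.2 (Subtype.ext h)⟩
    have hut : (u : G) * t = t * u := (congrArg Subtype.val htu).symm
    have hneu : (u : G) ≠ t := fun h => hne' (Subtype.ext h.symm)
    apply hnot _ (hui.mul hti hut hneu)
    rwa [hti.inv_eq] at h3
  -- conclusion
  have hTO : T ≤ oc C₁ := le_oc_of_oddClosed hC₁odd hTC₁ (odd_of_le_Kc c.T_le)
  have hNO₁ : N ≤ normalizer (oc C₁ : Set G) := hC₁N.trans (normalizer_le_oc C₁)
  have hTsyl : IsSyl p (oc C₁) T := by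
    obtain ⟨P, hP⟩ := c.exists_sylow
    refine isSyl_iff.2 ⟨hTO, c.isPGroup, fun Q _ hQ hTQ => ?_⟩
    rw [← hP] at hTQ ⊢
    exact P.3 hQ hTQ
  have h1 : T ≤ centralizer ({w} : Set G) := le_centralizer_of_conj hti hw (odd_oc C₁)
    (hNO₁ (hCN htC)) (hNO₁ hnN) hTsyl c.T_le' (c.inv hwS)
  exact c.non.ns w hwi hne htw ⟨T, c.T_le, h1, c.isPGroup, card_of_isSyl c.syl⟩

/-- **F3** every `p`-element of `K_t` is `K_t`-conjugate into `T` -/
theorem exists_conj_mem_T (c : Ctx t S p T) {x : G} (hx : x ∈ Kc t) (hxp : ∃ k, orderOf x = p ^ k) :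
    ∃ a ∈ Kc t, a * x * a⁻¹ ∈ T := by
  haveI := c.fact
  obtain ⟨h1, h2, h3⟩ := isSyl_iff.1 c.syl
  have hmax : IsMaxP p (Kc t) T := ⟨h2, h1, fun R' hR' hle hTR => (h3 R' hle hR' hTR).le⟩
  obtain ⟨k, hk⟩ := hxp
  have hX : IsPGroup p (zpowers x) := IsPGroup.of_card (n := k) (by rw [Nat.card_zpowers, hk])
  obtain ⟨a, ha, h4⟩ := hmax.exists_conj_le hX (zpowers_le.2 hx)
  exact ⟨a, ha, h4 ⟨x, mem_zpowers x, rfl⟩⟩

/-- **F3** fusion -/
theorem fusion (c : Ctx t S p T) {x : G} (hx : x ∈ Kc t) (hxp : ∃ k, orderOf x = p ^ k) (g : G)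
    (hgx : g * x * g⁻¹ ∈ Kc t) : ∃ h : G, h * t = t * h ∧ h * x * h⁻¹ = g * x * g⁻¹ := by
  haveI := c.fact
  obtain ⟨P, hP⟩ := c.exists_sylow
  obtain ⟨a, ha, h1⟩ := c.exists_conj_mem_T hx hxp
  have hgxp : ∃ k, orderOf (g * x * g⁻¹) = p ^ k := by
    obtain ⟨k, hk⟩ := hxp
    refine ⟨k, ?_⟩
    rw [← hk]
    exact orderOf_injective (MulAut.conj g).toMonoidHom (MulAut.conj g).injective x
  obtain ⟨b, hb, h2⟩ := c.exists_conj_mem_T hgx hgxp
  obtain ⟨n, hn, h3⟩ := Cfsg.Agent.S0118.result (G := G) c.ne_two (not_section c.z.sub c.ne_two) P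
    {a * x * a⁻¹} (by
      rintro _ rfl
      show _ ∈ (P : Subgroup G)
      rw [hP]; exact h1) (b * g * a⁻¹)⁻¹ (by
      rintro _ ⟨_, rfl, rfl⟩
      show _ ∈ (P : Subgroup G)
      rw [hP]
      have e : (b * g * a⁻¹)⁻¹⁻¹ * (a * x * a⁻¹) * (b * g * a⁻¹)⁻¹ = b * (g * x * g⁻¹) * b⁻¹ := by
        group
      simp only
      rw [e]; exact h2)
  rw [hP] at hn
  have hnt : n ∈ centralizer ({t} : Set G) := c.normalizer_J hn
  have h4 := h3 _ rfl
  have e : (b * g * a⁻¹)⁻¹⁻¹ * (a * x * a⁻¹) * (b * g * a⁻¹)⁻¹ = b * (g * x * g⁻¹) * b⁻¹ := by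
    group
  rw [e] at h4
  refine ⟨b⁻¹ * n⁻¹ * a, ?_, ?_⟩
  · exact mem_centralizer_singleton_iff.1
      (mul_mem (mul_mem (inv_mem (Kc_le t hb)) (inv_mem hnt)) (Kc_le t ha))
  · calc b⁻¹ * n⁻¹ * a * x * (b⁻¹ * n⁻¹ * a)⁻¹ = b⁻¹ * (n⁻¹ * (a * x * a⁻¹) * n) * b := by group
      _ = b⁻¹ * (b * (g * x * g⁻¹) * b⁻¹) * b := by rw [h4]
      _ = _ := by group

end Ctx

end main

end Cfsg.Agent.Classification.TypeZ.Fusion

namespace Cfsg.Agent.Classification.TypeZ.Bender

open Subgroup Cfsg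
open Cfsg.Agent.Classification.TypeB.Basic Cfsg.Agent.Classification.TypeB.Core
open Cfsg.Agent.OddOrderLocal Cfsg.Agent.OddOrderLocal.PiCoreOf
open Cfsg.Agent.Classification.DihedralCentral Cfsg.Agent.Classification.TransferSign
open Cfsg.Agent.Classification.DihReduction Cfsg.Agent.Classification.DihStructure
open Cfsg.Agent.Classification.DihMinimal

universe u

variable {G : Type u} [Group G] [Finite G] {t : G} {p : ℕ}

/-- **(F3)** a non-special prime `p ∣ |F(K_t)|`: `C(t)` contains a Sylow `p`-subgroup of `G` and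
controls the fusion of the `p`-elements of `K_t`. -/
theorem NonSpecial.ctrl (h : ZHyp G t) (hp : NonSpecial t p) : Ctrl t p := by
  obtain ⟨S, T, c⟩ := Fusion.exists_ctx h hp
  exact ⟨c.not_dvd_index, c.index_modEq, fun x hx hxp g hgx => c.fusion hx hxp g hgx⟩

/-- if `C(t)` controls the fusion of the `p`-elements of `K_t`, each `p`-element `x ≠ 1` of
`F(K_t)` centralised by an involution `u ≠ t` of `C(t)` gives a good pair. -/
theorem Ctrl.good (h : ZHyp G t) (hp : Ctrl t p) {u x : G} (hu : IsInv u) (hne : u ≠ t)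
    (htu : t * u = u * t) (hx : x ∈ fittingOf (Kc t)) (hx1 : x ≠ 1) (hxp : ∃ k, orderOf x = p ^ k)
    (hxu : x * u = u * x) : Good t u x := by
  have hxK : x ∈ Kc t := FitAux.fittingOf_le _ hx
  obtain ⟨hxt, hxo⟩ := (mem_Kc_iff h.sub h.inv).1 hxK
  -- the key conjugation
  have key : ∀ v : G, IsInv v → x * v = v * x → ∃ g ∈ centralizer ({x} : Set G),
      g * t * g⁻¹ = v := by
    intro v hv hxv
    obtain ⟨g, hg⟩ := isConj_iff.1 (h.one _ _ h.inv hv)
    have h1 : g⁻¹ * x * g⁻¹⁻¹ ∈ Kc t := by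
      rw [mem_Kc_iff h.sub h.inv]
      constructor
      · calc g⁻¹ * x * g⁻¹⁻¹ * t = g⁻¹ * (x * (g * t * g⁻¹)) * g := by group
          _ = g⁻¹ * ((g * t * g⁻¹) * x) * g := by rw [hg, hxv]
          _ = _ := by group
      · have : orderOf (g⁻¹ * x * g⁻¹⁻¹) = orderOf x :=
          orderOf_injective (MulAut.conj g⁻¹).toMonoidHom (MulAut.conj g⁻¹).injective x
        rw [this]; exact hxo
    obtain ⟨k, hkt, hk⟩ := hp.fusion x hxK hxp g⁻¹ h1
    refine ⟨g * k, ?_, ?_⟩
    · rw [mem_centralizer_singleton_iff]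
      calc g * k * x = g * (k * x * k⁻¹) * k := by group
        _ = g * (g⁻¹ * x * g⁻¹⁻¹) * k := by rw [hk]
        _ = _ := by group
    · calc g * k * t * (g * k)⁻¹ = g * (k * t) * k⁻¹ * g⁻¹ := by group
        _ = g * (t * k) * k⁻¹ * g⁻¹ := by rw [hkt]
        _ = g * t * g⁻¹ := by group
        _ = v := hg
  have h1 := key u hu hxu
  have h2 := key (t * u) (by
    rw [htu]
    exact hu.mul h.inv htu.symm hne) (by
    calc x * (t * u) = (x * t) * u := by group
      _ = t * (x * u) := by rw [hxt]; group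
      _ = t * u * x := by rw [hxu]; group)
  obtain ⟨k, hk, h3, h4⟩ := Fusion.exists_three_cycle' h.sub (C := centralizer ({x} : Set G)) h.inv
    hu htu (Ne.symm hne) (mem_centralizer_singleton_iff.2 hxt.symm)
    (mem_centralizer_singleton_iff.2 hxu.symm) h1 h2
  exact ⟨hu, htu, hne, hx, hx1, hxu, k, mem_centralizer_singleton_iff.1 hk, h3, h4⟩

/-- **(F4)** the same for a non-special prime -/
theorem NonSpecial.good (h : ZHyp G t) (hp : NonSpecial t p) {u x : G} (hu : IsInv u) (hne : u ≠ t)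
    (htu : t * u = u * t) (hx : x ∈ fittingOf (Kc t)) (hx1 : x ≠ 1) (hxp : ∃ k, orderOf x = p ^ k)
    (hxu : x * u = u * x) : Good t u x :=
  (hp.ctrl h).good h hu hne htu hx hx1 hxp hxu

end Cfsg.Agent.Classification.TypeZ.Bender
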