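import Mathlib
import Cfsg.Agent.Classification.TypeZ.Bender

/-!
# Type Z of the Gorenstein–Walter theorem: special primes and fusion control (interface)

* `Special t u p`: the four-group `⟨t, u⟩` centralises a Sylow `p`-subgroup of `K_t = O(C(t))`;
* `Ctrl t p`: `C(t)` contains a Sylow `p`-subgroup of `G` and controls fusion of its `p`-elements of
  odd order.
-/

set_option autoImplicit false

namespace Cfsg.Agent.Classification.TypeZ.Bender

open Subgroup Cfsg
open Cfsg.Agent.Classification.TypeB.Basic Cfsg.Agent.Classification.TypeB.Core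
open Cfsg.Agent.OddOrderLocal Cfsg.Agent.OddOrderLocal.PiCoreOf
open Cfsg.Agent.Classification.DihedralCentral Cfsg.Agent.Classification.TransferSign
open Cfsg.Agent.Classification.DihReduction Cfsg.Agent.Classification.DihStructure
open Cfsg.Agent.Classification.DihMinimal

universe u

variable {G : Type u} [Group G]

/-- The four-group `⟨t, u⟩` centralises a Sylow `p`-subgroup of `K_t = O(C(t))`. -/
structure Special (t u : G) (p : ℕ) : Prop where
  ex : ∃ T : Subgroup G, T ≤ Kc t ∧ T ≤ centralizer ({u} : Set G) ∧ IsPGroup p T ∧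
    Nat.card T = p ^ (Nat.card (Kc t)).factorization p

/-- `C(t)` contains a Sylow `p`-subgroup of `G` and controls `G`-fusion of the `p`-elements of
`K_t = O(C(t))`. -/
structure Ctrl (t : G) (p : ℕ) : Prop where
  not_dvd : ¬ p ∣ (centralizer ({t} : Set G)).index
  mod_eq : (centralizer ({t} : Set G)).index ≡ 1 [MOD p]
  fusion : ∀ x ∈ Kc t, (∃ k, orderOf x = p ^ k) → ∀ g : G, g * x * g⁻¹ ∈ Kc t →
    ∃ h : G, h * t = t * h ∧ h * x * h⁻¹ = g * x * g⁻¹

/-- The `p`-part of the Fitting subgroup of `K_t` is not centralised by any four-group containing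
`t` in the strong sense `Special`. -/
structure NonSpecial (t : G) (p : ℕ) : Prop where
  prime : p.Prime
  dvd : p ∣ Nat.card (fittingOf (Kc t))
  ns : ∀ u : G, IsInv u → u ≠ t → t * u = u * t → ¬ Special t u p

/-- Configuration (L1*): `F₀` is an abelian normal subgroup of `C(t)`, inverted by every involution
`u ≠ t` commuting with `t` and lying in the Sylow 2-subgroup `S` of `C(t)`, and
`K_t = F₀ C_{K_t}(S)`. -/
structure LConf (t : G) (S F₀ : Subgroup G) : Prop where
  le : F₀ ≤ Kc t
  normal : centralizer ({t} : Set G) ≤ normalizer (F₀ : Set G)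
  comm : ∀ x ∈ F₀, ∀ y ∈ F₀, x * y = y * x
  mem : t ∈ S
  sylow : ∃ P : Sylow 2 G, (P : Subgroup G) = S
  cent : S ≤ centralizer ({t} : Set G)
  invert : ∀ u ∈ S, IsInv u → u ≠ t → ∀ x ∈ F₀, u * x * u⁻¹ = x⁻¹
  gen : ∀ y ∈ Kc t, ∃ a ∈ F₀, ∃ c ∈ Kc t, (∀ s ∈ S, c * s = s * c) ∧ y = a * c
  ctrl : ∀ r : ℕ, r.Prime → r ∣ Nat.card F₀ → Ctrl t r

end Cfsg.Agent.Classification.TypeZ.Bender
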