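import Mathlib
import Cfsg.Agent.Classification.TypeB.Basic
import Cfsg.Agent.Lib.CoprimeStab

/-!
# A group of odd order acting on the `p + 1` lines of a section of order `p ^ 2`

`K` is a subgroup of odd order normalising `Z ≤ E`, `|E| = p² |Z|`, `E / Z` abelian of exponent `p`, and `u` is an
involution normalising `K`, `E`, `Z`.  We bound the length of the orbit of a `u`-invariant line.
-/

set_option autoImplicit false
set_option linter.unusedSectionVars false
set_option linter.style.haveILetI false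

namespace Cfsg.Agent.Classification.TypeZ.LineAction

open Subgroup
open scoped commutatorElement
open Cfsg.Agent.Classification.TypeB.Basic

/-! ### Permutation lemmas -/

section perm

variable {K Ω : Type*} [Group K] [Finite K] [MulAction K Ω]

theorem fixed_of_unipotent (hodd : Odd (Nat.card K)) {p : ℕ} [hp : Fact p.Prime] (hp2 : p ≠ 2)
    {ω : Ω} (hcard : (MulAction.orbit K ω).ncard ≤ p + 1) {y : K} (hy : y • ω = ω)
    (hfix : ∀ ω' ∈ MulAction.orbit K ω, y • ω' = ω' → ω' = ω)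
    (hpow : ∀ ω' ∈ MulAction.orbit K ω, y ^ p • ω' = ω') : ∀ k : K, k • ω = ω := by
  classical
  set O := MulAction.orbit K ω with hO
  have hfin : Finite O := Set.Finite.to_subtype (Set.finite_range _)
  have := Fintype.ofFinite O
  let f : Function.End O := fun a => y • a
  have hf : ∀ n : ℕ, ∀ a : O, (f ^ n) a = y ^ n • a := by
    intro n
    induction n with
    | zero => intro a; rw [pow_zero, pow_zero, one_smul]; rfl
    | succ n ih =>
      intro a
      rw [pow_succ', pow_succ', mul_smul, ← ih a]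
      rfl
  have hfp : f ^ p ^ 1 = 1 := by
    funext a
    rw [pow_one, hf]
    exact Subtype.ext (hpow a a.2)
  have hmod := Equiv.Perm.card_fixedPoints_modEq (n := 1) hfp
  have hfp1 : Fintype.card f.fixedPoints = 1 := by
    rw [Fintype.card_eq_one_iff]
    refine ⟨⟨⟨ω, MulAction.mem_orbit_self ω⟩, ?_⟩, ?_⟩
    · exact Subtype.ext hy
    · rintro ⟨a, ha⟩
      apply Subtype.ext
      apply Subtype.ext
      exact hfix a a.2 (congrArg Subtype.val ha)
  rw [hfp1] at hmod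
  have hcardO : Fintype.card O = O.ncard := by
    rw [← Nat.card_eq_fintype_card]; rfl
  rw [hcardO] at hmod
  have hdvd : O.ncard ∣ Nat.card K := by
    have h1 := MulAction.index_stabilizer K ω
    rw [← hO] at h1
    rw [← h1]
    exact (MulAction.stabilizer K ω).index_dvd_card
  have hoddO : Odd O.ncard := hodd.of_dvd_nat hdvd
  have h1 : O.ncard = 1 := by
    have hp3 : 3 ≤ p := by
      have := hp.out.two_le
      omega
    have hpodd : Odd p := hp.out.odd_of_ne_two hp2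
    -- `O.ncard ≡ 1 [MOD p]`, `O.ncard ≤ p + 1`
    have h0 : 0 < O.ncard := hoddO.pos
    by_contra hne
    have h2 : p ∣ O.ncard - 1 := (Nat.modEq_iff_dvd' h0).1 hmod.symm
    have h3 : p ≤ O.ncard - 1 := Nat.le_of_dvd (by omega) h2
    have h4 : O.ncard = p + 1 := by omega
    rw [h4] at hoddO
    exact (Nat.not_even_iff_odd.2 hoddO) hpodd.add_one
  intro k
  obtain ⟨a, ha⟩ := Set.ncard_eq_one.1 h1
  have h2 : k • ω ∈ O := MulAction.mem_orbit ω k
  have h3 : ω ∈ O := MulAction.mem_orbit_self ω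
  rw [ha, Set.mem_singleton_iff] at h2 h3
  rw [h2, h3]

theorem two_orbits {n : ℕ} {ω₁ ω₂ : Ω} (Λ : Set Ω) (hΛ : Λ.Finite) (hΛc : Λ.ncard ≤ n)
    (h1 : MulAction.orbit K ω₁ ⊆ Λ) (h2 : MulAction.orbit K ω₂ ⊆ Λ)
    (hd : ω₂ ∉ MulAction.orbit K ω₁)
    (hs : MulAction.stabilizer K ω₂ ≤ MulAction.stabilizer K ω₁) :
    2 * (MulAction.stabilizer K ω₁).index ≤ n := by
  have h3 : (MulAction.stabilizer K ω₁).index ≤ (MulAction.stabilizer K ω₂).index :=
    Nat.le_of_dvd (Nat.pos_of_ne_zero Subgroup.index_ne_zero_of_finite)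
      (Subgroup.index_dvd_of_le hs)
  have h4 : Disjoint (MulAction.orbit K ω₁) (MulAction.orbit K ω₂) := by
    rw [Set.disjoint_left]
    intro a ha1 ha2
    apply hd
    have e1 : MulAction.orbit K a = MulAction.orbit K ω₁ := MulAction.orbit_eq_iff.2 ha1
    have e2 : MulAction.orbit K a = MulAction.orbit K ω₂ := MulAction.orbit_eq_iff.2 ha2
    rw [← e1, e2]
    exact MulAction.mem_orbit_self _
  have h5 := Set.ncard_union_eq h4 (hΛ.subset h1) (hΛ.subset h2)
  have h6 : (MulAction.orbit K ω₁ ∪ MulAction.orbit K ω₂).ncard ≤ n :=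
    (Set.ncard_le_ncard (Set.union_subset h1 h2) hΛ).trans hΛc
  rw [h5, ← MulAction.index_stabilizer, ← MulAction.index_stabilizer] at h6
  omega

end perm

/-! ### The action on a section -/

section sec

variable {G : Type*} [Group G]

/-- the elements normalising `A` and `B` and acting trivially on `B / A` -/
def secCent (A B : Subgroup G) : Subgroup G where
  carrier := {g | g ∈ normalizer (A : Set G) ∧ g ∈ normalizer (B : Set G) ∧
    ∀ b ∈ B, g * b * g⁻¹ * b⁻¹ ∈ A}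
  one_mem' := ⟨one_mem _, one_mem _, fun b _ => by simp⟩
  mul_mem' := by
    rintro g h ⟨hg1, hg2, hg3⟩ ⟨hh1, hh2, hh3⟩
    refine ⟨mul_mem hg1 hh1, mul_mem hg2 hh2, fun b hb => ?_⟩
    have h5 : g * h * b * (g * h)⁻¹ * b⁻¹ =
        (g * (h * b * h⁻¹) * g⁻¹ * (h * b * h⁻¹)⁻¹) * (h * b * h⁻¹ * b⁻¹) := by group
    rw [h5]
    exact A.mul_mem (hg3 _ (conj_mem_of_mem_normalizer hh2 hb)) (hh3 b hb)
  inv_mem' := by
    rintro g ⟨hg1, hg2, hg3⟩
    refine ⟨inv_mem hg1, inv_mem hg2, fun b hb => ?_⟩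
    have h6 : g⁻¹ * b * g⁻¹⁻¹ ∈ B := conj_mem_of_mem_normalizer (inv_mem hg2) hb
    have h7 := A.inv_mem (hg3 _ h6)
    have h8 : (g * (g⁻¹ * b * g⁻¹⁻¹) * g⁻¹ * (g⁻¹ * b * g⁻¹⁻¹)⁻¹)⁻¹ =
      (g⁻¹ * b * g⁻¹⁻¹) * b⁻¹ := by group
    rwa [h8] at h7

theorem mem_secCent {A B : Subgroup G} {g : G} : g ∈ secCent A B ↔
    g ∈ normalizer (A : Set G) ∧ g ∈ normalizer (B : Set G) ∧ ∀ b ∈ B, g * b * g⁻¹ * b⁻¹ ∈ A :=
  Iff.rfl

theorem mem_secCent' {A B : Subgroup G} {g : G} (h1 : g ∈ normalizer (A : Set G))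
    (h2 : g ∈ normalizer (B : Set G)) : g ∈ secCent A B ↔ ∀ b ∈ B, g * b * g⁻¹ * b⁻¹ ∈ A :=
  ⟨fun h => h.2.2, fun h => ⟨h1, h2, h⟩⟩

theorem conj_mem_secCent {A B : Subgroup G} {g n : G} (h : g ∈ secCent A B)
    (hA : n ∈ normalizer (A : Set G)) (hB : n ∈ normalizer (B : Set G)) :
    n * g * n⁻¹ ∈ secCent A B := by
  refine ⟨mul_mem (mul_mem hA h.1) (inv_mem hA), mul_mem (mul_mem hB h.2.1) (inv_mem hB),
    fun b hb => ?_⟩
  have h1 : n⁻¹ * b * n⁻¹⁻¹ ∈ B := conj_mem_of_mem_normalizer (inv_mem hB) hb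
  have h2 := conj_mem_of_mem_normalizer hA (h.2.2 _ h1)
  have h3 : n * (g * (n⁻¹ * b * n⁻¹⁻¹) * g⁻¹ * (n⁻¹ * b * n⁻¹⁻¹)⁻¹) * n⁻¹ =
    n * g * n⁻¹ * b * (n * g * n⁻¹)⁻¹ * b⁻¹ := by group
  rwa [h3] at h2

/-- Commutators act trivially on a section of prime order. -/
theorem commutatorElement_mem_secCent [Finite G] {A B : Subgroup G}
    (hBA : B ≤ normalizer (A : Set G)) (hp : (A.relIndex B).Prime) {g h : G}
    (hgA : g ∈ normalizer (A : Set G)) (hgB : g ∈ normalizer (B : Set G))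
    (hhA : h ∈ normalizer (A : Set G)) (hhB : h ∈ normalizer (B : Set G)) :
    ⁅g, h⁆ ∈ secCent A B := by
  have hcA : ⁅g, h⁆ ∈ normalizer (A : Set G) := by
    rw [commutatorElement_def]
    exact mul_mem (mul_mem (mul_mem hgA hhA) (inv_mem hgA)) (inv_mem hhA)
  have hcB : ⁅g, h⁆ ∈ normalizer (B : Set G) := by
    rw [commutatorElement_def]
    exact mul_mem (mul_mem (mul_mem hgB hhB) (inv_mem hgB)) (inv_mem hhB)
  refine ⟨hcA, hcB, ?_⟩
  have hAn : (A.subgroupOf B).Normal := by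
    refine ⟨fun a ha b => ?_⟩
    rw [mem_subgroupOf] at ha ⊢
    exact conj_mem_of_mem_normalizer (hBA b.2) ha
  have hcard : Nat.card (B ⧸ A.subgroupOf B) = A.relIndex B := rfl
  have hf : Fact (A.relIndex B).Prime := ⟨hp⟩
  have hcyc : IsCyclic (B ⧸ A.subgroupOf B) := isCyclic_of_prime_card hcard
  have key : ∀ k : G, k ∈ normalizer (A : Set G) → k ∈ normalizer (B : Set G) →
      ∃ m : ℤ, ∀ b ∈ B, (b ^ m)⁻¹ * (k * b * k⁻¹) ∈ A := by
    intro k hkA hkB
    let φ : B →* B := (B.normalizerMonoidHom ⟨k, hkB⟩).toMonoidHom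
    have hφ : ∀ y : B, ((φ y : B) : G) = k * y * k⁻¹ := fun y => rfl
    let σ : B ⧸ A.subgroupOf B →* B ⧸ A.subgroupOf B :=
      QuotientGroup.map _ _ φ (by
        intro a ha
        rw [mem_subgroupOf] at ha
        show (φ a : G) ∈ A
        rw [hφ]
        exact conj_mem_of_mem_normalizer hkA ha)
    obtain ⟨m, hm⟩ := MonoidHom.map_cyclic σ
    refine ⟨m, fun b hb => ?_⟩
    have h1 := hm (QuotientGroup.mk ⟨b, hb⟩)
    have h2 : (QuotientGroup.mk (φ ⟨b, hb⟩) : B ⧸ A.subgroupOf B) =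
      QuotientGroup.mk ((⟨b, hb⟩ : B) ^ m) := h1
    have h3 := (QuotientGroup.eq (s := A.subgroupOf B)).1 h2.symm
    rw [mem_subgroupOf] at h3
    exact h3
  -- modulo `A`
  obtain ⟨m, hm⟩ := key g hgA hgB
  obtain ⟨n, hn⟩ := key h hhA hhB
  let π : B →* B ⧸ A.subgroupOf B := QuotientGroup.mk' _
  have hπ : ∀ a b : B, π a = π b ↔ (a : G)⁻¹ * b ∈ A := by
    intro a b
    show (QuotientGroup.mk a : B ⧸ A.subgroupOf B) = QuotientGroup.mk b ↔ _
    rw [QuotientGroup.eq, mem_subgroupOf]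
    rfl
  have hcj : ∀ k : G, k ∈ normalizer (B : Set G) → ∀ b : B, k * b * k⁻¹ ∈ B :=
    fun k hk b => conj_mem_of_mem_normalizer hk b.2
  have e1 : ∀ b : B, π ⟨g * b * g⁻¹, hcj g hgB b⟩ = π b ^ m := by
    intro b
    rw [← map_zpow, eq_comm, hπ]
    push_cast
    exact hm b b.2
  have e2 : ∀ b : B, π ⟨h * b * h⁻¹, hcj h hhB b⟩ = π b ^ n := by
    intro b
    rw [← map_zpow, eq_comm, hπ]
    push_cast
    exact hn b b.2
  intro b hb
  have h1 : h⁻¹ * (g⁻¹ * b * g⁻¹⁻¹) * h⁻¹⁻¹ ∈ B :=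
    conj_mem_of_mem_normalizer (inv_mem hhB) (conj_mem_of_mem_normalizer (inv_mem hgB) hb)
  set b' : G := (h * g)⁻¹ * b * (h * g) with hb'
  have hb'B : b' ∈ B := by
    have := conj_mem_of_mem_normalizer (inv_mem (mul_mem hhB hgB)) hb
    rwa [inv_inv] at this
  have e3 : π ⟨g * (⟨h * b' * h⁻¹, hcj h hhB ⟨b', hb'B⟩⟩ : B) * g⁻¹, hcj g hgB _⟩ =
      (π ⟨b', hb'B⟩ ^ n) ^ m :=
    (e1 ⟨h * b' * h⁻¹, hcj h hhB ⟨b', hb'B⟩⟩).trans (congrArg (· ^ m) (e2 ⟨b', hb'B⟩))
  have e4 : π ⟨h * (⟨g * b' * g⁻¹, hcj g hgB ⟨b', hb'B⟩⟩ : B) * h⁻¹, hcj h hhB _⟩ =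
      (π ⟨b', hb'B⟩ ^ m) ^ n :=
    (e2 ⟨g * b' * g⁻¹, hcj g hgB ⟨b', hb'B⟩⟩).trans (congrArg (· ^ n) (e1 ⟨b', hb'B⟩))
  have e5 : (π ⟨b', hb'B⟩ ^ m) ^ n = (π ⟨b', hb'B⟩ ^ n) ^ m := by
    rw [← zpow_mul, ← zpow_mul, mul_comm]
  rw [← e4.trans e5, eq_comm, hπ] at e3
  have e6 : h * (g * b' * g⁻¹) * h⁻¹ = b := by rw [hb']; group
  have e7 : g * (h * b' * h⁻¹) * g⁻¹ = ⁅g, h⁆ * b * ⁅g, h⁆⁻¹ := by
    rw [hb', commutatorElement_def]; group
  have e8 : (h * (g * b' * g⁻¹) * h⁻¹)⁻¹ * (g * (h * b' * h⁻¹) * g⁻¹) ∈ A := e3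
  rw [e6, e7] at e8
  have e9 := conj_mem_of_mem_normalizer (hBA hb) e8
  have e10 : b * (b⁻¹ * (⁅g, h⁆ * b * ⁅g, h⁆⁻¹)) * b⁻¹ = ⁅g, h⁆ * b * ⁅g, h⁆⁻¹ * b⁻¹ := by group
  rwa [e10] at e9

theorem commutator_le_secCent [Finite G] {A B N H : Subgroup G}
    (hBA : B ≤ normalizer (A : Set G)) (hp : (A.relIndex B).Prime)
    (hNA : N ≤ normalizer (A : Set G)) (hNB : N ≤ normalizer (B : Set G))
    (hHA : H ≤ normalizer (A : Set G)) (hHB : H ≤ normalizer (B : Set G)) :
    ⁅N, H⁆ ≤ secCent A B := by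
  rw [commutator_le]
  exact fun g hg h hh =>
    commutatorElement_mem_secCent hBA hp (hNA hg) (hNB hg) (hHA hh) (hHB hh)

end sec

/-! ### Lines -/

section lines

variable {G : Type*} [Group G]

/-- the subgroups `L` with `Z ≤ L ≤ E` and `|L| = p |Z|` -/
def lines (p : ℕ) (Z E : Subgroup G) : Set (Subgroup G) :=
  {L | Z ≤ L ∧ L ≤ E ∧ Nat.card L = p * Nat.card Z}

theorem mem_lines {p : ℕ} {Z E L : Subgroup G} :
    L ∈ lines p Z E ↔ Z ≤ L ∧ L ≤ E ∧ Nat.card L = p * Nat.card Z := Iff.rfl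

theorem card_mul_relIndex {H K : Subgroup G} (h : H ≤ K) :
    Nat.card H * H.relIndex K = Nat.card K := by
  have := Subgroup.relIndex_mul_relIndex (⊥ : Subgroup G) H K bot_le h
  simpa [Subgroup.relIndex_bot_left] using this

variable [Finite G] {p : ℕ} [hp : Fact p.Prime] {Z E : Subgroup G}

theorem relIndex_left {L : Subgroup G} (hL : L ∈ lines p Z E) : Z.relIndex L = p := by
  have h1 := card_mul_relIndex hL.1
  rw [hL.2.2, mul_comm p] at h1
  exact Nat.eq_of_mul_eq_mul_left Nat.card_pos h1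

theorem relIndex_right (hE : Nat.card E = p ^ 2 * Nat.card Z) {L : Subgroup G}
    (hL : L ∈ lines p Z E) : L.relIndex E = p := by
  have h1 := card_mul_relIndex hL.2.1
  rw [hL.2.2, hE] at h1
  have h2 : p * Nat.card Z * L.relIndex E = p * Nat.card Z * p := by rw [h1]; ring
  exact Nat.eq_of_mul_eq_mul_left (Nat.mul_pos hp.out.pos Nat.card_pos) h2

theorem eq_of_mem_of_notMem {L L' : Subgroup G} (hL : L ∈ lines p Z E) (hL' : L' ∈ lines p Z E)
    {x : G} (hx : x ∈ L) (hx' : x ∈ L') (hxZ : x ∉ Z) : L = L' := by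
  have hle : Z ≤ L ⊓ L' := le_inf hL.1 hL'.1
  have key : ∀ M : Subgroup G, M ∈ lines p Z E → L ⊓ L' ≤ M → L ⊓ L' = M := by
    intro M hM hIM
    have h1 := Subgroup.relIndex_mul_relIndex Z (L ⊓ L') M hle hIM
    rw [relIndex_left hM] at h1
    have h2 : Z.relIndex (L ⊓ L') ∣ p := Dvd.intro _ h1
    rcases (Nat.dvd_prime hp.out).1 h2 with h3 | h3
    · exact absurd ((Subgroup.relIndex_eq_one.1 h3) ⟨hx, hx'⟩) hxZ
    · rw [h3] at h1
      have h4 : (L ⊓ L').relIndex M = 1 := by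
        have h5 : p * (L ⊓ L').relIndex M = p * 1 := by rw [h1, mul_one]
        exact Nat.eq_of_mul_eq_mul_left hp.out.pos h5
      exact le_antisymm hIM (Subgroup.relIndex_eq_one.1 h4)
  rw [← key L hL inf_le_left]
  exact key L' hL' inf_le_right

theorem inf_le_of_ne {L L' : Subgroup G} (hL : L ∈ lines p Z E) (hL' : L' ∈ lines p Z E)
    (hne : L ≠ L') : L ⊓ L' ≤ Z := by
  rintro x ⟨hx, hx'⟩
  by_contra hxZ
  exact hne (eq_of_mem_of_notMem hL hL' hx hx' hxZ)

theorem ncard_lines_le (hZE : Z ≤ E) (hE : Nat.card E = p ^ 2 * Nat.card Z) :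
    (lines p Z E).ncard ≤ p + 1 := by
  classical
  have := Fintype.ofFinite G
  have hfin : (lines p Z E).Finite := Set.toFinite _
  let f : Subgroup G → Finset G := fun L => (L : Set G).toFinset \ (Z : Set G).toFinset
  have hcard : ∀ H : Subgroup G, (H : Set G).toFinset.card = Nat.card H := by
    intro H
    rw [Set.toFinset_card, ← Nat.card_eq_fintype_card]
    rfl
  have hf : ∀ L : Subgroup G, Z ≤ L → (f L).card = Nat.card L - Nat.card Z := by
    intro L hL
    have h1 : (Z : Set G).toFinset ⊆ (L : Set G).toFinset := by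
      rw [Set.toFinset_subset_toFinset]
      exact hL
    rw [Finset.card_sdiff_of_subset h1, hcard, hcard]
  have hdisj : ((hfin.toFinset : Finset (Subgroup G)) : Set (Subgroup G)).PairwiseDisjoint f := by
    intro L hL L' hL' hne
    rw [Finset.mem_coe, Set.Finite.mem_toFinset] at hL hL'
    rw [Function.onFun, Finset.disjoint_left]
    intro x hx hx'
    simp only [f, Finset.mem_sdiff, Set.mem_toFinset, SetLike.mem_coe] at hx hx'
    exact hne (eq_of_mem_of_notMem hL hL' hx.1 hx'.1 hx.2)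
  have hsub : hfin.toFinset.biUnion f ⊆ f E := by
    intro x hx
    rw [Finset.mem_biUnion] at hx
    obtain ⟨L, hL, hx⟩ := hx
    rw [Set.Finite.mem_toFinset] at hL
    simp only [f, Finset.mem_sdiff, Set.mem_toFinset, SetLike.mem_coe] at hx ⊢
    exact ⟨hL.2.1 hx.1, hx.2⟩
  have h1 := Finset.card_le_card hsub
  rw [Finset.card_biUnion hdisj, hf E hZE] at h1
  have h2 : ∑ L ∈ hfin.toFinset, (f L).card = ∑ L ∈ hfin.toFinset, (p - 1) * Nat.card Z := by
    apply Finset.sum_congr rfl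
    intro L hL
    rw [Set.Finite.mem_toFinset] at hL
    rw [hf L hL.1, hL.2.2, Nat.sub_mul, one_mul]
  rw [h2, Finset.sum_const, smul_eq_mul, ← Set.ncard_eq_toFinset_card _ hfin, hE] at h1
  have h3 : p ^ 2 * Nat.card Z - Nat.card Z = (p + 1) * ((p - 1) * Nat.card Z) := by
    obtain ⟨q, hq⟩ : ∃ q, p = q + 1 := ⟨p - 1, by have := hp.out.pos; omega⟩
    rw [hq, Nat.add_sub_cancel]
    have h4 : (q + 1) ^ 2 * Nat.card Z = (q + 1 + 1) * (q * Nat.card Z) + Nat.card Z := by ring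
    rw [h4, Nat.add_sub_cancel]
  rw [h3] at h1
  have h5 : 0 < (p - 1) * Nat.card Z :=
    Nat.mul_pos (by have := hp.out.two_le; omega) Nat.card_pos
  exact Nat.le_of_mul_le_mul_right h1 h5

theorem map_mem_lines {L : Subgroup G} (hL : L ∈ lines p Z E) {k : G}
    (hkZ : k ∈ normalizer (Z : Set G)) (hkE : k ∈ normalizer (E : Set G)) :
    L.map (MulAut.conj k).toMonoidHom ∈ lines p Z E := by
  refine ⟨?_, ?_, ?_⟩
  · intro z hz
    refine ⟨k⁻¹ * z * k, hL.1 ?_, ?_⟩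
    · have := conj_mem_of_mem_normalizer (inv_mem hkZ) hz
      rwa [inv_inv] at this
    · show k * (k⁻¹ * z * k) * k⁻¹ = z
      group
  · rintro _ ⟨x, hx, rfl⟩
    exact conj_mem_of_mem_normalizer hkE (hL.2.1 hx)
  · rw [card_map_of_injective (MulAut.conj k).injective, hL.2.2]

/-- conjugation action of the subgroup `K` on the subgroups of `G` -/
@[reducible] def cj (K : Subgroup G) : MulAction K (Subgroup G) where
  smul k L := L.map (MulAut.conj (k : G)).toMonoidHom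
  one_smul L := by
    show L.map (MulAut.conj ((1 : K) : G)).toMonoidHom = L
    ext x
    simp
  mul_smul a b L := by
    show L.map (MulAut.conj ((a * b : K) : G)).toMonoidHom =
      (L.map (MulAut.conj (b : G)).toMonoidHom).map (MulAut.conj (a : G)).toMonoidHom
    rw [Subgroup.map_map]
    congr 1
    ext x
    simp

theorem map_conj_eq_iff {L : Subgroup G} {k : G} :
    L.map (MulAut.conj k).toMonoidHom = L ↔ k ∈ normalizer (L : Set G) := by
  constructor
  · intro h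
    apply mem_normalizer_of_conj
    intro x hx
    rw [← h]
    exact ⟨x, hx, rfl⟩
  · intro h
    apply le_antisymm
    · rintro _ ⟨x, hx, rfl⟩
      exact conj_mem_of_mem_normalizer h hx
    · intro x hx
      refine ⟨k⁻¹ * x * k, ?_, ?_⟩
      · have := conj_mem_of_mem_normalizer (inv_mem h) hx
        rwa [inv_inv] at this
      · show k * (k⁻¹ * x * k) * k⁻¹ = x
        group

theorem le_normalizer_of_unipotent {K : Subgroup G} (hodd : Odd (Nat.card K)) (hp2 : p ≠ 2)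
    (hZE : Z ≤ E) (hE : Nat.card E = p ^ 2 * Nat.card Z) (hKZ : K ≤ normalizer (Z : Set G))
    (hKE : K ≤ normalizer (E : Set G)) {L : Subgroup G} (hL : L ∈ lines p Z E) {y : G}
    (hyK : y ∈ K) (hyL : y ∈ normalizer (L : Set G))
    (hfix : ∀ L' ∈ lines p Z E, y ∈ normalizer (L' : Set G) → L' = L)
    (hpow : ∀ L' ∈ lines p Z E, y ^ p ∈ normalizer (L' : Set G)) :
    K ≤ normalizer (L : Set G) := by
  letI := cj K
  have horb : ∀ L' ∈ MulAction.orbit K L, L' ∈ lines p Z E := by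
    rintro _ ⟨k, rfl⟩
    exact map_mem_lines hL (hKZ k.2) (hKE k.2)
  have h := fixed_of_unipotent (K := K) (Ω := Subgroup G) hodd hp2 (ω := L)
    ((Set.ncard_le_ncard horb (Set.toFinite _)).trans (ncard_lines_le hZE hE)) (y := ⟨y, hyK⟩)
    (map_conj_eq_iff.2 hyL)
    (fun L' hL' h => hfix L' (horb L' hL') (map_conj_eq_iff.1 h))
    (fun L' hL' => map_conj_eq_iff.2 (hpow L' (horb L' hL')))
  intro k hk
  exact map_conj_eq_iff.1 (h ⟨k, hk⟩)

theorem two_mul_relIndex_le {K : Subgroup G}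
    (hZE : Z ≤ E) (hE : Nat.card E = p ^ 2 * Nat.card Z) (hKZ : K ≤ normalizer (Z : Set G))
    (hKE : K ≤ normalizer (E : Set G)) {U W : Subgroup G} (hU : U ∈ lines p Z E)
    (hW : W ∈ lines p Z E) (hne : ∀ k ∈ K, U.map (MulAut.conj k).toMonoidHom ≠ W)
    (hle : K ⊓ normalizer (W : Set G) ≤ normalizer (U : Set G)) :
    2 * (normalizer (U : Set G)).relIndex K ≤ p + 1 := by
  letI := cj K
  have horb : ∀ L ∈ lines p Z E, ∀ L' ∈ MulAction.orbit K L, L' ∈ lines p Z E := by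
    rintro L hL _ ⟨k, rfl⟩
    exact map_mem_lines hL (hKZ k.2) (hKE k.2)
  have hstab : ∀ L : Subgroup G,
      MulAction.stabilizer K L = (normalizer (L : Set G)).subgroupOf K := by
    intro L
    ext k
    rw [MulAction.mem_stabilizer_iff, mem_subgroupOf]
    exact map_conj_eq_iff
  have h := two_orbits (K := K) (Ω := Subgroup G) (n := p + 1) (ω₁ := U) (ω₂ := W)
    (lines p Z E) (Set.toFinite _) (ncard_lines_le hZE hE) (horb U hU) (horb W hW)
    (by
      rintro ⟨k, hk⟩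
      exact hne k k.2 hk)
    (by
      rw [hstab, hstab]
      intro k hk
      rw [mem_subgroupOf] at hk ⊢
      exact hle ⟨k.2, hk⟩)
  rw [hstab] at h
  exact h

end lines

/-! ### The main lemma -/

section main

variable {G : Type*} [Group G] [Finite G]

/-- `K` (of odd order) and the involution `u` act on the section `E / Z` of order `p²`; `H` says that `[K, u]`
acts trivially if some line is invariant under `K` and `u`. -/
structure LineData (p : ℕ) (K Z E : Subgroup G) (u : G) : Prop where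
  p2 : p ≠ 2
  odd : Odd (Nat.card K)
  inv : IsInv u
  uK : u ∈ normalizer (K : Set G)
  uZ : u ∈ normalizer (Z : Set G)
  uE : u ∈ normalizer (E : Set G)
  KZ : K ≤ normalizer (Z : Set G)
  KE : K ≤ normalizer (E : Set G)
  ZE : Z ≤ E
  card : Nat.card E = p ^ 2 * Nat.card Z
  cen : ∀ e ∈ E, ∀ z ∈ Z, e * z = z * e
  ab : ∀ e ∈ E, ∀ f ∈ E, ⁅e, f⁆ ∈ Z
  exp : ∀ e ∈ E, e ^ p ∈ Z
  H : ∀ L ∈ lines p Z E, u ∈ normalizer (L : Set G) → K ≤ normalizer (L : Set G) →
    ⁅K, zpowers u⁆ ≤ secCent Z E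

variable {p : ℕ} [hp : Fact p.Prime] {K Z E : Subgroup G} {u : G}

theorem secCent_le_normalizer {L : Subgroup G} (hL : Z ≤ L) (hLE : L ≤ E) :
    secCent Z E ≤ normalizer (L : Set G) := by
  intro y hy
  apply mem_normalizer_of_conj
  intro l hl
  have h1 := hL (hy.2.2 l (hLE hl))
  have h2 : y * l * y⁻¹ = (y * l * y⁻¹ * l⁻¹) * l := by group
  rw [h2]
  exact L.mul_mem h1 hl

/-- unipotent elements -/
theorem pow_conj (hcen : ∀ e ∈ E, ∀ z ∈ Z, e * z = z * e) {L : Subgroup G} (hLE : L ≤ E) {y : G}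
    (h1 : y ∈ secCent L E) (h2 : y ∈ secCent Z L) (n : ℕ) {b : G} (hb : b ∈ E) :
    ∃ z ∈ Z, y ^ n * b * (y ^ n)⁻¹ = z * (y * b * y⁻¹ * b⁻¹) ^ n * b := by
  have hwL : y * b * y⁻¹ * b⁻¹ ∈ L := h1.2.2 b hb
  induction n with
  | zero => exact ⟨1, Z.one_mem, by simp⟩
  | succ n ih =>
    obtain ⟨z, hz, h⟩ := ih
    set w := y * b * y⁻¹ * b⁻¹ with hw
    have hz₁ : y * z * y⁻¹ ∈ Z := conj_mem_of_mem_normalizer h2.1 hz
    have hz₂ : y * w * y⁻¹ * w⁻¹ ∈ Z := h2.2.2 w hwL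
    set z₂ := y * w * y⁻¹ * w⁻¹ with hz₂'
    have hcomm : Commute z₂ w := (hcen w (hLE hwL) z₂ hz₂).symm
    have e1 : y * w * y⁻¹ = z₂ * w := by rw [hz₂']; group
    have e2 : y * b * y⁻¹ = w * b := by rw [hw]; group
    refine ⟨y * z * y⁻¹ * z₂ ^ n, Z.mul_mem hz₁ (Z.pow_mem hz₂ n), ?_⟩
    calc y ^ (n + 1) * b * (y ^ (n + 1))⁻¹ = y * (y ^ n * b * (y ^ n)⁻¹) * y⁻¹ := by
          rw [pow_succ']; group
      _ = y * (z * w ^ n * b) * y⁻¹ := by rw [h]
      _ = (y * z * y⁻¹) * (y * w ^ n * y⁻¹) * (y * b * y⁻¹) := by group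
      _ = (y * z * y⁻¹) * (y * w * y⁻¹) ^ n * (y * b * y⁻¹) := by rw [conj_pow]
      _ = (y * z * y⁻¹) * (z₂ ^ n * w ^ n) * (w * b) := by rw [e1, e2, hcomm.mul_pow]
      _ = y * z * y⁻¹ * z₂ ^ n * (w ^ n * w) * b := by group
      _ = y * z * y⁻¹ * z₂ ^ n * w ^ (n + 1) * b := by rw [pow_succ]

theorem pow_mem_secCent (hcen : ∀ e ∈ E, ∀ z ∈ Z, e * z = z * e) (hexp : ∀ e ∈ E, e ^ p ∈ Z)
    {L : Subgroup G} (hLE : L ≤ E) {y : G}
    (h1 : y ∈ secCent L E) (h2 : y ∈ secCent Z L) : y ^ p ∈ secCent Z E := by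
  refine ⟨pow_mem h2.1 p, pow_mem h1.2.1 p, fun b hb => ?_⟩
  obtain ⟨z, hz, h⟩ := pow_conj hcen hLE h1 h2 p hb
  rw [h]
  have h3 : z * (y * b * y⁻¹ * b⁻¹) ^ p * b * b⁻¹ = z * (y * b * y⁻¹ * b⁻¹) ^ p := by group
  rw [h3]
  exact Z.mul_mem hz (hexp _ (hLE (h1.2.2 b hb)))

/-- `y` acts trivially if it acts trivially on two lines -/
theorem mem_secCent_of_two (hE : Nat.card E = p ^ 2 * Nat.card Z) {L L' : Subgroup G}
    (hL : L ∈ lines p Z E) (hL' : L' ∈ lines p Z E) (hne : L' ≠ L) {y : G}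
    (hyE : y ∈ normalizer (E : Set G)) (h1 : y ∈ secCent Z L)
    (h2 : ∀ e ∈ L', y * e * y⁻¹ * e⁻¹ ∈ Z) (hEZ : E ≤ normalizer (Z : Set G)) :
    y ∈ secCent Z E := by
  refine ⟨h1.1, hyE, ?_⟩
  let X : Subgroup G :=
    { carrier := {e | e ∈ E ∧ y * e * y⁻¹ * e⁻¹ ∈ Z}
      one_mem' := ⟨E.one_mem, by simp⟩
      mul_mem' := by
        rintro a b ⟨ha, ha'⟩ ⟨hb, hb'⟩
        refine ⟨E.mul_mem ha hb, ?_⟩
        have e1 : y * (a * b) * y⁻¹ * (a * b)⁻¹ =
          (y * a * y⁻¹ * a⁻¹) * (a * (y * b * y⁻¹ * b⁻¹) * a⁻¹) := by group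
        rw [e1]
        exact Z.mul_mem ha' (conj_mem_of_mem_normalizer (hEZ ha) hb')
      inv_mem' := by
        rintro a ⟨ha, ha'⟩
        refine ⟨E.inv_mem ha, ?_⟩
        have e2 : y * a⁻¹ * y⁻¹ * a⁻¹⁻¹ = a⁻¹ * (y * a * y⁻¹ * a⁻¹)⁻¹ * a⁻¹⁻¹ := by group
        rw [e2]
        exact conj_mem_of_mem_normalizer (hEZ (E.inv_mem ha)) (Z.inv_mem ha') }
  have hLX : L ≤ X := fun e he => ⟨hL.2.1 he, h1.2.2 e he⟩
  have hLX' : L' ≤ X := fun e he => ⟨hL'.2.1 he, h2 e he⟩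
  have hXE : X ≤ E := fun e he => he.1
  have h3 := Subgroup.relIndex_mul_relIndex L X E hLX hXE
  rw [relIndex_right hE hL] at h3
  have h4 : X.relIndex E ∣ p := Dvd.intro_left _ h3
  have h5 : X.relIndex E = 1 := by
    rcases (Nat.dvd_prime hp.out).1 h4 with h5 | h5
    · exact h5
    · exfalso
      rw [h5] at h3
      have h6 : L.relIndex X = 1 := by
        have : L.relIndex X * p = 1 * p := by rw [h3, one_mul]
        exact Nat.eq_of_mul_eq_mul_right hp.out.pos this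
      have h7 : X ≤ L := Subgroup.relIndex_eq_one.1 h6
      apply hne
      apply Subgroup.eq_of_le_of_card_ge (hLX'.trans h7)
      rw [hL.2.2, hL'.2.2]
  intro e he
  exact ((Subgroup.relIndex_eq_one.1 h5) he).2

namespace LineData

variable (h : LineData p K Z E u)
include h

theorem EZ : E ≤ normalizer (Z : Set G) := by
  intro e he
  apply mem_normalizer_of_conj
  intro z hz
  rw [h.cen e he z hz]
  simpa using hz

theorem EL {L : Subgroup G} (hL : L ∈ lines p Z E) : E ≤ normalizer (L : Set G) := by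
  intro e he
  apply mem_normalizer_of_conj
  intro l hl
  have h1 := hL.1 (h.ab e he l (hL.2.1 hl))
  have h2 : e * l * e⁻¹ = ⁅e, l⁆ * l := by rw [commutatorElement_def]; group
  rw [h2]
  exact L.mul_mem h1 hl

/-- **transvections**: an element of `[K, u]` acting trivially on `E / L` and `L / Z`, for a `u`-invariant line `L`,
acts trivially on `E / Z`. -/
theorem mem_secCent {L : Subgroup G} (hL : L ∈ lines p Z E) (huL : u ∈ normalizer (L : Set G))
    {y : G} (hy : y ∈ ⁅K, zpowers u⁆) (h1 : y ∈ secCent L E) (h2 : y ∈ secCent Z L) :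
    y ∈ secCent Z E := by
  by_contra hcon
  have hyK : y ∈ K := comm_le h.uK hy
  have hKL : K ≤ normalizer (L : Set G) := by
    refine le_normalizer_of_unipotent h.odd h.p2 h.ZE h.card h.KZ h.KE hL hyK h1.1 ?_ ?_
    · intro L' hL' hyL'
      by_contra hne
      apply hcon
      refine mem_secCent_of_two h.card hL hL' hne h1.2.1 h2 ?_ h.EZ
      intro e he
      apply inf_le_of_ne hL hL' (Ne.symm hne)
      refine ⟨h1.2.2 e (hL'.2.1 he), ?_⟩
      exact L'.mul_mem (conj_mem_of_mem_normalizer hyL' he) (L'.inv_mem he)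
    · intro L' hL'
      exact secCent_le_normalizer hL'.1 hL'.2.1 (pow_mem_secCent h.cen h.exp hL.2.1 h1 h2)
  exact hcon (h.H L hL huL hKL hy)

theorem comm_le_secCent {L N : Subgroup G} (hL : L ∈ lines p Z E) (huL : u ∈ normalizer (L : Set G))
    (hN : N ≤ K) (hNL : N ≤ normalizer (L : Set G)) : ⁅N, zpowers u⁆ ≤ secCent Z E := by
  have hu : ∀ X : Subgroup G, u ∈ normalizer (X : Set G) → zpowers u ≤ normalizer (X : Set G) :=
    fun X hX => by rwa [zpowers_le]
  intro y hy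
  refine h.mem_secCent hL huL (commutator_mono hN le_rfl hy) ?_ ?_
  · exact commutator_le_secCent (h.EL hL) (by rw [relIndex_right h.card hL]; exact hp.out)
      hNL (hN.trans h.KE) (hu _ huL) (hu _ h.uE) hy
  · exact commutator_le_secCent (hL.2.1.trans h.EZ) (by rw [relIndex_left hL]; exact hp.out)
      (hN.trans h.KZ) hNL (hu _ h.uZ) (hu _ huL) hy

theorem two_mul_relIndex_le {U W : Subgroup G} (hU : U ∈ lines p Z E) (hW : W ∈ lines p Z E)
    (hne : U ≠ W) (huU : u ∈ normalizer (U : Set G)) (huW : u ∈ normalizer (W : Set G))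
    (hD : K ⊓ centralizer ({u} : Set G) ≤ normalizer (U : Set G)) :
    2 * (normalizer (U : Set G)).relIndex K ≤ p + 1 := by
  refine LineAction.two_mul_relIndex_le h.ZE h.card h.KZ h.KE hU hW ?_ ?_
  · intro k hk hkW
    -- a fixed point in the coset `k N_K(U)`
    set N : Subgroup G := K ⊓ normalizer (U : Set G) with hN
    have huN : u ∈ normalizer (N : Set G) := by
      apply mem_normalizer_of_conj
      rintro x ⟨hxK, hxU⟩
      have h0 : u * x * u⁻¹ ∈ normalizer (U : Set G) := mul_mem (mul_mem huU hxU) (inv_mem huU)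
      exact ⟨conj_mem_of_mem_normalizer h.uK hxK, h0⟩
    have hcos : ∀ a ∈ zpowers u, k⁻¹ * (a * k * a⁻¹) ∈ N := by
      intro a ha
      have haK : a ∈ normalizer (K : Set G) := (zpowers_le.2 h.uK) ha
      have haU : a ∈ normalizer (U : Set G) := (zpowers_le.2 huU) ha
      have haW : a ∈ normalizer (W : Set G) := (zpowers_le.2 huW) ha
      refine ⟨K.mul_mem (K.inv_mem hk) (conj_mem_of_mem_normalizer haK hk), ?_⟩
      apply mem_normalizer_of_conj
      intro x hx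
      have h1 : a⁻¹ * x * a⁻¹⁻¹ ∈ U := conj_mem_of_mem_normalizer (inv_mem haU) hx
      have h2 : k * (a⁻¹ * x * a⁻¹⁻¹) * k⁻¹ ∈ W := by
        rw [← hkW]
        exact ⟨_, h1, rfl⟩
      have h3 := conj_mem_of_mem_normalizer haW h2
      rw [← hkW] at h3
      obtain ⟨x', hx', h4⟩ := h3
      have h5 : k * x' * k⁻¹ = a * (k * (a⁻¹ * x * a⁻¹⁻¹) * k⁻¹) * a⁻¹ := h4
      have h6 : k⁻¹ * (a * k * a⁻¹) * x * (k⁻¹ * (a * k * a⁻¹))⁻¹ = x' := by
        have : x' = k⁻¹ * (k * x' * k⁻¹) * k := by group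
        rw [this, h5]
        group
      rw [h6]
      exact hx'
    obtain ⟨c, hc, hkc⟩ := Lib.CoprimeCommutator.exists_fixed_in_coset 2 (zpowers u) N
      h.inv.isPGroup (by rwa [zpowers_le]) (not_two_dvd (odd_of_le inf_le_left h.odd)) k hcos
    rw [centralizer_zpowers] at hc
    have hcK : c ∈ K := by
      have : c = k * (k⁻¹ * c) := by group
      rw [this]
      exact K.mul_mem hk hkc.1
    have hcU : c ∈ normalizer (U : Set G) := hD ⟨hcK, hc⟩
    have hkU : k ∈ normalizer (U : Set G) := by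
      have : k = c * (k⁻¹ * c)⁻¹ := by group
      rw [this]
      exact mul_mem hcU (inv_mem hkc.2)
    exact hne ((map_conj_eq_iff.2 hkU).symm.trans hkW)
  · set N : Subgroup G := K ⊓ normalizer (W : Set G) with hN
    have huN : u ∈ normalizer (N : Set G) := by
      apply mem_normalizer_of_conj
      rintro x ⟨hxK, hxU⟩
      have h0 : u * x * u⁻¹ ∈ normalizer (W : Set G) := mul_mem (mul_mem huW hxU) (inv_mem huW)
      exact ⟨conj_mem_of_mem_normalizer h.uK hxK, h0⟩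
    refine le_of_split (odd_of_le inf_le_left h.odd) h.inv huN ?_ ?_
    · exact (h.comm_le_secCent hW huW inf_le_left inf_le_right).trans
        (secCent_le_normalizer hU.1 hU.2.1)
    · exact (inf_le_inf_right _ inf_le_left).trans hD

end LineData

end main

end Cfsg.Agent.Classification.TypeZ.LineAction
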