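import Mathlib
import Cfsg.Agent.Classification.TypeB.Basic
import Cfsg.Agent.Classification.TypeZ.Critical
import Cfsg.Agent.Classification.TypeZ.LineAction
import Cfsg.Agent.OddOrderLocal.FitCores
import Cfsg.Agent.OddOrderLocal.NilpotentHall

/-!
# Type Z of the Gorenstein–Walter theorem: the structure of `K = O(C(t))` over a component

`K` is a group of odd order, `u` an involution acting on `K`, `M` a subgroup with `K ⊓ M = T C_K(u)`, `T` cyclic
and inverted by `u`, such that conjugation in `K` of an element `1 ≠ x ∈ C_{F(K)}(u)` into `C(u)` happens only in `M`.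
-/

set_option autoImplicit false
set_option linter.unusedSectionVars false

namespace Cfsg.Agent.Classification.TypeZ.Refl

open Subgroup Cfsg
open scoped commutatorElement
open Cfsg.Agent.Classification.TypeB.Basic
open Cfsg.Agent.Classification.TypeZ.LineAction
open Cfsg.Agent.OddOrderLocal Cfsg.Agent.OddOrderLocal.PiCoreOf

variable {G : Type*} [Group G] [Finite G]

/-! ### General lemmas -/

/-- Normalizers grow in `p`-groups. -/
theorem exists_mem_normalizer {p : ℕ} [Fact p.Prime] {P D : Subgroup G} (hP : IsPGroup p P)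
    (hle : D ≤ P) (hne : ¬ P ≤ D) : ∃ g ∈ P, g ∉ D ∧ g ∈ normalizer (D : Set G) := by
  have : Group.IsNilpotent P := hP.isNilpotent
  have h1 : D.subgroupOf P < ⊤ := by
    rw [lt_top_iff_ne_top, Ne, Subgroup.subgroupOf_eq_top]
    exact hne
  have h2 := Group.normalizerCondition_of_isNilpotent (G := P) _ h1
  obtain ⟨x, hx, hxD⟩ := SetLike.exists_of_lt h2
  refine ⟨x, x.2, fun h => hxD (mem_subgroupOf.2 h), ?_⟩
  apply mem_normalizer_of_conj
  intro y hy
  rw [Subgroup.mem_normalizer_iff] at hx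
  exact mem_subgroupOf.1 ((hx ⟨y, hle hy⟩).1 (mem_subgroupOf.2 hy))

theorem mem_of_mul_self {K Y : Subgroup G} (hK : Odd (Nat.card K)) {a : G} (ha : a ∈ K)
    (h : a * a ∈ Y) : a ∈ Y := by
  have h1 : orderOf a ∣ Nat.card K := by
    have h5 : orderOf (⟨a, ha⟩ : K) ∣ Nat.card K := orderOf_dvd_natCard _
    rwa [← Subgroup.orderOf_coe] at h5
  obtain ⟨n, hn⟩ := hK.of_dvd_nat h1
  have h2 : (a * a) ^ (n + 1) = a := by
    rw [← pow_two, ← pow_mul]
    have h3 : 2 * (n + 1) = orderOf a + 1 := by omega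
    rw [h3, pow_succ, pow_orderOf_eq_one, one_mul]
  rw [← h2]
  exact Y.pow_mem h _

theorem card_le_of_cyclic {Y C : Subgroup G} (hYC : Y ≤ C) (hC : IsCyclic C) {p : ℕ}
    (hp : 0 < p) (hexp : ∀ y ∈ Y, y ^ p = 1) : Nat.card Y ≤ p := by
  have hY : IsCyclic Y := isCyclic_of_injective (inclusion hYC) (inclusion_injective hYC)
  obtain ⟨g, hg⟩ := hY.exists_generator
  have h1 : orderOf g = Nat.card Y := orderOf_eq_card_of_forall_mem_zpowers hg
  rw [← h1]
  apply Nat.le_of_dvd hp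
  apply orderOf_dvd_of_pow_eq_one
  exact Subtype.ext (by rw [Subgroup.coe_pow]; exact hexp g g.2)

/-- a normal subgroup centralising `O_s(K)` for `s ≠ p`, and whose `p'`-elements centralise `O_p(K)`, is contained
in `F(K)` -/
theorem le_fittingOf_of {K N : Subgroup G} (hsol : Group.IsSolvable K) {p : ℕ}
    (hNK : N ≤ K) (hn : K ≤ normalizer (N : Set G))
    (h1 : ∀ s : ℕ, s.Prime → s ≠ p → N ≤ centralizer (piCoreOf {s} K : Set G))
    (h2 : p.Prime) (h3 : ∀ g ∈ N, (orderOf g).Coprime p → ∀ x ∈ piCoreOf {p} K, g * x = x * g) :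
    N ≤ fittingOf K := by
  have hpf := Fact.mk h2
  refine FitAux.le_fittingOf hNK hn ?_
  -- every `s`-element, `s ≠ p`, is central in `N`
  have key : ∀ s : ℕ, s.Prime → s ≠ p → ∀ Q : Subgroup G, Q ≤ N → IsPGroup s Q →
      ∀ g ∈ N, ∀ y ∈ Q, g * y = y * g := by
    intro s hs hsp Q hQN hQ g hg y hy
    have hfs := Fact.mk hs
    have h4 : Q ≤ centralizer (fittingOf K : Set G) := by
      rw [le_centralizer_iff, FitCores.fittingOf_le_iff]
      intro r hr
      rw [le_centralizer_iff]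
      by_cases hrp : r = p
      · subst hrp
        intro q hq
        rw [mem_centralizer_iff]
        intro x hx
        refine (h3 q (hQN hq) ?_ x hx).symm
        obtain ⟨k, hk⟩ := hQ ⟨q, hq⟩
        have h5 : q ^ s ^ k = 1 := congrArg Subtype.val hk
        exact Nat.Coprime.coprime_dvd_left (orderOf_dvd_of_pow_eq_one h5)
          (Nat.Coprime.pow_left k ((Nat.coprime_primes hs h2).2 hsp))
      · exact hQN.trans (h1 r hr hrp)
    have h5 : Q ≤ fittingOf K := fun q hq =>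
      FitCores.inf_centralizer_fittingOf_le hsol ⟨hNK (hQN hq), h4 hq⟩
    have h6 : Q ≤ piCoreOf {s} K := FitCores.le_core_of_le_fittingOf hs h5 hQ
    exact (mem_centralizer_iff.1 (h1 s hs hsp hg) y (h6 hy)).symm
  -- `N / Z(N)` is a `p`-group
  have h7 : IsPGroup p (N ⧸ center N) := by
    rw [IsPGroup.iff_card]
    have h8 : ∀ s : ℕ, s.Prime → s ∣ Nat.card (N ⧸ center N) → s = p := by
      intro s hs hsd
      by_contra hsp
      have hfs := Fact.mk hs
      obtain ⟨S⟩ : Nonempty (Sylow s N) := inferInstance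
      have hSc : (S : Subgroup N) ≤ center N := by
        intro y hy
        rw [mem_center_iff]
        intro g
        apply Subtype.ext
        exact key s hs hsp ((S : Subgroup N).map N.subtype) (map_subtype_le _)
          (S.isPGroup'.map _) g g.2 y ⟨y, hy, rfl⟩
      have h9 : (center N).index ∣ (S : Subgroup N).index := index_dvd_of_le hSc
      exact S.not_dvd_index (hsd.trans h9)
    exact ⟨_, Nat.eq_prime_pow_of_unique_prime_dvd Nat.card_pos.ne'
      (fun {s} hs hsd => h8 s hs hsd)⟩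
  have h10 : Group.IsNilpotent (N ⧸ center N) := h7.isNilpotent
  exact Subgroup.isNilpotent_of_ker_le_center (QuotientGroup.mk' (center N))
    (by rw [QuotientGroup.ker_mk'])

/-! ### The data -/

/-- The group `K` of odd order with an involution `u`, over the component `L` with `M = N(L)`, `T = O(C_L(t))`. -/
structure ReflData (K M T : Subgroup G) (u : G) : Prop where
  odd : Odd (Nat.card K)
  solv : Group.IsSolvable K
  inv : IsInv u
  norm : u ∈ normalizer (K : Set G)
  notle : ¬ K ≤ M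
  T_le : T ≤ K
  T_leM : T ≤ M
  T_cyc : IsCyclic T
  T_inv : ∀ a ∈ T, u * a * u⁻¹ = a⁻¹
  T_comm : ∀ a ∈ T, ∀ x ∈ fittingOf K, x * u = u * x → a * x = x * a
  split : ∀ k ∈ K, k ∈ M → ∃ a ∈ T, ∃ d ∈ K, d * u = u * d ∧ k = a * d
  ti : ∀ x ∈ fittingOf K, x ≠ 1 → x * u = u * x → ∀ k ∈ K,
    (k * x * k⁻¹) * u = u * (k * x * k⁻¹) → k ∈ M

/-- the element `[g, u]` -/
def tau (u g : G) : G := g * (u * g * u⁻¹)⁻¹

namespace ReflData

variable {K M T : Subgroup G} {u : G} (h : ReflData K M T u)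
include h

theorem core_fit {p : ℕ} (hp : p.Prime) {x : G} (hx : x ∈ piCoreOf {p} K) : x ∈ fittingOf K :=
  FitCores.piCoreOf_singleton_le_fittingOf hp K hx

theorem core_le (p : ℕ) : piCoreOf {p} K ≤ K := piCoreOf_le _ _

theorem norm_core (p : ℕ) : normalizer (K : Set G) ≤ normalizer (piCoreOf {p} K : Set G) :=
  normalizer_le_normalizer_piCoreOf _ _

theorem K_core (p : ℕ) : K ≤ normalizer (piCoreOf {p} K : Set G) := le_normalizer_piCoreOf _ _

theorem odd_core (p : ℕ) : Odd (Nat.card (piCoreOf {p} K)) := odd_of_le (h.core_le p) h.odd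

theorem mem_M_of_comm {x : G} (hx : x ∈ fittingOf K) (hx1 : x ≠ 1) (hxu : x * u = u * x) {k : G}
    (hk : k ∈ K) (hkx : k * x = x * k) : k ∈ M := by
  apply h.ti x hx hx1 hxu k hk
  have h1 : k * x * k⁻¹ = x := by rw [hkx]; group
  rw [h1]
  exact hxu

theorem mem_M_of_comm_u {x : G} (hx : x ∈ fittingOf K) (hx1 : x ≠ 1) (hxu : x * u = u * x) {d : G}
    (hd : d ∈ K) (hdu : d * u = u * d) : d ∈ M := by
  apply h.ti x hx hx1 hxu d hd
  have h1 : Commute d u := hdu
  have h2 : Commute x u := hxu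
  exact ((h1.mul_left h2).mul_left h1.inv_left)

theorem tau_mul {a d : G} (ha : a ∈ T) (hd : d * u = u * d) : tau u (a * d) = a * a := by
  have h1 : u * (a * d) * u⁻¹ = (u * a * u⁻¹) * (u * d * u⁻¹) := by group
  have h2 : u * d * u⁻¹ = d := by rw [← hd]; group
  rw [tau, h1, h2, h.T_inv a ha]
  group

/-- decomposition of `P ⊓ M` -/
theorem split_core {p : ℕ} {g : G} (hg : g ∈ piCoreOf {p} K) (hgM : g ∈ M) :
    ∃ a ∈ T, a ∈ piCoreOf {p} K ∧ ∃ x ∈ piCoreOf {p} K, x * u = u * x ∧ g = a * x := by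
  obtain ⟨a, ha, d, hd, hdu, rfl⟩ := h.split g (h.core_le p hg) hgM
  have h1 : tau u (a * d) ∈ piCoreOf {p} K :=
    mul_mem hg (inv_mem (conj_mem_of_mem_normalizer (h.norm_core p h.norm) hg))
  rw [h.tau_mul ha hdu] at h1
  have h2 : a ∈ piCoreOf {p} K := mem_of_mul_self h.odd (h.T_le ha) h1
  refine ⟨a, ha, h2, d, ?_, hdu, rfl⟩
  have h3 : d = a⁻¹ * (a * d) := by group
  rw [h3]
  exact mul_mem (inv_mem h2) hg

theorem T_comm_T {a b : G} (ha : a ∈ T) (hb : b ∈ T) : a * b = b * a := by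
  have := h.T_cyc
  have h1 := (IsCyclic.isMulCommutative (α := T)).is_comm.comm ⟨a, ha⟩ ⟨b, hb⟩
  exact congrArg Subtype.val h1

theorem tau_mem {p : ℕ} {g : G} (hg : g ∈ piCoreOf {p} K) (hgM : g ∈ M) : tau u g ∈ T := by
  obtain ⟨a, ha, -, x, -, hxu, rfl⟩ := h.split_core hg hgM
  rw [h.tau_mul ha hxu]
  exact mul_mem ha ha

theorem tau_mul_mul {p : ℕ} (hp : p.Prime) {g k : G} (hg : g ∈ piCoreOf {p} K) (hgM : g ∈ M)
    (hk : k ∈ piCoreOf {p} K) (hkM : k ∈ M) : tau u (g * k) = tau u g * tau u k := by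
  obtain ⟨a, ha, -, x, hx, hxu, rfl⟩ := h.split_core hg hgM
  obtain ⟨b, hb, -, y, hy, hyu, rfl⟩ := h.split_core hk hkM
  have h1 : b * x = x * b := h.T_comm b hb x (h.core_fit hp hx) hxu
  have h2 : a * x * (b * y) = (a * b) * (x * y) := by
    calc a * x * (b * y) = a * (x * b) * y := by group
      _ = a * (b * x) * y := by rw [h1]
      _ = _ := by group
  have h3 : (x * y) * u = u * (x * y) := by
    rw [mul_assoc, hyu, ← mul_assoc, hxu, mul_assoc]
  rw [h2, h.tau_mul (mul_mem ha hb) h3, h.tau_mul ha hxu, h.tau_mul hb hyu]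
  have h4 := h.T_comm_T ha hb
  calc a * b * (a * b) = a * (b * a) * b := by group
    _ = a * (a * b) * b := by rw [h4]
    _ = _ := by group

theorem comm_u_of_tau {g : G} (hg : tau u g = 1) : g * u = u * g := by
  have h1 : g = u * g * u⁻¹ := mul_inv_eq_one.1 hg
  have h2 : g * u = (u * g * u⁻¹) * u := by rw [← h1]
  rw [h2]; group

/-- `P ⊓ M` is abelian if `C_P(u)` is -/
theorem exists_move {p : ℕ} (hp : p.Prime) : ∃ g ∈ K, g ∉ M ∧
    ∀ x ∈ piCoreOf {p} K, x ∈ M → g * x * g⁻¹ ∈ M := by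
  have hpf := Fact.mk hp
  by_cases hPM : piCoreOf {p} K ≤ M
  · obtain ⟨g, hg, hgM⟩ := SetLike.not_le_iff_exists.1 h.notle
    exact ⟨g, hg, hgM, fun x hx _ => hPM (conj_mem_of_mem_normalizer (h.K_core p hg) hx)⟩
  · obtain ⟨g, hg, hgM, hgn⟩ := exists_mem_normalizer (P := piCoreOf {p} K)
      (D := piCoreOf {p} K ⊓ M) (FitCores.isPGroup_piCoreOf hp K) inf_le_left
      (fun hle => hPM (hle.trans inf_le_right))
    refine ⟨g, h.core_le p hg, fun hM => hgM ⟨hg, hM⟩, fun x hx hxM => ?_⟩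
    exact (conj_mem_of_mem_normalizer hgn ⟨hx, hxM⟩).2

/-- `C_P(u)` embeds in `T` -/
theorem exists_embed {p : ℕ} (hp : p.Prime) :
    ∃ f : (piCoreOf {p} K ⊓ centralizer ({u} : Set G) : Subgroup G) →* T,
      Function.Injective f := by
  by_cases hbot : piCoreOf {p} K ⊓ centralizer ({u} : Set G) = ⊥
  · refine ⟨1, ?_⟩
    rw [injective_iff_map_eq_one]
    intro a _
    exact Subtype.ext (mem_bot.1 (hbot.le a.2))
  obtain ⟨x₀, hx₀1⟩ := Subgroup.ne_bot_iff_exists_ne_one.1 hbot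
  have key : ∀ x ∈ piCoreOf {p} K ⊓ centralizer ({u} : Set G), x ∈ piCoreOf {p} K ∧
      x * u = u * x ∧ x ∈ M := by
    rintro x ⟨hx, hxu⟩
    have hxu' := mem_centralizer_iff'.1 hxu
    refine ⟨hx, hxu', ?_⟩
    have hx₀' := x₀.2
    exact h.mem_M_of_comm_u (h.core_fit hp x₀.2.1) (fun h1 => hx₀1 (Subtype.ext h1))
      (mem_centralizer_iff'.1 x₀.2.2) (h.core_le p hx) hxu'
  obtain ⟨g, hg, hgM, hgc⟩ := h.exists_move hp
  have hgP : ∀ x ∈ piCoreOf {p} K, g * x * g⁻¹ ∈ piCoreOf {p} K :=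
    fun x hx => conj_mem_of_mem_normalizer (h.K_core p hg) hx
  refine ⟨{ toFun := fun x => ⟨tau u (g * x * g⁻¹), h.tau_mem (hgP x x.2.1)
              (hgc x x.2.1 (key x x.2).2.2)⟩
            map_one' := ?_
            map_mul' := ?_ }, ?_⟩
  · apply Subtype.ext
    simp [tau]
  · intro x y
    apply Subtype.ext
    have h1 : g * ((x * y : (piCoreOf {p} K ⊓ centralizer ({u} : Set G) : Subgroup G)) : G) * g⁻¹ =
      (g * x * g⁻¹) * (g * y * g⁻¹) := by push_cast; group
    show tau u (g * ((x * y : (piCoreOf {p} K ⊓ centralizer ({u} : Set G) : Subgroup G)) : G) *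
      g⁻¹) = tau u (g * x * g⁻¹) * tau u (g * y * g⁻¹)
    rw [h1]
    exact h.tau_mul_mul hp (hgP x x.2.1) (hgc x x.2.1 (key x x.2).2.2) (hgP y y.2.1)
      (hgc y y.2.1 (key y y.2).2.2)
  · rw [injective_iff_map_eq_one]
    intro x hx
    by_contra hne
    have h1 : tau u (g * x * g⁻¹) = 1 := congrArg Subtype.val hx
    apply hgM
    exact h.ti x (h.core_fit hp x.2.1) (fun h2 => hne (Subtype.ext h2))
      (mem_centralizer_iff'.1 x.2.2) g hg (h.comm_u_of_tau h1)

theorem cyclic_X {p : ℕ} (hp : p.Prime) :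
    IsCyclic (piCoreOf {p} K ⊓ centralizer ({u} : Set G) : Subgroup G) := by
  obtain ⟨f, hf⟩ := h.exists_embed hp
  have := h.T_cyc
  exact isCyclic_of_injective f hf

theorem dvd_card_T {p : ℕ} (hp : p.Prime)
    (hne : piCoreOf {p} K ⊓ centralizer ({u} : Set G) ≠ ⊥) : p ∣ Nat.card T := by
  obtain ⟨f, hf⟩ := h.exists_embed hp
  have h1 : p ∣ Nat.card (piCoreOf {p} K ⊓ centralizer ({u} : Set G) : Subgroup G) :=
    FitCores.dvd_card_of_ne_bot hp ((FitCores.isPGroup_piCoreOf hp K).to_le inf_le_left) hne le_rfl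
  exact h1.trans (card_dvd_of_injective f hf)

/-- `P ⊓ M` is abelian. -/
theorem comm_of_mem {p : ℕ} (hp : p.Prime) {g k : G} (hg : g ∈ piCoreOf {p} K) (hgM : g ∈ M)
    (hk : k ∈ piCoreOf {p} K) (hkM : k ∈ M) : g * k = k * g := by
  obtain ⟨a, ha, -, x, hx, hxu, rfl⟩ := h.split_core hg hgM
  obtain ⟨b, hb, -, y, hy, hyu, rfl⟩ := h.split_core hk hkM
  have h1 : Commute b x := h.T_comm b hb x (h.core_fit hp hx) hxu
  have h2 : Commute a y := h.T_comm a ha y (h.core_fit hp hy) hyu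
  have h3 : Commute a b := h.T_comm_T ha hb
  have h4 : Commute x y := by
    have := h.cyclic_X hp
    have h5 := (IsCyclic.isMulCommutative
      (α := (piCoreOf {p} K ⊓ centralizer ({u} : Set G) : Subgroup G))).is_comm.comm
      ⟨x, hx, mem_centralizer_iff'.2 hxu⟩ ⟨y, hy, mem_centralizer_iff'.2 hyu⟩
    exact congrArg Subtype.val h5
  exact ((h3.mul_right h2).mul_left (h1.symm.mul_right h4))

/-- a subgroup of exponent `p` of `P ⊓ M` has order at most `p²` -/
theorem card_le_sq {p : ℕ} (hp : p.Prime) {Y : Subgroup G} (hY : Y ≤ piCoreOf {p} K)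
    (hYM : Y ≤ M) (hexp : ∀ y ∈ Y, y ^ p = 1) : Nat.card Y ≤ p ^ 2 := by
  let f : Y →* T :=
    { toFun := fun y => ⟨tau u y, h.tau_mem (hY y.2) (hYM y.2)⟩
      map_one' := by apply Subtype.ext; simp [tau]
      map_mul' := fun y z => Subtype.ext
        (h.tau_mul_mul hp (hY y.2) (hYM y.2) (hY z.2) (hYM z.2)) }
  have hf : ∀ y : Y, ((f y : T) : G) = tau u y := fun y => rfl
  have h1 : Nat.card f.ker * f.ker.index = Nat.card Y := f.ker.card_mul_index
  rw [Subgroup.index_ker] at h1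
  have h2 : Nat.card f.range ≤ p := by
    have h3 : IsCyclic T := h.T_cyc
    have h4 : IsCyclic f.range := isCyclic_of_injective f.range.subtype (subtype_injective _)
    refine card_le_of_cyclic (Y := f.range) (C := f.range) le_rfl h4 hp.pos ?_
    rintro _ ⟨y, rfl⟩
    rw [← map_pow]
    have : y ^ p = 1 := Subtype.ext (by rw [Subgroup.coe_pow]; exact hexp y y.2)
    rw [this, map_one]
  have h3 : Nat.card f.ker ≤ p := by
    have h4 : Nat.card (f.ker.map Y.subtype) = Nat.card f.ker :=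
      card_map_of_injective Y.subtype_injective
    rw [← h4]
    refine card_le_of_cyclic ?_ (h.cyclic_X hp) hp.pos ?_
    · rintro _ ⟨y, hy, rfl⟩
      refine ⟨hY y.2, mem_centralizer_iff'.2 (h.comm_u_of_tau ?_)⟩
      exact congrArg Subtype.val hy
    · rintro _ ⟨y, hy, rfl⟩
      exact hexp y y.2
  rw [← h1, pow_two]
  exact Nat.mul_le_mul h3 h2

/-- the elements of order `p` of `C_P(u)` generate the same subgroup -/
theorem card_le_X {p : ℕ} (hp : p.Prime) {Y : Subgroup G} (hY : Y ≤ piCoreOf {p} K)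
    (hYu : Y ≤ centralizer ({u} : Set G)) (hexp : ∀ y ∈ Y, y ^ p = 1) : Nat.card Y ≤ p :=
  card_le_of_cyclic (le_inf hY hYu) (h.cyclic_X hp) hp.pos hexp

end ReflData

end Cfsg.Agent.Classification.TypeZ.Refl
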