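import Mathlib
import Cfsg.Agent.Classification.TypeZ.Refl

/-!
# Type Z of the Gorenstein–Walter theorem: the trichotomy for `K = O(C(t))`

See `Refl.ReflData`.  The main theorem is `trichotomy`.
-/

set_option autoImplicit false
set_option linter.unusedSectionVars false

namespace Cfsg.Agent.Classification.TypeZ.ReflMain

open Subgroup Cfsg
open scoped commutatorElement
open Cfsg.Agent.Classification.TypeB.Basic
open Cfsg.Agent.Classification.TypeZ.LineAction
open Cfsg.Agent.Classification.TypeZ.Refl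
open Cfsg.Agent.OddOrderLocal Cfsg.Agent.OddOrderLocal.PiCoreOf

variable {G : Type*} [Group G] [Finite G]

/-! ### General lemmas -/

/-- `⁅K, u⁆` centralises every `K`-invariant subgroup inverted by `u` -/
theorem comm_le_centralizer_of_inv {K Y : Subgroup G} {u : G} (hu : IsInv u)
    (hK : K ≤ normalizer (Y : Set G)) (h : ∀ y ∈ Y, u * y * u⁻¹ = y⁻¹) :
    ⁅K, zpowers u⁆ ≤ centralizer (Y : Set G) := by
  have huY : u ∈ normalizer (Y : Set G) :=
    mem_normalizer_of_conj fun y hy => by rw [h y hy]; exact Y.inv_mem hy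
  have key : ∀ k ∈ K, ∀ y ∈ Y, ⁅k, u⁆ * y * ⁅k, u⁆⁻¹ = y := by
    intro k hk y hy
    have h1 : u⁻¹ * y * u = y⁻¹ := by
      have := h y hy
      rw [hu.inv_eq] at this ⊢
      exact this
    have h2 : k⁻¹ * y⁻¹ * k⁻¹⁻¹ ∈ Y :=
      conj_mem_of_mem_normalizer (hK (K.inv_mem hk)) (Y.inv_mem hy)
    have h3 := h _ h2
    calc ⁅k, u⁆ * y * ⁅k, u⁆⁻¹ = k * (u * (k⁻¹ * (u⁻¹ * y * u) * k⁻¹⁻¹) * u⁻¹) * k⁻¹ := by
          rw [commutatorElement_def]; group
      _ = y := by rw [h1, h3]; group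
  rw [commutator_le]
  rintro k hk a ⟨n, rfl⟩
  rw [mem_centralizer_iff]
  intro y hy
  -- `a = 1` or `a = u`
  have ha : u ^ n = 1 ∨ u ^ n = u := by
    rcases Int.even_or_odd n with ⟨j, rfl⟩ | ⟨j, rfl⟩
    · left
      rw [zpow_add, ← (Commute.refl u).mul_zpow, hu.1, one_zpow]
    · right
      rw [zpow_add, zpow_mul, zpow_one, zpow_two, hu.1, one_zpow, one_mul]
  show y * ⁅k, u ^ n⁆ = ⁅k, u ^ n⁆ * y
  rcases ha with ha | ha
  · rw [ha, commutatorElement_one_right, one_mul, mul_one]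
  · rw [ha]
    have h4 := key k hk y hy
    calc y * ⁅k, u⁆ = (⁅k, u⁆ * y * ⁅k, u⁆⁻¹) * ⁅k, u⁆ := by rw [h4]
      _ = ⁅k, u⁆ * y := by group

theorem relIndex_eq_of_forall {A B E : Subgroup G} (hEB : E ≤ B)
    (h : ∀ b ∈ B, ∃ e ∈ E, e⁻¹ * b ∈ A) : A.relIndex B = A.relIndex E := by
  have hsurj : Function.Surjective (quotientSubgroupOfEmbeddingOfLE A hEB) := by
    intro q
    obtain ⟨b, rfl⟩ := QuotientGroup.mk_surjective q
    obtain ⟨e, he, heb⟩ := h b b.2
    refine ⟨QuotientGroup.mk ⟨e, he⟩, ?_⟩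
    rw [quotientSubgroupOfEmbeddingOfLE_apply_mk, QuotientGroup.eq, mem_subgroupOf]
    exact heb
  exact (Nat.card_congr (Equiv.ofBijective _
    ⟨(quotientSubgroupOfEmbeddingOfLE A hEB).injective, hsurj⟩)).symm

/-- in a section of prime order every nontrivial element generates -/
theorem exists_zpow_mem {A B : Subgroup G} (hBA : B ≤ normalizer (A : Set G)) {p : ℕ}
    (hp : p.Prime) (hi : A.relIndex B = p) {x : G} (hx : x ∈ B) (hxA : x ∉ A) {b : G}
    (hb : b ∈ B) : ∃ n : ℤ, (x ^ n)⁻¹ * b ∈ A := by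
  have hAn : (A.subgroupOf B).Normal := by
    refine ⟨fun a ha b => ?_⟩
    rw [mem_subgroupOf] at ha ⊢
    exact conj_mem_of_mem_normalizer (hBA b.2) ha
  have hcard : Nat.card (B ⧸ A.subgroupOf B) = p := hi
  have hf : Fact p.Prime := ⟨hp⟩
  have hne : (QuotientGroup.mk ⟨x, hx⟩ : B ⧸ A.subgroupOf B) ≠ 1 := by
    intro h1
    rw [QuotientGroup.eq_one_iff, mem_subgroupOf] at h1
    exact hxA h1
  obtain ⟨n, hn⟩ := mem_zpowers_of_prime_card hcard hne
    (g' := (QuotientGroup.mk ⟨b, hb⟩ : B ⧸ A.subgroupOf B))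
  refine ⟨n, ?_⟩
  have h1 : (QuotientGroup.mk ((⟨x, hx⟩ : B) ^ n) : B ⧸ A.subgroupOf B) =
    QuotientGroup.mk ⟨b, hb⟩ := hn
  have h2 := (QuotientGroup.eq (s := A.subgroupOf B)).1 h1
  rw [mem_subgroupOf] at h2
  exact h2

theorem ncard_diff_one (U : Subgroup G) : ((U : Set G) \ {1}).ncard = Nat.card U - 1 := by
  have h1 : (U : Set G).ncard = Nat.card U := rfl
  rw [Set.ncard_sdiff_singleton_of_mem U.one_mem, h1]

section

variable {K M T : Subgroup G} {u : G} (h : ReflData K M T u)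
include h

/-- orbits of `⟨x⟩` in a `K`-invariant group of order at most `p²` -/
theorem relIndex_le {p : ℕ} (hp : p.Prime) (hp2 : p ≠ 2) {x : G} (hx : x ∈ piCoreOf {p} K)
    (hx1 : x ≠ 1) (hxp : x ^ p = 1) (hxu : x * u = u * x) {U : Subgroup G}
    (hU : K ≤ normalizer (U : Set G)) (hxU : x ∈ U) (hcard : Nat.card U ≤ p ^ 2) :
    M.relIndex K ≤ p := by
  have hord : orderOf x = p := by
    have := Fact.mk hp
    exact orderOf_eq_prime hxp hx1
  -- the map
  have hmem : ∀ (c : K ⧸ M.subgroupOf K) (i : Fin (p - 1)),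
      (c.out : G) * x ^ ((i : ℕ) + 1) * (c.out : G)⁻¹ ∈ (U : Set G) \ {1} := by
    intro c i
    refine ⟨conj_mem_of_mem_normalizer (hU c.out.2) (U.pow_mem hxU _), ?_⟩
    intro h1
    have h2 : x ^ ((i : ℕ) + 1) = 1 := by
      have h3 : (c.out : G) * x ^ ((i : ℕ) + 1) * (c.out : G)⁻¹ = 1 := h1
      calc x ^ ((i : ℕ) + 1) =
          (c.out : G)⁻¹ * ((c.out : G) * x ^ ((i : ℕ) + 1) * (c.out : G)⁻¹) * (c.out : G) := by
            group
        _ = 1 := by rw [h3]; group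
    have h4 := orderOf_dvd_of_pow_eq_one h2
    rw [hord] at h4
    have := Nat.le_of_dvd (by omega) h4
    have := i.2
    omega
  let f : (K ⧸ M.subgroupOf K) × Fin (p - 1) → ((U : Set G) \ {1} : Set G) :=
    fun q => ⟨_, hmem q.1 q.2⟩
  have hf : Function.Injective f := by
    rintro ⟨c, i⟩ ⟨c', i'⟩ hcc
    have h1 : (c.out : G) * x ^ ((i : ℕ) + 1) * (c.out : G)⁻¹ =
      (c'.out : G) * x ^ ((i' : ℕ) + 1) * (c'.out : G)⁻¹ := congrArg Subtype.val hcc
    have hc : c' = c := by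
      rw [← QuotientGroup.out_eq' c, ← QuotientGroup.out_eq' c', QuotientGroup.eq,
        mem_subgroupOf]
      have hxne : x ^ ((i : ℕ) + 1) ≠ 1 := by
        intro h2
        apply (hmem c i).2
        rw [h2]
        simp
      have hcu : ∀ n : ℕ, x ^ n * u = u * x ^ n := fun n => (show Commute x u from hxu).pow_left n
      have h3 := h.ti (x ^ ((i : ℕ) + 1)) (h.core_fit hp (pow_mem hx _)) hxne (hcu _)
        ((c'.out : G)⁻¹ * (c.out : G)) (K.mul_mem (K.inv_mem c'.out.2) c.out.2) (by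
          have h4 : (c'.out : G)⁻¹ * (c.out : G) * x ^ ((i : ℕ) + 1) *
              ((c'.out : G)⁻¹ * (c.out : G))⁻¹ = x ^ ((i' : ℕ) + 1) := by
            calc _ = (c'.out : G)⁻¹ * ((c.out : G) * x ^ ((i : ℕ) + 1) * (c.out : G)⁻¹) *
                (c'.out : G) := by group
              _ = _ := by rw [h1]; group
          rw [h4]
          exact hcu _)
      exact h3
    subst hc
    have h2 : x ^ ((i : ℕ) + 1) = x ^ ((i' : ℕ) + 1) :=
      mul_left_cancel (mul_right_cancel h1)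
    have h3 : (i : ℕ) + 1 = (i' : ℕ) + 1 := by
      apply pow_injOn_Iio_orderOf _ _ h2
      · rw [Set.mem_Iio, hord]; have := i.2; omega
      · rw [Set.mem_Iio, hord]; have := i'.2; omega
    have h4 : i = i' := Fin.ext (by omega)
    rw [h4]
  have h1 := Nat.card_le_card_of_injective f hf
  rw [Nat.card_prod, Nat.card_fin, Nat.card_coe_set_eq, ncard_diff_one] at h1
  have h2 : Nat.card (K ⧸ M.subgroupOf K) = M.relIndex K := rfl
  rw [h2] at h1
  -- `k (p - 1) ≤ (p - 1) (p + 1)`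
  have h3 : M.relIndex K ≤ p + 1 := by
    obtain ⟨q, rfl⟩ : ∃ q, p = q + 2 := ⟨p - 2, by have := hp.two_le; omega⟩
    have h4 : (q + 2) ^ 2 - 1 = (q + 2 + 1) * (q + 2 - 1) := by
      have e1 : q + 2 - 1 = q + 1 := by omega
      rw [e1]
      have e2 : (q + 2) ^ 2 = (q + 2 + 1) * (q + 1) + 1 := by ring
      rw [e2]; rfl
    have h5 : M.relIndex K * (q + 2 - 1) ≤ (q + 2 + 1) * (q + 2 - 1) := by
      rw [← h4]
      omega
    exact Nat.le_of_mul_le_mul_right h5 (by omega)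
  have hodd : Odd (M.relIndex K) := by
    have h4 : M.relIndex K ∣ Nat.card K := (M.subgroupOf K).index_dvd_card
    exact h.odd.of_dvd_nat h4
  rcases Nat.lt_or_ge p (M.relIndex K) with h4 | h4
  · exfalso
    have h5 : M.relIndex K = p + 1 := by omega
    rw [h5] at hodd
    exact (Nat.not_even_iff_odd.2 hodd) (hp.odd_of_ne_two hp2).add_one
  · exact h4

theorem ne_two {p : ℕ} (hp : p.Prime)
    (hne : piCoreOf {p} K ⊓ centralizer ({u} : Set G) ≠ ⊥) : p ≠ 2 := by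
  rintro rfl
  have h1 : 2 ∣ Nat.card K :=
    FitCores.dvd_card_of_ne_bot hp ((FitCores.isPGroup_piCoreOf hp K).to_le inf_le_left) hne
      (inf_le_left.trans (h.core_le 2))
  exact not_two_dvd h.odd h1

theorem exists_x {p : ℕ} (hp : p.Prime)
    (hne : piCoreOf {p} K ⊓ centralizer ({u} : Set G) ≠ ⊥) :
    ∃ x ∈ piCoreOf {p} K, x ≠ 1 ∧ x ^ p = 1 ∧ x * u = u * x := by
  have h1 : p ∣ Nat.card (piCoreOf {p} K ⊓ centralizer ({u} : Set G) : Subgroup G) :=
    FitCores.dvd_card_of_ne_bot hp ((FitCores.isPGroup_piCoreOf hp K).to_le inf_le_left) hne le_rfl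
  obtain ⟨x, hx, hxo⟩ := FitCores.exists_mem_orderOf hp h1
  refine ⟨x, hx.1, ?_, ?_, mem_centralizer_iff'.1 hx.2⟩
  · rintro rfl
    rw [orderOf_one] at hxo
    exact hp.one_lt.ne hxo
  · rw [← hxo]; exact pow_orderOf_eq_one x

/-- if `O_s(K)` meets `C(u)` nontrivially for some prime `s ≠ p`, then `O_p(K)` is abelian -/
theorem core_comm_of_ne {p s : ℕ} (hp : p.Prime) (hs : s.Prime) (hsp : s ≠ p)
    (hne : piCoreOf {s} K ⊓ centralizer ({u} : Set G) ≠ ⊥) {g k : G} (hg : g ∈ piCoreOf {p} K)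
    (hk : k ∈ piCoreOf {p} K) : g * k = k * g := by
  obtain ⟨x, hx, hx1, -, hxu⟩ := exists_x h hs hne
  have hM : ∀ g ∈ piCoreOf {p} K, g ∈ M := by
    intro g hg
    refine h.mem_M_of_comm (h.core_fit hs hx) hx1 hxu (h.core_le p hg) ?_
    exact (mem_centralizer_iff.1 (FitCores.core_le_centralizer_core hp hs hsp.symm K hg) x hx).symm
  exact h.comm_of_mem hp hg (hM g hg) hk (hM k hk)

end

/-! ### The critical subgroup -/

/-- the critical subgroup `C` of `P = O_p(K)` and the group `E` of its elements of exponent `p` -/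
structure Crit (K : Subgroup G) (p : ℕ) (C E : Subgroup G) : Prop where
  CP : C ≤ piCoreOf {p} K
  EC : E ≤ C
  nC : normalizer (piCoreOf {p} K : Set G) ≤ normalizer (C : Set G)
  nE : normalizer (piCoreOf {p} K : Set G) ≤ normalizer (E : Set G)
  mem_E : ∀ x, x ∈ E ↔ x ∈ C ∧ x ^ p = 1
  comm : ∀ x ∈ C, ∀ y ∈ piCoreOf {p} K, ∀ z ∈ C, Commute ⁅x, y⁆ z
  cent : piCoreOf {p} K ⊓ centralizer (C : Set G) ≤ C
  faith : ∀ g ∈ normalizer (piCoreOf {p} K : Set G), (orderOf g).Coprime p →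
    (∀ x ∈ E, g * x = x * g) → ∀ x ∈ piCoreOf {p} K, g * x = x * g

theorem exists_crit (K : Subgroup G) {p : ℕ} (hp : p.Prime) (hp2 : p ≠ 2) :
    ∃ C E : Subgroup G, Crit K p C E := by
  have := Fact.mk hp
  obtain ⟨C, E, h1, h2, h3, h4, h5, h6, h7, h8⟩ :=
    Critical.exists_critical hp2 (FitCores.isPGroup_piCoreOf hp K)
  exact ⟨C, E, h1, h2, h3, h4, h5, h6, h7, h8⟩

section

variable {K M T : Subgroup G} {u : G} (h : ReflData K M T u) {p : ℕ} {C E : Subgroup G}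
  (c : Crit K p C E)
include h c

/-- if `u` has no fixed points on `E` then `O_s(K)` has no fixed points for `s ≠ p` -/
theorem X_eq_bot (hp : p.Prime) (hne : piCoreOf {p} K ⊓ centralizer ({u} : Set G) ≠ ⊥)
    (hE : ∃ x y, x ∈ piCoreOf {p} K ∧ y ∈ piCoreOf {p} K ∧ x * y ≠ y * x) {s : ℕ}
    (hs : s.Prime) (hsp : s ≠ p) : piCoreOf {s} K ⊓ centralizer ({u} : Set G) = ⊥ := by
  by_contra hcon
  obtain ⟨x, y, hx, hy, hxy⟩ := hE
  exact hxy (core_comm_of_ne h hp hs hsp hcon hx hy)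

theorem nonabelian_of_E (hp : p.Prime) (hne : piCoreOf {p} K ⊓ centralizer ({u} : Set G) ≠ ⊥)
    (hE : E ⊓ centralizer ({u} : Set G) = ⊥) :
    ∃ x y, x ∈ piCoreOf {p} K ∧ y ∈ piCoreOf {p} K ∧ x * y ≠ y * x := by
  by_contra hcon
  push Not at hcon
  obtain ⟨x, hx, hx1, hxp, hxu⟩ := exists_x h hp hne
  have h1 : x ∈ C := c.cent ⟨hx, mem_centralizer_iff.2 fun y hy => hcon y x (c.CP hy) hx⟩
  have h2 : x ∈ E ⊓ centralizer ({u} : Set G) :=
    ⟨(c.mem_E x).2 ⟨h1, hxp⟩, mem_centralizer_iff'.2 hxu⟩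
  rw [hE, mem_bot] at h2
  exact hx1 h2

/-- `⁅K, u⁆` centralises `O_s(K)` for `s ≠ p` if `O_p(K)` is nonabelian -/
theorem comm_le_centralizer_core (hp : p.Prime)
    (hne : piCoreOf {p} K ⊓ centralizer ({u} : Set G) ≠ ⊥)
    (hE : ∃ x y, x ∈ piCoreOf {p} K ∧ y ∈ piCoreOf {p} K ∧ x * y ≠ y * x) {s : ℕ}
    (hs : s.Prime) (hsp : s ≠ p) : ⁅K, zpowers u⁆ ≤ centralizer (piCoreOf {s} K : Set G) := by
  apply comm_le_centralizer_of_inv h.inv (h.K_core s)
  intro y hy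
  exact inverts_of_fixedPointFree h.inv (h.norm_core s h.norm) (X_eq_bot h c hp hne hE hs hsp) hy

theorem K_comm : K ≤ normalizer ((⁅K, zpowers u⁆ : Subgroup G) : Set G) :=
  Lib.CoprimeCommutator.left_le_normalizer_commutator _ _

/-- normal subgroups `N` of `⁅K, u⁆` whose `p'`-elements centralise `E` are contained in `F(K)` -/
theorem le_fit (hp : p.Prime) (hne : piCoreOf {p} K ⊓ centralizer ({u} : Set G) ≠ ⊥)
    (hE : ∃ x y, x ∈ piCoreOf {p} K ∧ y ∈ piCoreOf {p} K ∧ x * y ≠ y * x) {N : Subgroup G}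
    (hN : N ≤ ⁅K, zpowers u⁆) (hn : K ≤ normalizer (N : Set G))
    (h1 : ∀ g ∈ N, (orderOf g).Coprime p → ∀ x ∈ E, g * x = x * g) : N ≤ fittingOf K := by
  have hNK : N ≤ K := hN.trans (comm_le h.norm)
  refine le_fittingOf_of h.solv hNK hn ?_ hp ?_
  · intro s hs hsp
    exact hN.trans (comm_le_centralizer_core h c hp hne hE hs hsp)
  · intro g hg hgp
    exact c.faith g (h.K_core p (hNK hg)) hgp (h1 g hg hgp)

/-- **Case (b)**: `u` inverts `E`. -/
theorem case_b (hp : p.Prime) (hne : piCoreOf {p} K ⊓ centralizer ({u} : Set G) ≠ ⊥)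
    (hE : E ⊓ centralizer ({u} : Set G) = ⊥) :
    (∀ r ∈ ⁅K, zpowers u⁆, u * r * u⁻¹ = r⁻¹) ∧ ⁅K, zpowers u⁆ ≤ fittingOf K := by
  have hnab := nonabelian_of_E h c hp hne hE
  have hCu : C ⊓ centralizer ({u} : Set G) = ⊥ := by
    by_contra hcon
    have h1 : p ∣ Nat.card (C ⊓ centralizer ({u} : Set G) : Subgroup G) :=
      FitCores.dvd_card_of_ne_bot hp
        ((FitCores.isPGroup_piCoreOf hp K).to_le (inf_le_left.trans c.CP)) hcon le_rfl
    obtain ⟨x, hx, hxo⟩ := FitCores.exists_mem_orderOf hp h1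
    have h2 : x ∈ E ⊓ centralizer ({u} : Set G) :=
      ⟨(c.mem_E x).2 ⟨hx.1, by rw [← hxo]; exact pow_orderOf_eq_one x⟩, hx.2⟩
    rw [hE, mem_bot] at h2
    rw [h2, orderOf_one] at hxo
    exact hp.one_lt.ne hxo
  have hun : u ∈ normalizer (C : Set G) := c.nC (h.norm_core p h.norm)
  have hinv : ∀ y ∈ C, u * y * u⁻¹ = y⁻¹ := fun y hy =>
    inverts_of_fixedPointFree h.inv hun hCu hy
  have hRC : ⁅K, zpowers u⁆ ≤ centralizer (C : Set G) :=
    comm_le_centralizer_of_inv h.inv ((h.K_core p).trans c.nC) hinv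
  have hRF : ⁅K, zpowers u⁆ ≤ fittingOf K := by
    refine le_fit h c hp hne hnab le_rfl (K_comm h c) ?_
    intro g hg _ x hx
    exact (mem_centralizer_iff.1 (hRC hg) x (c.EC hx)).symm
  have hRK : ⁅K, zpowers u⁆ ≤ K := comm_le h.norm
  have hRu : ⁅K, zpowers u⁆ ⊓ centralizer ({u} : Set G) = ⊥ := by
    by_contra hcon
    have h1 : Nat.card (⁅K, zpowers u⁆ ⊓ centralizer ({u} : Set G) : Subgroup G) ≠ 1 := by
      rwa [Ne, Subgroup.card_eq_one]
    obtain ⟨s, hs, hsd⟩ := Nat.exists_prime_and_dvd h1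
    obtain ⟨r, hr, hro⟩ := FitCores.exists_mem_orderOf hs hsd
    have h2 : zpowers r ≤ piCoreOf {s} K :=
      FitCores.le_core_of_le_fittingOf hs (by rw [zpowers_le]; exact hRF hr.1)
        (FitCores.isPGroup_zpowers hs hro)
    have h3 : r ∈ piCoreOf {s} K := h2 (mem_zpowers r)
    have hr1 : r ≠ 1 := by
      rintro rfl
      rw [orderOf_one] at hro
      exact hs.one_lt.ne hro
    by_cases hsp : s = p
    · subst hsp
      have h4 : r ∈ C ⊓ centralizer ({u} : Set G) := ⟨c.cent ⟨h3, hRC hr.1⟩, hr.2⟩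
      rw [hCu, mem_bot] at h4
      exact hr1 h4
    · have h4 : r ∈ piCoreOf {s} K ⊓ centralizer ({u} : Set G) := ⟨h3, hr.2⟩
      rw [X_eq_bot h c hp hne hnab hs hsp, mem_bot] at h4
      exact hr1 h4
  have hnR : u ∈ normalizer ((⁅K, zpowers u⁆ : Subgroup G) : Set G) :=
    Lib.CoprimeCommutator.right_le_normalizer_commutator K (zpowers u) (mem_zpowers u)
  exact ⟨fun r hr => inverts_of_fixedPointFree h.inv hnR hRu hr, hRF⟩

/-- **Case (a)**: `E` centralises the element `x`. -/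
theorem case_a (hp : p.Prime) (hne : piCoreOf {p} K ⊓ centralizer ({u} : Set G) ≠ ⊥) {x : G}
    (hx : x ∈ E) (hx1 : x ≠ 1) (hxu : x * u = u * x) (hE : ∀ y ∈ E, y * x = x * y) :
    M.relIndex K ≤ p := by
  have hxP : x ∈ piCoreOf {p} K := c.CP (c.EC hx)
  refine relIndex_le h hp (ne_two h hp hne) hxP hx1 ((c.mem_E x).1 hx).2 hxu
    ((h.K_core p).trans c.nE) hx ?_
  refine h.card_le_sq hp (c.EC.trans c.CP) ?_ (fun y hy => ((c.mem_E y).1 hy).2)
  intro y hy
  exact h.mem_M_of_comm (h.core_fit hp hxP) hx1 hxu (h.core_le p (c.CP (c.EC hy))) (hE y hy)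

end

end Cfsg.Agent.Classification.TypeZ.ReflMain
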