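import Mathlib
import Cfsg.Agent.Classification.TypeZ.ReflMain

/-!
# Type Z of the Gorenstein–Walter theorem: the extraspecial case of the trichotomy
-/

set_option autoImplicit false
set_option linter.unusedSectionVars false

namespace Cfsg.Agent.Classification.TypeZ.ReflExtra

open Subgroup Cfsg
open scoped commutatorElement
open Cfsg.Agent.Classification.TypeB.Basic
open Cfsg.Agent.Classification.TypeZ.LineAction
open Cfsg.Agent.Classification.TypeZ.Refl
open Cfsg.Agent.Classification.TypeZ.ReflMain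
open Cfsg.Agent.OddOrderLocal Cfsg.Agent.OddOrderLocal.PiCoreOf

variable {G : Type*} [Group G] [Finite G]

/-- In a group `E` of class two, `|E| = |C_E(x)| |[E, x]|`. -/
theorem exists_range {E Z : Subgroup G} (hcen : ∀ e ∈ E, ∀ z ∈ Z, e * z = z * e)
    (hab : ∀ e ∈ E, ∀ f ∈ E, ⁅e, f⁆ ∈ Z) {x : G} (hx : x ∈ E) :
    ∃ R : Subgroup G, R ≤ Z ∧ (∀ r, r ∈ R ↔ ∃ e ∈ E, e * x * e⁻¹ = r * x) ∧
      Nat.card (E ⊓ centralizer ({x} : Set G) : Subgroup G) * Nat.card R = Nat.card E := by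
  let f : E →* G :=
    { toFun := fun e => ⁅(e : G), x⁆
      map_one' := by simp
      map_mul' := by
        intro a b
        have h1 := hab b b.2 x hx
        have h2 := hcen a a.2 _ h1
        show ⁅((a * b : E) : G), x⁆ = ⁅(a : G), x⁆ * ⁅(b : G), x⁆
        have h3 : ⁅((a * b : E) : G), x⁆ = (a : G) * ⁅(b : G), x⁆ * (x * (a : G)⁻¹ * x⁻¹) := by
          simp only [commutatorElement_def]; push_cast; group
        have h4 := hab a a.2 x hx
        have h5 : ⁅(a : G), x⁆ * ⁅(b : G), x⁆ = ⁅(b : G), x⁆ * ⁅(a : G), x⁆ :=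
          hcen _ (by
            rw [commutatorElement_def]
            exact mul_mem (mul_mem (mul_mem a.2 hx) (inv_mem a.2)) (inv_mem hx)) _ h1
        rw [h3, h2, h5]
        simp only [commutatorElement_def]; group }
  refine ⟨f.range, ?_, ?_, ?_⟩
  · rintro _ ⟨e, rfl⟩
    exact hab e e.2 x hx
  · intro r
    constructor
    · rintro ⟨e, rfl⟩
      refine ⟨e, e.2, ?_⟩
      show (e : G) * x * (e : G)⁻¹ = ⁅(e : G), x⁆ * x
      rw [commutatorElement_def]; group
    · rintro ⟨e, he, her⟩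
      refine ⟨⟨e, he⟩, ?_⟩
      show ⁅e, x⁆ = r
      rw [commutatorElement_def, her]; group
  · have h1 : Nat.card f.ker * f.ker.index = Nat.card E := f.ker.card_mul_index
    rw [Subgroup.index_ker] at h1
    have h2 : f.ker.map E.subtype = E ⊓ centralizer ({x} : Set G) := by
      ext e
      constructor
      · rintro ⟨y, hy, rfl⟩
        refine ⟨y.2, mem_centralizer_iff'.2 ?_⟩
        have h3 : ⁅(y : G), x⁆ = 1 := hy
        exact (commutatorElement_eq_one_iff_mul_comm.1 h3)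
      · rintro ⟨he, hex⟩
        refine ⟨⟨e, he⟩, ?_, rfl⟩
        show ⁅e, x⁆ = 1
        exact commutatorElement_eq_one_iff_mul_comm.2 (mem_centralizer_iff'.1 hex)
    have h3 : Nat.card (f.ker.map E.subtype) = Nat.card f.ker :=
      card_map_of_injective E.subtype_injective
    rw [← h1, ← h3, h2]

theorem card_le_of_lt {p : ℕ} (hp : p.Prime) {A B : Subgroup G} (hB : IsPGroup p B) (hAB : A ≤ B)
    (hne : ¬ B ≤ A) : Nat.card A * p ∣ Nat.card B := by
  have hf := Fact.mk hp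
  have h1 := LineAction.card_mul_relIndex hAB
  have h2 : p ∣ A.relIndex B := by
    obtain ⟨n, hn⟩ := IsPGroup.iff_card.1 hB
    have h3 : A.relIndex B ∣ p ^ n := by
      rw [← hn, ← h1]; exact Dvd.intro_left _ rfl
    obtain ⟨m, hm, hm'⟩ := (Nat.dvd_prime_pow hp).1 h3
    rcases m with _ | m
    · exfalso
      rw [pow_zero] at hm'
      exact hne (Subgroup.relIndex_eq_one.1 hm')
    · rw [hm']
      exact dvd_pow_self p (Nat.succ_ne_zero m)
  rw [← h1]
  exact Nat.mul_dvd_mul_left _ h2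

/-- a `p`-group of class two with an element `x ∉ Z(E)` such that `|C_E(x)| ≤ p²` -/
theorem extraspecial {p : ℕ} (hp : p.Prime) {E : Subgroup G} (hE : IsPGroup p E)
    (hab : ∀ e ∈ E, ∀ f ∈ E, ⁅e, f⁆ ∈ E ⊓ centralizer (E : Set G)) {x : G} (hx : x ∈ E)
    (hxZ : x ∉ centralizer (E : Set G))
    (hcard : Nat.card (E ⊓ centralizer ({x} : Set G) : Subgroup G) ≤ p ^ 2) :
    Nat.card (E ⊓ centralizer (E : Set G) : Subgroup G) = p ∧
    Nat.card (E ⊓ centralizer ({x} : Set G) : Subgroup G) = p ^ 2 ∧ Nat.card E = p ^ 3 ∧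
    ∀ y ∈ E, y ∉ centralizer (E : Set G) → ∀ z ∈ E ⊓ centralizer (E : Set G),
      ∃ e ∈ E, e * y * e⁻¹ = z * y := by
  set Z : Subgroup G := E ⊓ centralizer (E : Set G) with hZ
  have hcen : ∀ e ∈ E, ∀ z ∈ Z, e * z = z * e := fun e he z hz =>
    mem_centralizer_iff.1 hz.2 e he
  have hZE : Z ≤ E := inf_le_left
  -- `Z < C_E(y)` for `y ∈ E \ Z`
  have hlt : ∀ y ∈ E, y ∉ centralizer (E : Set G) →
      Nat.card Z * p ∣ Nat.card (E ⊓ centralizer ({y} : Set G) : Subgroup G) := by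
    intro y hy hyZ
    refine card_le_of_lt hp (hE.to_le inf_le_left) ?_ ?_
    · rintro z ⟨hz, hzc⟩
      exact ⟨hz, mem_centralizer_iff'.2 (mem_centralizer_iff.1 hzc y hy).symm⟩
    · intro hle
      exact hyZ (hle ⟨hy, mem_centralizer_iff'.2 rfl⟩).2
  -- `[E, y] ≠ 1`
  have hR : ∀ y ∈ E, y ∉ centralizer (E : Set G) → ∀ R : Subgroup G, R ≤ Z →
      (∀ r, r ∈ R ↔ ∃ e ∈ E, e * y * e⁻¹ = r * y) → p ∣ Nat.card R := by
    intro y hy hyZ R hRZ hRy
    refine FitCores.dvd_card_of_ne_bot hp (hE.to_le (hRZ.trans hZE)) ?_ le_rfl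
    rintro rfl
    apply hyZ
    rw [mem_centralizer_iff]
    intro e he
    have h1 : ⁅e, y⁆ ∈ (⊥ : Subgroup G) := (hRy _).2 ⟨e, he, by
      rw [commutatorElement_def]; group⟩
    exact commutatorElement_eq_one_iff_mul_comm.1 ((mem_bot).1 h1)
  obtain ⟨R, hRZ, hRx, hRc⟩ := exists_range hcen hab hx
  have h1 := hR x hx hxZ R hRZ hRx
  have h2 := hlt x hx hxZ
  have hRpos : 0 < Nat.card R := Nat.card_pos
  have hRp : p ≤ Nat.card R := Nat.le_of_dvd hRpos h1
  have hRleZ : Nat.card R ≤ Nat.card Z := Nat.card_mono (Set.toFinite _) hRZ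
  have h3 : Nat.card Z * p ≤ p ^ 2 :=
    (Nat.le_of_dvd Nat.card_pos h2).trans hcard
  have hZp : Nat.card Z = p := by
    have h4 : Nat.card Z ≤ p := by
      rw [pow_two] at h3
      exact Nat.le_of_mul_le_mul_right h3 hp.pos
    omega
  have hU : Nat.card (E ⊓ centralizer ({x} : Set G) : Subgroup G) = p ^ 2 := by
    apply le_antisymm hcard
    have := Nat.le_of_dvd Nat.card_pos h2
    rw [hZp] at this
    rw [pow_two]; exact this
  have hRcard : Nat.card R = p := by omega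
  refine ⟨hZp, hU, ?_, ?_⟩
  · rw [← hRc, hU, hRcard]; ring
  · intro y hy hyZ z hz
    obtain ⟨R', hRZ', hRy', -⟩ := exists_range hcen hab hy
    have h4 := hR y hy hyZ R' hRZ' hRy'
    have h5 : R' = Z := by
      apply Subgroup.eq_of_le_of_card_ge hRZ'
      rw [hZp]
      exact Nat.le_of_dvd Nat.card_pos h4
    exact (hRy' z).1 (h5 ▸ hz)

/-- The extraspecial case: `x ∈ E` is centralised by `u` but not by `E`. -/
structure XData (K M T : Subgroup G) (u : G) (p : ℕ) (C E : Subgroup G) (x : G) : Prop where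
  refl : ReflData K M T u
  crit : Crit K p C E
  hp : p.Prime
  hx : x ∈ E
  hx1 : x ≠ 1
  hxu : x * u = u * x
  hxE : x ∉ centralizer (E : Set G)

/-- the centre of `E` -/
def zE (E : Subgroup G) : Subgroup G := E ⊓ centralizer (E : Set G)

/-- the elements of `E` inverted by `u` modulo the centre -/
def wE (E : Subgroup G) (u : G) (hu : u ∈ normalizer (E : Set G))
    (hab : ∀ e ∈ E, ∀ f ∈ E, ⁅e, f⁆ ∈ zE E) : Subgroup G where
  carrier := {e | e ∈ E ∧ e * (u * e * u⁻¹) ∈ zE E}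
  one_mem' := ⟨one_mem _, by simp⟩
  mul_mem' := by
    rintro a b ⟨ha, ha'⟩ ⟨hb, hb'⟩
    refine ⟨mul_mem ha hb, ?_⟩
    have h1 : u * a * u⁻¹ ∈ E := conj_mem_of_mem_normalizer hu ha
    have h2 := hab b hb _ h1
    have h3 : ∀ e ∈ E, ∀ z ∈ zE E, e * z = z * e := fun e he z hz =>
      mem_centralizer_iff.1 hz.2 e he
    have h4 : a * b * (u * (a * b) * u⁻¹) =
        ⁅b, u * a * u⁻¹⁆ * (a * (u * a * u⁻¹)) * (b * (u * b * u⁻¹)) := by
      have h5 := h3 a ha _ h2
      calc a * b * (u * (a * b) * u⁻¹) =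
          (a * ⁅b, u * a * u⁻¹⁆) * (u * a * u⁻¹) * (b * (u * b * u⁻¹)) := by
            simp only [commutatorElement_def]; group
        _ = _ := by rw [h5]; group
    rw [h4]
    exact mul_mem (mul_mem h2 ha') hb'
  inv_mem' := by
    rintro a ⟨ha, ha'⟩
    refine ⟨inv_mem ha, ?_⟩
    have h3 : ∀ e ∈ E, ∀ z ∈ zE E, e * z = z * e := fun e he z hz =>
      mem_centralizer_iff.1 hz.2 e he
    have h4 := h3 _ (inv_mem ha) _ (inv_mem ha')
    have h5 : a⁻¹ * (u * a⁻¹ * u⁻¹) = a⁻¹ * (a * (u * a * u⁻¹))⁻¹ * a := by group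
    rw [h5, h4]
    simpa using inv_mem ha'

theorem mem_wE {E : Subgroup G} {u : G} {hu : u ∈ normalizer (E : Set G)}
    {hab : ∀ e ∈ E, ∀ f ∈ E, ⁅e, f⁆ ∈ zE E} {e : G} :
    e ∈ wE E u hu hab ↔ e ∈ E ∧ e * (u * e * u⁻¹) ∈ zE E := Iff.rfl

namespace XData

variable {K M T : Subgroup G} {u : G} {p : ℕ} {C E : Subgroup G} {x : G}
  (d : XData K M T u p C E x)
include d

theorem E_le : E ≤ piCoreOf {p} K := d.crit.EC.trans d.crit.CP

theorem K_E : K ≤ normalizer (E : Set G) := (d.refl.K_core p).trans d.crit.nE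

theorem u_E : u ∈ normalizer (E : Set G) := d.crit.nE (d.refl.norm_core p d.refl.norm)

theorem x_core : x ∈ piCoreOf {p} K := d.E_le d.hx

theorem x_fit : x ∈ fittingOf K := d.refl.core_fit d.hp d.x_core

theorem hne : piCoreOf {p} K ⊓ centralizer ({u} : Set G) ≠ ⊥ := by
  intro h1
  have h2 : x ∈ piCoreOf {p} K ⊓ centralizer ({u} : Set G) :=
    ⟨d.x_core, mem_centralizer_iff'.2 d.hxu⟩
  rw [h1, mem_bot] at h2
  exact d.hx1 h2

theorem p2 : p ≠ 2 := ne_two d.refl d.hp d.hne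

theorem nab : ∃ a b, a ∈ piCoreOf {p} K ∧ b ∈ piCoreOf {p} K ∧ a * b ≠ b * a := by
  by_contra hcon
  push Not at hcon
  exact d.hxE (mem_centralizer_iff.2 fun y hy => hcon y x (d.E_le hy) d.x_core)

/-- `[E, P] ≤ Z(E)` -/
theorem comm_core {e g : G} (he : e ∈ E) (hg : g ∈ piCoreOf {p} K) : ⁅e, g⁆ ∈ zE E := by
  refine ⟨?_, ?_⟩
  · have h1 : ⁅e, g⁆ = e * (g * e⁻¹ * g⁻¹) := by rw [commutatorElement_def]; group
    rw [h1]
    exact mul_mem he (conj_mem_of_mem_normalizer (d.K_E (d.refl.core_le p hg)) (inv_mem he))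
  · exact mem_centralizer_iff.2 fun y hy =>
      (d.crit.comm e (d.crit.EC he) g hg y (d.crit.EC hy)).symm

theorem ab : ∀ e ∈ E, ∀ f ∈ E, ⁅e, f⁆ ∈ zE E := fun _ he _ hf => d.comm_core he (d.E_le hf)

theorem cen : ∀ e ∈ E, ∀ z ∈ zE E, e * z = z * e := fun e he _ hz =>
  mem_centralizer_iff.1 hz.2 e he

theorem pow_E {e : G} (he : e ∈ E) : e ^ p = 1 := ((d.crit.mem_E e).1 he).2

theorem isPGroup_E : IsPGroup p E := (FitCores.isPGroup_piCoreOf d.hp K).to_le d.E_le

theorem U_le_M : E ⊓ centralizer ({x} : Set G) ≤ M := fun y hy =>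
  d.refl.mem_M_of_comm d.x_fit d.hx1 d.hxu (d.refl.core_le p (d.E_le hy.1))
    (mem_centralizer_iff'.1 hy.2)

theorem cards : Nat.card (zE E) = p ∧
    Nat.card (E ⊓ centralizer ({x} : Set G) : Subgroup G) = p ^ 2 ∧ Nat.card E = p ^ 3 ∧
    ∀ y ∈ E, y ∉ centralizer (E : Set G) → ∀ z ∈ zE E, ∃ e ∈ E, e * y * e⁻¹ = z * y :=
  extraspecial d.hp d.isPGroup_E d.ab d.hx d.hxE
    (d.refl.card_le_sq d.hp (inf_le_left.trans d.E_le) d.U_le_M fun _ hy => d.pow_E hy.1)

theorem mem_normalizer_zE {g : G} (hg : g ∈ normalizer (E : Set G)) :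
    g ∈ normalizer (zE E : Set G) := by
  apply mem_normalizer_of_conj
  rintro z ⟨hz, hzc⟩
  refine ⟨conj_mem_of_mem_normalizer hg hz, mem_centralizer_iff.2 fun y hy => ?_⟩
  have h1 : g⁻¹ * y * g⁻¹⁻¹ ∈ E := conj_mem_of_mem_normalizer (inv_mem hg) hy
  have h2 := mem_centralizer_iff.1 hzc _ h1
  calc y * (g * z * g⁻¹) = g * ((g⁻¹ * y * g⁻¹⁻¹) * z) * g⁻¹ := by group
    _ = g * (z * (g⁻¹ * y * g⁻¹⁻¹)) * g⁻¹ := by rw [h2]
    _ = _ := by group

theorem K_zE : K ≤ normalizer (zE E : Set G) := fun _ hk => d.mem_normalizer_zE (d.K_E hk)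

theorem u_zE : u ∈ normalizer (zE E : Set G) := d.mem_normalizer_zE d.u_E

/-- `u` inverts `Z(E)` -/
theorem zE_inf : zE E ⊓ centralizer ({u} : Set G) = ⊥ := by
  rw [eq_bot_iff]
  rintro z ⟨hz, hzu⟩
  rw [mem_bot]
  by_contra hz1
  apply d.refl.notle
  intro k hk
  have hf := Fact.mk d.hp
  refine d.refl.ti z (d.refl.core_fit d.hp (d.E_le hz.1)) hz1 (mem_centralizer_iff'.1 hzu) k hk ?_
  have h1 : k * z * k⁻¹ ∈ zE E := conj_mem_of_mem_normalizer (d.K_zE hk) hz
  have hne1 : (⟨z, hz⟩ : zE E) ≠ 1 := fun h2 => hz1 (congrArg Subtype.val h2)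
  obtain ⟨n, hn⟩ := mem_zpowers_of_prime_card d.cards.1 hne1 (g' := (⟨k * z * k⁻¹, h1⟩ : zE E))
  have h2 : z ^ n = k * z * k⁻¹ := congrArg Subtype.val hn
  rw [← h2]
  exact (show Commute z u from mem_centralizer_iff'.1 hzu).zpow_left n

theorem inv_zE {z : G} (hz : z ∈ zE E) : u * z * u⁻¹ = z⁻¹ :=
  inverts_of_fixedPointFree d.refl.inv d.u_zE d.zE_inf hz

theorem x_notMem : x ∉ zE E := fun h1 => d.hxE h1.2

/-- `U = C_E(x)` -/
theorem U_lines : (E ⊓ centralizer ({x} : Set G)) ∈ lines p (zE E) E := by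
  refine ⟨?_, inf_le_left, ?_⟩
  · rintro z ⟨hz, hzc⟩
    exact ⟨hz, mem_centralizer_iff'.2 (mem_centralizer_iff.1 hzc x d.hx).symm⟩
  · rw [d.cards.1, d.cards.2.1, pow_two]

theorem W_lines : wE E u d.u_E d.ab ∈ lines p (zE E) E := by
  have hf := Fact.mk d.hp
  have hWE : wE E u d.u_E d.ab ≤ E := fun e he => he.1
  refine ⟨?_, hWE, ?_⟩
  · intro z hz
    refine ⟨hz.1, ?_⟩
    rw [d.inv_zE hz, mul_inv_cancel]
    exact one_mem _
  · -- `x ∉ W`
    have hxW : x ∉ wE E u d.u_E d.ab := by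
      rintro ⟨-, h1⟩
      have h2 : u * x * u⁻¹ = x := by rw [← d.hxu]; group
      rw [h2] at h1
      apply d.x_notMem
      exact mem_of_mul_self (odd_of_le (d.E_le.trans (d.refl.core_le p)) d.refl.odd) d.hx h1
    have h1 := card_le_of_lt d.hp d.isPGroup_E hWE (fun hle => hxW (hle d.hx))
    -- `|E| ≤ |W| p`
    have h2 : Nat.card E ≤ Nat.card (wE E u d.u_E d.ab) *
        Nat.card (E ⊓ centralizer ({u} : Set G) : Subgroup G) := by
      rw [← Nat.card_prod]
      let f : (wE E u d.u_E d.ab) × (E ⊓ centralizer ({u} : Set G) : Subgroup G) → E :=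
        fun q => ⟨q.1 * q.2, mul_mem q.1.2.1 q.2.2.1⟩
      apply Nat.card_le_card_of_surjective f
      rintro ⟨e, he⟩
      obtain ⟨m, hm, c, hc, hmc⟩ := Lib.CoprimeCommutator.exists_commutator_mul_fixed_of_isPGroup 2
        (zpowers u) E d.refl.inv.isPGroup (by rw [zpowers_le]; exact d.u_E)
        (not_two_dvd (odd_of_le (d.E_le.trans (d.refl.core_le p)) d.refl.odd)) e he
      rw [centralizer_zpowers] at hc
      have hmW : ⁅E, zpowers u⁆ ≤ wE E u d.u_E d.ab := by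
        rw [commutator_le]
        rintro y hy a ⟨n, rfl⟩
        have ha : u ^ n = 1 ∨ u ^ n = u := by
          rcases Int.even_or_odd n with ⟨j, rfl⟩ | ⟨j, rfl⟩
          · left
            rw [zpow_add, ← (Commute.refl u).mul_zpow, d.refl.inv.1, one_zpow]
          · right
            rw [zpow_add, zpow_mul, zpow_one, zpow_two, d.refl.inv.1, one_zpow, one_mul]
        show ⁅y, u ^ n⁆ ∈ _
        rcases ha with ha | ha
        · rw [ha, commutatorElement_one_right]; exact one_mem _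
        · rw [ha]
          refine ⟨?_, ?_⟩
          · have h3 : ⁅y, u⁆ = y * (u * y⁻¹ * u⁻¹) := by rw [commutatorElement_def]; group
            rw [h3]
            exact mul_mem hy (conj_mem_of_mem_normalizer d.u_E (inv_mem hy))
          · have h3 : ⁅y, u⁆ * (u * ⁅y, u⁆ * u⁻¹) = 1 := by
              rw [commutatorElement_def, d.refl.inv.inv_eq]
              calc y * u * y⁻¹ * u * (u * (y * u * y⁻¹ * u) * u) =
                  y * u * y⁻¹ * (u * u) * y * u * y⁻¹ * (u * u) := by group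
                _ = 1 := by rw [d.refl.inv.1]; simp [d.refl.inv.1, mul_assoc]
            rw [h3]
            exact one_mem _
      exact ⟨(⟨m, hmW hm⟩, ⟨c, hc⟩), Subtype.ext hmc.symm⟩
    have h3 : Nat.card (E ⊓ centralizer ({u} : Set G) : Subgroup G) ≤ p :=
      d.refl.card_le_X d.hp (inf_le_left.trans d.E_le) inf_le_right fun y hy => d.pow_E hy.1
    have h4 := d.cards.2.2.1
    rw [h4] at h1 h2
    rw [d.cards.1]
    apply le_antisymm
    · have h5 := Nat.le_of_dvd (pow_pos d.hp.pos 3) h1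
      have h6 : p ^ 3 = (p * p) * p := by ring
      rw [h6] at h5
      exact Nat.le_of_mul_le_mul_right h5 d.hp.pos
    · have h5 : (p * p) * p ≤ Nat.card (wE E u d.u_E d.ab) * p := by
        calc (p * p) * p = p ^ 3 := by ring
          _ ≤ _ := h2
          _ ≤ _ := Nat.mul_le_mul_left _ h3
      exact Nat.le_of_mul_le_mul_right h5 d.hp.pos

/-- a `p'`-element acting trivially on `E / L`, `L / Z(E)`, `Z(E)` centralises `E` -/
theorem comm_of_chain {L : Subgroup G} (hL : L ≤ E) (hZL : zE E ≤ L) {g : G}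
    (hgp : (orderOf g).Coprime p) (h1 : ∀ e ∈ E, g * e * g⁻¹ * e⁻¹ ∈ L)
    (h2 : ∀ e ∈ L, g * e * g⁻¹ * e⁻¹ ∈ zE E) (h3 : ∀ e ∈ zE E, g * e = e * g) :
    ∀ e ∈ E, g * e = e * g := by
  have hf := Fact.mk d.hp
  have hcop : (orderOf g).Coprime (Nat.card E) := by
    obtain ⟨n, hn⟩ := IsPGroup.iff_card.1 d.isPGroup_E
    rw [hn]
    exact Nat.Coprime.pow_right n hgp
  have hconj : ∀ e : G, ⁅e, g⁆ = (g * e * g⁻¹ * e⁻¹)⁻¹ := by
    intro e; rw [commutatorElement_def]; group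
  have key : ∀ e : G, ⁅e, g⁆ ∈ E → Commute ⁅e, g⁆ g → g * e = e * g := by
    intro e he hc
    exact (Lib.CoprimeStab.commute_of_commutator_commute hcop he hc).symm
  have hL' : ∀ e ∈ L, g * e = e * g := by
    intro e he
    have h4 : ⁅e, g⁆ ∈ zE E := by rw [hconj]; exact inv_mem (h2 e he)
    exact key e h4.1 (h3 _ h4).symm
  intro e he
  have h4 : ⁅e, g⁆ ∈ L := by rw [hconj]; exact inv_mem (h1 e he)
  exact key e (hL h4) (hL' _ h4).symm

theorem R_zE : ⁅K, zpowers u⁆ ≤ centralizer (zE E : Set G) :=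
  comm_le_centralizer_of_inv d.refl.inv d.K_zE fun _ hz => d.inv_zE hz

theorem fit_le : fittingOf K ≤ secCent (zE E) E := by
  rw [FitCores.fittingOf_le_iff]
  intro s hs g hg
  refine ⟨d.K_zE (d.refl.core_le s hg), d.K_E (d.refl.core_le s hg), fun e he => ?_⟩
  by_cases hsp : s = p
  · subst hsp
    have h1 : g * e * g⁻¹ * e⁻¹ = ⁅e, g⁆⁻¹ := by rw [commutatorElement_def]; group
    rw [h1]
    exact inv_mem (d.comm_core he hg)
  · have h1 := mem_centralizer_iff.1 (FitCores.core_le_centralizer_core hs d.hp hsp K hg) e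
      (d.E_le he)
    have h2 : g * e * g⁻¹ * e⁻¹ = 1 := by rw [← h1]; group
    rw [h2]
    exact one_mem _

theorem lineData : LineData p K (zE E) E u where
  p2 := d.p2
  odd := d.refl.odd
  inv := d.refl.inv
  uK := d.refl.norm
  uZ := d.u_zE
  uE := d.u_E
  KZ := d.K_zE
  KE := d.K_E
  ZE := inf_le_left
  card := by rw [d.cards.1, d.cards.2.2.1]; ring
  cen := d.cen
  ab := d.ab
  exp := fun e he => by rw [d.pow_E he]; exact one_mem _
  H := by
    intro L hL huL hKL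
    have hf := Fact.mk d.hp
    have hEZ : E ≤ normalizer (zE E : Set G) := fun e he => d.K_zE (d.refl.core_le p (d.E_le he))
    have hEL : E ≤ normalizer (L : Set G) := by
      intro e he
      apply mem_normalizer_of_conj
      intro l hl
      have h1 := hL.1 (d.ab e he l (hL.2.1 hl))
      have h2 : e * l * e⁻¹ = ⁅e, l⁆ * l := by rw [commutatorElement_def]; group
      rw [h2]
      exact mul_mem h1 hl
    have hcardE : Nat.card E = p ^ 2 * Nat.card (zE E) := by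
      rw [d.cards.1, d.cards.2.2.1]; ring
    have h1 : ⁅K, zpowers u⁆ ≤ secCent L E :=
      commutator_le_secCent hEL (by rw [relIndex_right hcardE hL]; exact d.hp)
        hKL d.K_E (by rwa [zpowers_le]) (by rw [zpowers_le]; exact d.u_E)
    have h2 : ⁅K, zpowers u⁆ ≤ secCent (zE E) L :=
      commutator_le_secCent (hL.2.1.trans hEZ) (by rw [relIndex_left hL]; exact d.hp)
        d.K_zE hKL (by rw [zpowers_le]; exact d.u_zE) (by rwa [zpowers_le])
    have h3 : ⁅K, zpowers u⁆ ≤ fittingOf K := by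
      refine le_fit d.refl d.crit d.hp d.hne d.nab le_rfl (K_comm d.refl d.crit) ?_
      intro g hg hgp
      exact d.comm_of_chain hL.2.1 hL.1 hgp (h1 hg).2.2 (h2 hg).2.2
        (fun e he => (mem_centralizer_iff.1 (d.R_zE hg) e he).symm)
    exact h3.trans d.fit_le

/-- `C_E(u) = ⟨x⟩` -/
theorem mem_zpowers {y : G} (hy : y ∈ E) (hyu : y * u = u * y) : y ∈ zpowers x := by
  have hf := Fact.mk d.hp
  have h1 : Nat.card (E ⊓ centralizer ({u} : Set G) : Subgroup G) ≤ p :=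
    d.refl.card_le_X d.hp (inf_le_left.trans d.E_le) inf_le_right fun y hy => d.pow_E hy.1
  have h2 : zpowers x ≤ E ⊓ centralizer ({u} : Set G) := by
    rw [zpowers_le]
    exact ⟨d.hx, mem_centralizer_iff'.2 d.hxu⟩
  have h3 : Nat.card (zpowers x) = p := by
    rw [Nat.card_zpowers]
    exact orderOf_eq_prime (d.pow_E d.hx) d.hx1
  have h4 : zpowers x = E ⊓ centralizer ({u} : Set G) :=
    Subgroup.eq_of_le_of_card_ge h2 (by rw [h3]; exact h1)
  rw [h4]
  exact ⟨hy, mem_centralizer_iff'.2 hyu⟩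

/-- `N_K(⟨x⟩) ≤ N(U)` -/
theorem mem_N_U {g : G} (hg : g ∈ K) (h1 : g * x * g⁻¹ ∈ zpowers x) :
    g ∈ normalizer ((E ⊓ centralizer ({x} : Set G) : Subgroup G) : Set G) := by
  have hf := Fact.mk d.hp
  -- `x` is a power of `g x g⁻¹`
  have h2 : x ∈ zpowers (g * x * g⁻¹) := by
    have h3 : zpowers (g * x * g⁻¹) ≤ zpowers x := by rwa [zpowers_le]
    have h4 : zpowers (g * x * g⁻¹) = zpowers x := by
      apply Subgroup.eq_of_le_of_card_ge h3
      rw [Nat.card_zpowers, Nat.card_zpowers]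
      have h5 : orderOf (g * x * g⁻¹) = orderOf x :=
        orderOf_injective (MulAut.conj g).toMonoidHom (MulAut.conj g).injective x
      rw [h5]
    rw [h4]
    exact Subgroup.mem_zpowers x
  obtain ⟨n, hn⟩ := h2
  apply mem_normalizer_of_conj
  rintro y ⟨hy, hyx⟩
  refine ⟨conj_mem_of_mem_normalizer (d.K_E hg) hy, mem_centralizer_iff'.2 ?_⟩
  have h3 : Commute y x := mem_centralizer_iff'.1 hyx
  have h4 : Commute (g * y * g⁻¹) (g * x * g⁻¹) := by
    show g * y * g⁻¹ * (g * x * g⁻¹) = g * x * g⁻¹ * (g * y * g⁻¹)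
    calc g * y * g⁻¹ * (g * x * g⁻¹) = g * (y * x) * g⁻¹ := by group
      _ = g * (x * y) * g⁻¹ := by rw [h3.eq]
      _ = _ := by group
  have h5 := h4.zpow_right n
  have h6 : (g * x * g⁻¹) ^ n = x := hn
  rw [h6] at h5
  exact h5

theorem D_le_N_U : K ⊓ centralizer ({u} : Set G) ≤
    normalizer ((E ⊓ centralizer ({x} : Set G) : Subgroup G) : Set G) := by
  rintro g ⟨hg, hgu⟩
  refine d.mem_N_U hg (d.mem_zpowers (conj_mem_of_mem_normalizer (d.K_E hg) d.hx) ?_)
  have h1 : Commute g u := mem_centralizer_iff'.1 hgu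
  have h2 : Commute x u := d.hxu
  exact (h1.mul_left h2).mul_left h1.inv_left

theorem T_le_N_U : T ≤
    normalizer ((E ⊓ centralizer ({x} : Set G) : Subgroup G) : Set G) := by
  intro a ha
  refine d.mem_N_U (d.refl.T_le ha) ?_
  have h1 := d.refl.T_comm a ha x d.x_fit d.hxu
  have h2 : a * x * a⁻¹ = x := by rw [h1]; group
  rw [h2]
  exact Subgroup.mem_zpowers x

theorem KM_le_N_U : K ⊓ M ≤
    normalizer ((E ⊓ centralizer ({x} : Set G) : Subgroup G) : Set G) := by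
  rintro g ⟨hg, hgM⟩
  obtain ⟨a, ha, b, hb, hbu, rfl⟩ := d.refl.split g hg hgM
  exact mul_mem (d.T_le_N_U ha) (d.D_le_N_U ⟨hb, mem_centralizer_iff'.2 hbu⟩)

theorem u_N_U : u ∈ normalizer ((E ⊓ centralizer ({x} : Set G) : Subgroup G) : Set G) := by
  apply mem_normalizer_of_conj
  rintro y ⟨hy, hyx⟩
  refine ⟨conj_mem_of_mem_normalizer d.u_E hy, mem_centralizer_iff'.2 ?_⟩
  have h1 : y * x = x * y := mem_centralizer_iff'.1 hyx
  have h2 := d.hxu
  calc u * y * u⁻¹ * x = u * y * (u⁻¹ * (x * u) * u⁻¹) := by group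
    _ = u * y * (u⁻¹ * (u * x) * u⁻¹) := by rw [h2]
    _ = u * (y * x) * u⁻¹ := by group
    _ = u * (x * y) * u⁻¹ := by rw [h1]
    _ = (u * x) * y * u⁻¹ := by group
    _ = (x * u) * y * u⁻¹ := by rw [h2]
    _ = _ := by group

theorem u_N_W : u ∈ normalizer ((wE E u d.u_E d.ab : Subgroup G) : Set G) := by
  apply mem_normalizer_of_conj
  rintro y ⟨hy, hy'⟩
  refine ⟨conj_mem_of_mem_normalizer d.u_E hy, ?_⟩
  have h1 := conj_mem_of_mem_normalizer d.u_zE hy'
  have h2 : u * (y * (u * y * u⁻¹)) * u⁻¹ = u * y * u⁻¹ * (u * (u * y * u⁻¹) * u⁻¹) := by group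
  rwa [h2] at h1

theorem U_ne_W : E ⊓ centralizer ({x} : Set G) ≠ wE E u d.u_E d.ab := by
  intro h1
  have h2 : x ∈ E ⊓ centralizer ({x} : Set G) := ⟨d.hx, mem_centralizer_iff'.2 rfl⟩
  rw [h1] at h2
  obtain ⟨-, h3⟩ := h2
  have h4 : u * x * u⁻¹ = x := by rw [← d.hxu]; group
  rw [h4] at h3
  exact d.x_notMem
    (mem_of_mul_self (odd_of_le (d.E_le.trans (d.refl.core_le p)) d.refl.odd) d.hx h3)

theorem two_mul_le :
    2 * (normalizer ((E ⊓ centralizer ({x} : Set G) : Subgroup G) : Set G)).relIndex K ≤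
      p + 1 := by
  have hf := Fact.mk d.hp
  exact d.lineData.two_mul_relIndex_le d.U_lines d.W_lines d.U_ne_W d.u_N_U d.u_N_W d.D_le_N_U

theorem T_le_fit : T ≤ fittingOf K := by
  have hf := Fact.mk d.hp
  have h1 : ⁅T, zpowers u⁆ ≤ secCent (zE E) E :=
    d.lineData.comm_le_secCent d.U_lines d.u_N_U d.refl.T_le d.T_le_N_U
  have h2 : ⁅K, zpowers u⁆ ⊓ secCent (zE E) E ≤ fittingOf K := by
    refine le_fit d.refl d.crit d.hp d.hne d.nab inf_le_left ?_ ?_
    · intro k hk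
      apply mem_normalizer_of_conj
      rintro y ⟨hy, hy'⟩
      exact ⟨conj_mem_of_mem_normalizer (K_comm d.refl d.crit hk) hy,
        conj_mem_secCent hy' (d.K_zE hk) (d.K_E hk)⟩
    · rintro g ⟨hg, hg'⟩ hgp
      refine d.comm_of_chain (L := zE E) inf_le_left le_rfl hgp hg'.2.2 ?_
        (fun e he => (mem_centralizer_iff.1 (d.R_zE hg) e he).symm)
      intro e he
      have h3 := mem_centralizer_iff.1 (d.R_zE hg) e he
      have h4 : g * e * g⁻¹ * e⁻¹ = 1 := by rw [← h3]; group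
      rw [h4]
      exact one_mem _
  intro a ha
  have h3 : ⁅a, u⁆ = a * a := by
    have h4 := d.refl.T_inv a ha
    have h5 : u * a⁻¹ * u⁻¹ = a := by
      have : u * a⁻¹ * u⁻¹ = (u * a * u⁻¹)⁻¹ := by group
      rw [this, h4, inv_inv]
    rw [commutatorElement_def]
    calc a * u * a⁻¹ * u⁻¹ = a * (u * a⁻¹ * u⁻¹) := by group
      _ = _ := by rw [h5]
  have h4 : a * a ∈ ⁅T, zpowers u⁆ := by
    rw [← h3]
    exact commutator_mem_commutator ha (Subgroup.mem_zpowers u)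
  have h5 : a * a ∈ fittingOf K :=
    h2 ⟨commutator_mono d.refl.T_le le_rfl h4, h1 h4⟩
  exact mem_of_mul_self d.refl.odd (d.refl.T_le ha) h5

theorem relIndex_eq : M.relIndex K =
    p * (normalizer ((E ⊓ centralizer ({x} : Set G) : Subgroup G) : Set G)).relIndex K := by
  have hf := Fact.mk d.hp
  set N : Subgroup G := normalizer ((E ⊓ centralizer ({x} : Set G) : Subgroup G) : Set G) with hN
  have hEN : E ≤ K ⊓ N := by
    intro e he
    refine ⟨d.refl.core_le p (d.E_le he), ?_⟩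
    exact d.lineData.EL d.U_lines he
  have h1 : (K ⊓ M).relIndex (K ⊓ N) = (K ⊓ M).relIndex E := by
    apply relIndex_eq_of_forall hEN
    rintro b ⟨hb, hbN⟩
    -- `b x b⁻¹ = xⁿ z`
    have h2 : b * x * b⁻¹ ∈ E ⊓ centralizer ({x} : Set G) :=
      conj_mem_of_mem_normalizer hbN ⟨d.hx, mem_centralizer_iff'.2 rfl⟩
    have hEZ : E ≤ normalizer (zE E : Set G) := fun e he => d.K_zE (d.refl.core_le p (d.E_le he))
    obtain ⟨n, hn⟩ := exists_zpow_mem (A := zE E) (B := E ⊓ centralizer ({x} : Set G))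
      (inf_le_left.trans hEZ) d.hp (relIndex_left d.U_lines)
      (⟨d.hx, mem_centralizer_iff'.2 rfl⟩ : x ∈ E ⊓ centralizer ({x} : Set G)) d.x_notMem h2
    have h3 : x ^ n ∈ E := zpow_mem d.hx n
    have h4 : x ^ n ∉ centralizer (E : Set G) := by
      intro h5
      have h6 : x ^ n ∈ zE E := ⟨h3, h5⟩
      have h7 : b * x * b⁻¹ ∈ zE E := by
        have : b * x * b⁻¹ = x ^ n * ((x ^ n)⁻¹ * (b * x * b⁻¹)) := by group
        rw [this]
        exact mul_mem h6 hn
      apply d.x_notMem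
      have h8 := conj_mem_of_mem_normalizer (inv_mem (d.K_zE hb)) h7
      have h9 : b⁻¹ * (b * x * b⁻¹) * b⁻¹⁻¹ = x := by group
      rwa [h9] at h8
    obtain ⟨e, he, hex⟩ := d.cards.2.2.2 (x ^ n) h3 h4 _ hn
    have h5 : e * x ^ n * e⁻¹ = b * x * b⁻¹ := by
      rw [hex]
      have h6 := d.cen (x ^ n) h3 _ hn
      rw [← h6]; group
    refine ⟨e, he, K.mul_mem (inv_mem (d.refl.core_le p (d.E_le he))) hb, ?_⟩
    refine d.refl.ti x d.x_fit d.hx1 d.hxu (e⁻¹ * b)
      (K.mul_mem (inv_mem (d.refl.core_le p (d.E_le he))) hb) ?_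
    have h6 : e⁻¹ * b * x * (e⁻¹ * b)⁻¹ = x ^ n := by
      calc e⁻¹ * b * x * (e⁻¹ * b)⁻¹ = e⁻¹ * (b * x * b⁻¹) * e := by group
        _ = x ^ n := by rw [← h5]; group
    rw [h6]
    exact (show Commute x u from d.hxu).zpow_left n
  have h2 : (K ⊓ M).relIndex E = p := by
    have h3 : E ⊓ centralizer ({x} : Set G) = (K ⊓ M) ⊓ E := by
      apply le_antisymm
      · intro y hy
        exact ⟨⟨d.refl.core_le p (d.E_le hy.1), d.U_le_M hy⟩, hy.1⟩
      · rintro y ⟨⟨-, hyM⟩, hy⟩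
        refine ⟨hy, mem_centralizer_iff'.2 ?_⟩
        have hxM : x ∈ M := d.U_le_M ⟨d.hx, mem_centralizer_iff'.2 rfl⟩
        exact d.refl.comm_of_mem d.hp (d.E_le hy) hyM d.x_core hxM
    rw [← inf_relIndex_right, ← h3]
    exact relIndex_right (by rw [d.cards.1, d.cards.2.2.1]; ring) d.U_lines
  have h3 : K ⊓ M ≤ K ⊓ N := le_inf inf_le_left d.KM_le_N_U
  have h4 := Subgroup.relIndex_mul_relIndex (K ⊓ M) (K ⊓ N) K h3 inf_le_left
  rw [h1, h2] at h4
  rw [inf_comm K N, inf_comm K M, inf_relIndex_right, inf_relIndex_right] at h4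
  exact h4.symm

end XData

end Cfsg.Agent.Classification.TypeZ.ReflExtra
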