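import Mathlib
import Cfsg.Agent.Classification.TypeZ.Trichotomy
import Cfsg.Agent.Classification.TypeZ.Special

/-!
# Type Z of the Gorenstein–Walter theorem: [Z-STRUCT-B], the bridge

* `reflData_of`: the data `ReflData K (N(L)) (K ∩ L) u` from properties of `L`;
* `lconf_of`: case (b) of the trichotomy gives configuration (L1*).
-/

set_option autoImplicit false
set_option linter.unusedSectionVars false

namespace Cfsg.Agent.Classification.TypeZ.Bridge

open Subgroup Cfsg
open scoped commutatorElement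
open Cfsg.Agent.Classification.TypeB.Basic Cfsg.Agent.Classification.TypeB.Core
open Cfsg.Agent.Classification.TypeZ.Bender
open Cfsg.Agent.Classification.TypeZ.Refl
open Cfsg.Agent.Classification.TypeZ.ReflMain
open Cfsg.Agent.OddOrderLocal Cfsg.Agent.OddOrderLocal.PiCoreOf

universe v

section general

variable {G : Type*} [Group G] [Finite G]

theorem reflData_of {K L : Subgroup G} {u : G} (hodd : Odd (Nat.card K))
    (hsol : Group.IsSolvable K) (hu : IsInv u) (hn : u ∈ normalizer (K : Set G)) (huL : u ∈ L)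
    (hcyc : IsCyclic (K ⊓ L : Subgroup G)) (hb : K ⊓ L ⊓ centralizer ({u} : Set G) = ⊥)
    (hcent : ∀ x ∈ fittingOf K, x * u = u * x → ∀ l ∈ L, l * x = x * l)
    (hti : ∀ x ∈ fittingOf K, x ≠ 1 → x * u = u * x → ∀ k ∈ K,
      (k * x * k⁻¹) * u = u * (k * x * k⁻¹) → k ∈ normalizer (L : Set G))
    (hnot : ¬ K ≤ normalizer (L : Set G)) :
    ReflData K (normalizer (L : Set G)) (K ⊓ L) u where
  odd := hodd
  solv := hsol
  inv := hu
  norm := hn
  notle := hnot
  T_le := inf_le_left
  T_leM := inf_le_right.trans le_normalizer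
  T_cyc := hcyc
  T_inv := by
    have hun : u ∈ normalizer ((K ⊓ L : Subgroup G) : Set G) := by
      apply mem_normalizer_of_conj
      rintro x ⟨hx, hx'⟩
      exact ⟨conj_mem_of_mem_normalizer hn hx, L.mul_mem (L.mul_mem huL hx') (L.inv_mem huL)⟩
    exact fun a ha => inverts_of_fixedPointFree hu hun hb ha
  T_comm := fun a ha x hx hxu => hcent x hx hxu a ha.2
  split := by
    intro k hk hkL
    set X : Subgroup G := K ⊓ normalizer (L : Set G) with hX
    have huX : u ∈ normalizer (X : Set G) := by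
      apply mem_normalizer_of_conj
      rintro x ⟨hx, hx'⟩
      have h0 : u * x * u⁻¹ ∈ normalizer (L : Set G) :=
        mul_mem (mul_mem (le_normalizer huL) hx') (inv_mem (le_normalizer huL))
      exact ⟨conj_mem_of_mem_normalizer hn hx, h0⟩
    obtain ⟨m, hm, c, hc, hmc⟩ := Lib.CoprimeCommutator.exists_commutator_mul_fixed_of_isPGroup 2
      (zpowers u) X hu.isPGroup (by rwa [zpowers_le])
      (not_two_dvd (odd_of_le inf_le_left hodd)) k ⟨hk, hkL⟩
    rw [centralizer_zpowers] at hc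
    have h1 : ⁅X, zpowers u⁆ ≤ K ⊓ L := by
      refine le_inf ((comm_le huX).trans inf_le_left) ?_
      rw [commutator_le]
      intro x hx w hw
      have hwL : w ∈ L := (zpowers_le.2 huL) hw
      rw [commutatorElement_def]
      exact mul_mem (conj_mem_of_mem_normalizer hx.2 hwL) (inv_mem hwL)
    exact ⟨m, h1 hm, c, hc.1.1, mem_centralizer_iff'.1 hc.2, hmc⟩
  ti := hti

/-- two involutions acting in the same way on `K` -/
theorem comm_eq_of_act {K : Subgroup G} {u s : G} (h : ∀ k ∈ K, s * k * s⁻¹ = u * k * u⁻¹)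
    (hn : u ∈ normalizer (K : Set G)) :
    ∀ y ∈ ⁅K, zpowers u⁆, s * y * s⁻¹ = u * y * u⁻¹ := fun y hy => h y (comm_le hn hy)

end general

section zhyp

variable {G : Type v} [Group G] [Finite G] {t u : G} {S : Subgroup G}

/-- **Case (b)** of the trichotomy gives the configuration of (L1*). Every element of `S` acts on `K` trivially or
as `u`. -/
theorem lconf_of (htu : t * u = u * t) (hu : IsInv u) (htS : t ∈ S)
    (hsyl : ∃ P : Sylow 2 G, (P : Subgroup G) = S) (hS : S ≤ centralizer ({t} : Set G))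
    (hsup : centralizer ({t} : Set G) ≤ Kc t ⊔ S)
    (hact : ∀ s ∈ S, (∀ k ∈ Kc t, s * k * s⁻¹ = k) ∨ (∀ k ∈ Kc t, s * k * s⁻¹ = u * k * u⁻¹))
    (hne : ∀ s ∈ S, IsInv s → s ≠ t → ∀ k ∈ Kc t, s * k * s⁻¹ = u * k * u⁻¹)
    (hinv : ∀ r ∈ ⁅Kc t, zpowers u⁆, u * r * u⁻¹ = r⁻¹)
    (hctrl : ∀ r : ℕ, r.Prime → r ∣ Nat.card (⁅Kc t, zpowers u⁆ : Subgroup G) → Ctrl t r) :
    LConf t S ⁅Kc t, zpowers u⁆ := by
  have hun : u ∈ normalizer (Kc t : Set G) :=
    normalizer_Kc_le t (mem_centralizer_iff'.2 htu.symm)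
  have hRK : ⁅Kc t, zpowers u⁆ ≤ Kc t := comm_le hun
  have hnR : u ∈ normalizer ((⁅Kc t, zpowers u⁆ : Subgroup G) : Set G) :=
    Lib.CoprimeCommutator.right_le_normalizer_commutator (Kc t) (zpowers u) (mem_zpowers u)
  refine ⟨hRK, ?_, ?_, htS, hsyl, hS, ?_, ?_, hctrl⟩
  · refine hsup.trans (sup_le (Lib.CoprimeCommutator.left_le_normalizer_commutator _ _) ?_)
    intro s hs
    apply mem_normalizer_of_conj
    intro y hy
    rcases hact s hs with h1 | h1
    · rw [h1 y (hRK hy)]; exact hy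
    · rw [h1 y (hRK hy)]; exact conj_mem_of_mem_normalizer hnR hy
  · intro x hx y hy
    have h1 := hinv _ (mul_mem hx hy)
    have h2 : u * (x * y) * u⁻¹ = (u * x * u⁻¹) * (u * y * u⁻¹) := by group
    rw [h2, hinv x hx, hinv y hy, mul_inv_rev] at h1
    -- `x⁻¹ y⁻¹ = y⁻¹ x⁻¹`
    have h3 := congrArg (fun z => z⁻¹) h1
    simp only [mul_inv_rev, inv_inv] at h3
    exact h3.symm
  · intro s hs hsI hst x hx
    rw [hne s hs hsI hst x (hRK hx)]
    exact hinv x hx
  · intro y hy
    obtain ⟨m, hm, c, hc, hmc⟩ := Lib.CoprimeCommutator.exists_commutator_mul_fixed_of_isPGroup 2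
      (zpowers u) (Kc t) hu.isPGroup (by rwa [zpowers_le])
      (not_two_dvd (odd_Kc t)) y hy
    rw [centralizer_zpowers] at hc
    refine ⟨m, hm, c, hc.1, ?_, hmc⟩
    intro s hs
    have h1 : s * c * s⁻¹ = c := by
      rcases hact s hs with h1 | h1
      · exact h1 c hc.1
      · rw [h1 c hc.1, ← mem_centralizer_iff'.1 hc.2]; group
    calc c * s = (s * c * s⁻¹) * s := by rw [h1]
      _ = s * c := by group

end zhyp

end Cfsg.Agent.Classification.TypeZ.Bridge
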