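import Mathlib
import Cfsg.Agent.Classification.TypeZ.Special
import Cfsg.Agent.Classification.TypeZ.Comp
import Cfsg.Agent.Classification.GWSolvable.Rot
import Cfsg.Agent.S0508
import Cfsg.Agent.SmallSimple.PSLTwoPart

/-!
# Type Z of the Gorenstein–Walter theorem: the end

If every involution `u ≠ t` of a Sylow 2-subgroup `S` of `C(t)` inverts `K_t = O(C(t))` (possibly
`K_t = 1`), then `G ≅ PSL(2, q)` by the theorem of Brauer, Suzuki and Wall (S0508).
-/

set_option autoImplicit false

namespace Cfsg.Agent.Classification.TypeZ.EndII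

open Subgroup Cfsg
open Cfsg.Agent.Classification.TypeB.Basic Cfsg.Agent.Classification.TypeB.Core
open Cfsg.Agent.OddOrderLocal Cfsg.Agent.OddOrderLocal.PiCoreOf
open Cfsg.Agent.Classification.DihedralCentral Cfsg.Agent.Classification.TransferSign
open Cfsg.Agent.Classification.DihReduction Cfsg.Agent.Classification.DihStructure
open Cfsg.Agent.Classification.DihMinimal Cfsg.Agent.Classification.TypeZ.Bender
open Cfsg.Agent.TwoFusion.DihedralFusion

universe u

variable {G : Type u} [Group G] [Finite G] {t : G}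

/-- Every involution of `S` other than `t` inverts `K_t`. -/
structure InvHyp (t : G) (S : Sylow 2 G) : Prop where
  cent : (S : Subgroup G) ≤ centralizer ({t} : Set G)
  invert : ∀ u ∈ (S : Subgroup G), IsInv u → u ≠ t → ∀ x ∈ Kc t, u * x * u⁻¹ = x⁻¹

/-- A 2-subgroup with at most one involution is cyclic. -/
theorem isCyclic_of_unique (hG : SubDihedral G) (T : Subgroup G) (hT : IsPGroup 2 T)
    (h1 : ∀ u ∈ T, ∀ v ∈ T, IsInv u → IsInv v → u = v) : IsCyclic T := by
  rcases isCyclic_or_dihedral hG T hT with h | ⟨m, hm, ⟨e⟩⟩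
  · exact h
  · exfalso
    have key : ∀ i : ZMod m, IsInv ((e.symm (DihedralGroup.sr i) : T) : G) := by
      intro i
      refine ⟨?_, ?_⟩
      · rw [← Subgroup.coe_mul, ← map_mul, DihedralGroup.sr_mul_self, map_one, Subgroup.coe_one]
      · intro h
        have h2 : e.symm (DihedralGroup.sr i) = 1 := Subtype.ext h
        rw [← map_one e.symm] at h2
        have h3 := e.symm.injective h2
        rw [DihedralGroup.one_def] at h3
        cases h3
    have h2 := h1 _ (e.symm (DihedralGroup.sr 0)).2 _ (e.symm (DihedralGroup.sr 1)).2 (key 0)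
      (key 1)
    have h3 := e.symm.injective (Subtype.ext h2)
    have h4 : (0 : ZMod m) = 1 := by injection h3
    have : Fact (1 < m) := ⟨by omega⟩
    exact zero_ne_one h4

omit [Finite G] in
/-- A cyclic group has at most one involution. -/
theorem isCyclic_unique {R : Subgroup G} [Finite R] (hR : IsCyclic R) {v w : G} (hv : v ∈ R)
    (hw : w ∈ R) (hv' : IsInv v) (hw' : IsInv w) : v = w := by
  classical
  by_contra hne
  have : Fintype R := Fintype.ofFinite R
  have h1 := IsCyclic.card_pow_eq_one_le (α := R) (n := 2) (by norm_num)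
  have h2 : ({1, ⟨v, hv⟩, ⟨w, hw⟩} : Finset R) ⊆ Finset.univ.filter (fun a : R => a ^ 2 = 1) := by
    intro a ha
    rw [Finset.mem_filter]
    refine ⟨Finset.mem_univ _, ?_⟩
    rw [Finset.mem_insert, Finset.mem_insert, Finset.mem_singleton] at ha
    rcases ha with rfl | rfl | rfl
    · exact one_pow 2
    · rw [sq]; exact Subtype.ext hv'.1
    · rw [sq]; exact Subtype.ext hw'.1
  have h3 : ({1, ⟨v, hv⟩, ⟨w, hw⟩} : Finset R).card = 3 := by
    rw [Finset.card_eq_three]
    refine ⟨_, _, _, ?_, ?_, ?_, rfl⟩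
    · intro h; exact hv'.2 (congrArg Subtype.val h).symm
    · intro h; exact hw'.2 (congrArg Subtype.val h).symm
    · intro h; exact hne (congrArg Subtype.val h)
  have h4 := Finset.card_le_card h2
  omega

theorem mem_of_le_centralizer (h : ZHyp G t) {S : Sylow 2 G}
    (hS : (S : Subgroup G) ≤ centralizer ({t} : Set G)) : t ∈ (S : Subgroup G) := by
  have : Fact (Nat.Prime 2) := ⟨Nat.prime_two⟩
  have hn : zpowers t ≤ normalizer ((S : Subgroup G) : Set G) := by
    rw [zpowers_le]
    apply mem_normalizer_of_conj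
    intro x hx
    have h1 := mem_centralizer_singleton_iff.1 (hS hx)
    rw [← h1, mul_assoc, mul_inv_cancel, mul_one]
    exact hx
  have hp : IsPGroup 2 ((zpowers t ⊔ (S : Subgroup G) : Subgroup G)) :=
    h.inv.isPGroup.to_sup_of_normal_right' S.2 hn
  have h2 := S.3 hp le_sup_right
  rw [← h2]
  exact (le_sup_left : zpowers t ≤ zpowers t ⊔ (S : Subgroup G)) (mem_zpowers t)

/-- `S` contains an involution other than `t`. -/
theorem exists_inv (h : ZHyp G t) (S : Sylow 2 G) :
    ∃ u ∈ (S : Subgroup G), IsInv u ∧ u ≠ t := by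
  by_contra hcon
  push Not at hcon
  have hs := h.simple
  have hc : IsCyclic (S : Subgroup G) := by
    apply isCyclic_of_unique h.sub _ S.2
    intro u hu v hv hu' hv'
    rw [hcon u hu hu', hcon v hv hv']
  obtain ⟨N, hN, hodd, k, hk⟩ := exists_of_oddClosed (oddClosed_of_isCyclic S hc)
  rcases hN.eq_bot_or_eq_top with h1 | h1
  · rw [h1, Subgroup.index_bot] at hk
    have : Fact (Nat.Prime 2) := ⟨Nat.prime_two⟩
    have hp : IsPGroup 2 G := IsPGroup.of_card hk
    have hnil : Group.IsNilpotent G := hp.isNilpotent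
    have hsol : Group.IsSolvable G := inferInstance
    apply h.nonab
    refine ⟨⟨fun a b => ?_⟩⟩
    exact (IsSimpleGroup.comm_iff_isSolvable.2 hsol) a b
  · rw [h1] at hodd
    exact h.ne_top_of_odd hodd rfl

section

variable {S : Sylow 2 G} (h : ZHyp G t) (i : InvHyp t S)

include i in
/-- No involution other than `t` centralises a nontrivial element of `K_t`. -/
theorem eq_one_of_comm {v x : G} (hv : IsInv v) (hvt : v ≠ t) (hc : v * t = t * v)
    (hx : x ∈ Kc t) (hvx : v * x = x * v) : x = 1 := by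
  have : Fact (Nat.Prime 2) := ⟨Nat.prime_two⟩
  have hvC : zpowers v ≤ centralizer ({t} : Set G) := by
    rw [zpowers_le]
    exact mem_centralizer_singleton_iff.2 hc
  obtain ⟨c, hcC, hcV⟩ := exists_conj_mem S _ (zpowers v) i.cent hvC hv.isPGroup
  have h1 := hcV v (mem_zpowers v)
  have hct : c * t = t * c := mem_centralizer_singleton_iff.1 hcC
  have h2 : c * v * c⁻¹ ≠ t := by
    intro h2
    apply hvt
    have h3 : v = c⁻¹ * t * c := by rw [← h2]; group
    rw [h3, mul_assoc, ← hct]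
    group
  have h3 : c * x * c⁻¹ ∈ Kc t :=
    (mem_normalizer_iff.1 (normalizer_Kc_le t hcC) x).1 hx
  have h4 := i.invert _ h1 (hv.conj c) h2 _ h3
  have h5 : c * v * c⁻¹ * (c * x * c⁻¹) * (c * v * c⁻¹)⁻¹ = c * x * c⁻¹ := by
    calc c * v * c⁻¹ * (c * x * c⁻¹) * (c * v * c⁻¹)⁻¹ = c * (v * x) * v⁻¹ * c⁻¹ := by group
      _ = c * (x * v) * v⁻¹ * c⁻¹ := by rw [hvx]
      _ = _ := by group
  rw [h5] at h4
  have h6 : (c * x * c⁻¹) * (c * x * c⁻¹) = 1 := by
    nth_rewrite 1 [h4]
    rw [inv_mul_cancel]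
  have h7 := eq_one_of_sq (odd_Kc t) h3 h6
  have h8 : x = c⁻¹ * (c * x * c⁻¹) * c := by group
  rw [h8, h7]
  group

include h i

theorem comm_Kc {x y : G} (hx : x ∈ Kc t) (hy : y ∈ Kc t) : x * y = y * x := by
  obtain ⟨u, huS, hu, hut⟩ := exists_inv h S
  have h1 := i.invert u huS hu hut x hx
  have h2 := i.invert u huS hu hut y hy
  have h3 := i.invert u huS hu hut (x * y) (mul_mem hx hy)
  have h4 : x⁻¹ * y⁻¹ = (x * y)⁻¹ := by
    rw [← h1, ← h2, ← h3]; group
  have h5 : (y * x)⁻¹ = (x * y)⁻¹ := by rw [← h4]; group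
  exact (inv_injective h5).symm

/-- Elements of `S` centralise or invert `K_t`. -/
theorem cent_or_inv {s : G} (hs : s ∈ (S : Subgroup G)) :
    (∀ x ∈ Kc t, s * x * s⁻¹ = x) ∨ (∀ x ∈ Kc t, s * x * s⁻¹ = x⁻¹) := by
  have htS := mem_of_le_centralizer h i.cent
  have hinv : ∀ v ∈ (S : Subgroup G), v * v = 1 →
      (∀ x ∈ Kc t, v * x * v⁻¹ = x) ∨ (∀ x ∈ Kc t, v * x * v⁻¹ = x⁻¹) := by
    intro v hv hvv
    by_cases h1 : v = 1
    · left; intro x _; rw [h1]; group
    by_cases h2 : v = t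
    · left
      intro x hx
      rw [h2, ← mem_centralizer_singleton_iff.1 (Kc_le t hx)]
      group
    · exact Or.inr (i.invert v hv ⟨hvv, h1⟩ h2)
  obtain ⟨R, hR, hRT⟩ := h.sub (S : Subgroup G) S.2
  obtain ⟨u₀, hu₀S, hu₀, hu₀t⟩ := exists_inv h S
  have hu₀c : u₀ * t = t * u₀ := mem_centralizer_singleton_iff.1 (i.cent hu₀S)
  -- an involution `u ≠ t` of `S` outside `R`
  have huniq : ∀ v ∈ R, ∀ w ∈ R, IsInv v → IsInv w → v = w := by
    intro v hv w hw hv' hw'
    exact isCyclic_unique hR hv hw hv' hw'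
  obtain ⟨u, huS, hu, hut, huR⟩ : ∃ u ∈ (S : Subgroup G), IsInv u ∧ u ≠ t ∧ u ∉ R := by
    by_cases h1 : u₀ ∈ R
    · refine ⟨t * u₀, mul_mem htS hu₀S, h.inv.mul hu₀ hu₀c.symm hu₀t.symm, ?_, ?_⟩
      · intro h2
        exact hu₀.2 (mul_eq_left.1 h2)
      · intro h2
        have h3 := huniq _ h2 _ h1 (h.inv.mul hu₀ hu₀c.symm hu₀t.symm) hu₀
        exact h.inv.2 (mul_eq_right.1 h3)
    · exact ⟨u₀, hu₀S, hu₀, hu₀t, h1⟩
  by_cases hsR : s ∈ R
  · have h1 : u * s ∉ R := fun h1 => huR ((Subgroup.mul_mem_cancel_right R hsR).1 h1)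
    have h2 := (hRT (u * s) (mul_mem huS hs) h1).1
    have h3 := i.invert u huS hu hut
    rcases hinv _ (mul_mem huS hs) h2 with h4 | h4
    · right
      intro x hx
      have h5 : s * x * s⁻¹ = u⁻¹ * ((u * s) * x * (u * s)⁻¹) * u := by group
      rw [h5, h4 x hx, hu.inv_eq]
      have := h3 x hx
      rwa [hu.inv_eq] at this
    · left
      intro x hx
      have h5 : s * x * s⁻¹ = u⁻¹ * ((u * s) * x * (u * s)⁻¹) * u := by group
      rw [h5, h4 x hx, hu.inv_eq]
      have := h3 x⁻¹ (inv_mem hx)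
      rwa [hu.inv_eq, inv_inv] at this
  · exact hinv s hs (hRT s hs hsR).1

theorem Kc_le_fitting : Kc t ≤ fittingOf (centralizer ({t} : Set G)) := by
  refine FitAux.le_fittingOf (Kc_le t) (normalizer_Kc_le t) ?_
  let _ : CommGroup (Kc t) :=
    { (inferInstance : Group (Kc t)) with
      mul_comm := fun a b => Subtype.ext (comm_Kc h i a.2 b.2) }
  exact CommGroup.isNilpotent

/-- `t` centralises the `O_q(C(x))`, `q` odd, for `1 ≠ x ∈ K_t`. -/
theorem core_le {x : G} (hx : x ∈ Kc t) {q : ℕ} (hq : q.Prime) (h2 : q ≠ 2) :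
    piCoreOf {q} (centralizer ({x} : Set G)) ≤ centralizer ({t} : Set G) := by
  have hxF := Kc_le_fitting h i hx
  by_cases hqF : q ∣ Nat.card (fittingOf (centralizer ({t} : Set G)))
  · exact h.core_le hxF hq h2 hqF
  · have h1 := h.core_inf hxF hq hqF
    set Q := piCoreOf {q} (centralizer ({x} : Set G)) with hQ
    obtain ⟨u, huS, hu, hut⟩ := exists_inv h S
    have huc : t * u = u * t := (mem_centralizer_singleton_iff.1 (i.cent huS)).symm
    have hux := i.invert u huS hu hut x hx
    have hxt : x * t = t * x := mem_centralizer_singleton_iff.1 (Kc_le t hx)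
    have hodd : Odd (Nat.card Q) := odd_of_isPGroup hq h2 (FitCores.isPGroup_piCoreOf hq _)
    have hn : centralizer ({x} : Set G) ≤ normalizer (Q : Set G) := le_normalizer_piCoreOf _ _
    have htn : t ∈ normalizer (Q : Set G) := hn (mem_centralizer_singleton_iff.2 hxt.symm)
    have hun : u ∈ normalizer (Q : Set G) := by
      have h3 : u ∈ normalizer ((centralizer ({x} : Set G) : Subgroup G) : Set G) := by
        apply mem_normalizer_of_conj
        intro y hy
        rw [mem_centralizer_singleton_iff] at hy ⊢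
        have h4 : y * x⁻¹ = x⁻¹ * y := (show Commute y x from hy).inv_right
        have h5 : x = u * x⁻¹ * u⁻¹ := by
          have := i.invert u huS hu hut x⁻¹ (inv_mem hx)
          rw [this, inv_inv]
        rw [h5]
        calc u * y * u⁻¹ * (u * x⁻¹ * u⁻¹) = u * (y * x⁻¹) * u⁻¹ := by group
          _ = u * (x⁻¹ * y) * u⁻¹ := by rw [h4]
          _ = _ := by group
      exact normalizer_le_normalizer_piCoreOf _ _ h3
    have hqK : ¬ q ∣ Nat.card (Kc t) := fun hd =>
      hqF (hd.trans (Subgroup.card_dvd_of_le (Kc_le_fitting h i)))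
    have step : ∀ v : G, IsInv v → Q ⊓ centralizer ({v} : Set G) ≤ ⊥ := by
      intro v hv
      have h3 : Q ⊓ centralizer ({v} : Set G) ≤ Kc v :=
        le_Kc h.sub hv (odd_of_le inf_le_left hodd) inf_le_right
      have h4 : Nat.card (Kc v) = Nat.card (Kc t) := card_Kc_eq h.sub h.inv (h.one t v h.inv hv)
      have h5 : IsPGroup q (Q ⊓ centralizer ({v} : Set G) : Subgroup G) :=
        (FitCores.isPGroup_piCoreOf hq _).to_le inf_le_left
      by_contra hne
      apply hqK
      rw [← h4]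
      exact (FitCores.dvd_card_of_ne_bot hq h5 (fun h6 => hne h6.le) le_rfl).trans
        (Subgroup.card_dvd_of_le h3)
    have h5 : Q ≤ ⊥ := le_of_four hodd h.inv hu huc htn hun (step t h.inv) (step u hu)
      (step _ (h.inv.mul hu huc hut.symm))
    exact h5.trans bot_le

/-- `C(x) ≤ C(t)` for `1 ≠ x ∈ K_t`. -/
theorem centralizer_le {x : G} (hx : x ∈ Kc t) (hx1 : x ≠ 1) :
    centralizer ({x} : Set G) ≤ centralizer ({t} : Set G) := by
  have : Fact (Nat.Prime 2) := ⟨Nat.prime_two⟩
  set B := centralizer ({x} : Set G) with hB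
  have hxt : x * t = t * x := mem_centralizer_singleton_iff.1 (Kc_le t hx)
  have htB : t ∈ B := mem_centralizer_singleton_iff.2 hxt.symm
  -- `t` centralises `O(B)`
  set O := oc B with hO
  have hodd : Odd (Nat.card O) := odd_oc _
  have hsol : Group.IsSolvable O := h.ft O hodd
  have htO : zpowers t ≤ normalizer (O : Set G) := by
    rw [zpowers_le]
    exact le_normalizer_oc _ htB
  have hOt : O ≤ centralizer ({t} : Set G) := by
    rw [← zpowers_le_centralizer_iff]
    apply FitCores.le_centralizer_of_centralizes_fitting htO hsol (coprime_of_odd hodd h.inv)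
    rw [zpowers_le_centralizer_iff, FitCores.fittingOf_le_iff]
    intro q hq
    by_cases h2 : q = 2
    · subst h2
      have h3 : piCoreOf {2} O = ⊥ := by
        by_contra hne
        obtain ⟨y, hy, hy2⟩ := FitCores.exists_mem_orderOf Nat.prime_two
          (FitCores.dvd_card_of_ne_bot Nat.prime_two (FitCores.isPGroup_piCoreOf Nat.prime_two O)
            hne (piCoreOf_le _ _))
        have h4 := odd_orderOf_of_mem hodd hy
        rw [hy2] at h4
        exact absurd h4 (by decide)
      rw [h3]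
      exact bot_le
    · refine le_trans ?_ (core_le h i hx hq h2)
      exact FitCores.le_core_of_isPGroup hq ((piCoreOf_le _ _).trans (oc_le _))
        ((le_normalizer_oc _).trans (normalizer_le_normalizer_piCoreOf _ _))
        (FitCores.isPGroup_piCoreOf hq _)
  -- the Sylow 2-subgroups of `B` are cyclic
  have htP : IsPGroup 2 (zpowers (⟨t, htB⟩ : B)) :=
    IsInv.isPGroup (w := (⟨t, htB⟩ : B))
      ⟨Subtype.ext h.inv.1, fun hh => h.inv.2 (congrArg Subtype.val hh)⟩
  obtain ⟨Q, hQ⟩ := htP.exists_le_sylow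
  have htQ : (⟨t, htB⟩ : B) ∈ (Q : Subgroup B) := hQ (mem_zpowers _)
  have key : ∀ v : B, IsInv v → v * ⟨t, htB⟩ = ⟨t, htB⟩ * v → v = ⟨t, htB⟩ := by
    intro v hv hvt
    by_contra hne
    apply hx1
    have hvG : IsInv (v : G) := ⟨congrArg Subtype.val hv.1, fun hh => hv.2 (Subtype.ext hh)⟩
    exact eq_one_of_comm i hvG (fun hh => hne (Subtype.ext hh)) (congrArg Subtype.val hvt) hx
      (mem_centralizer_singleton_iff.1 v.2)
  have htZ : ∀ v ∈ (Q : Subgroup B), v * ⟨t, htB⟩ = ⟨t, htB⟩ * v := by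
    have hnt : Nontrivial (Q : Subgroup B) := by
      refine ⟨⟨⟨_, htQ⟩, 1, fun hh => h.inv.2 ?_⟩⟩
      exact congrArg (fun y : (Q : Subgroup B) => ((y : B) : G)) hh
    have hc : Nontrivial (Subgroup.center (Q : Subgroup B)) := Q.2.center_nontrivial
    obtain ⟨z, hz⟩ : ∃ z : Subgroup.center (Q : Subgroup B), IsInv z := by
      have h2 : 2 ∣ Nat.card (Subgroup.center (Q : Subgroup B)) := by
        have h3 : IsPGroup 2 (Subgroup.center (Q : Subgroup B)) := Q.2.to_subgroup _
        obtain ⟨n, hn, hcn⟩ := h3.nontrivial_iff_card.1 hc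
        rw [hcn]
        exact dvd_pow_self 2 hn.ne'
      obtain ⟨z, hz⟩ := exists_prime_orderOf_dvd_card' 2 h2
      obtain ⟨h4, h5⟩ := (orderOf_two_iff z).1 hz
      exact ⟨z, ⟨h4, h5⟩⟩
    have hzi : IsInv ((z : (Q : Subgroup B)) : B) := by
      refine ⟨?_, ?_⟩
      · have := congrArg (fun y : Subgroup.center (Q : Subgroup B) => ((y : (Q : Subgroup B)) : B))
          hz.1
        simpa using this
      · intro hh
        apply hz.2
        apply Subtype.ext
        apply Subtype.ext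
        exact hh
    have hzc : ∀ v ∈ (Q : Subgroup B), v * ((z : (Q : Subgroup B)) : B) =
        ((z : (Q : Subgroup B)) : B) * v := by
      intro v hv
      have h1 := Subgroup.mem_center_iff.1 (z : Subgroup.center (Q : Subgroup B)).2 ⟨v, hv⟩
      exact congrArg Subtype.val h1
    have h6 := key _ hzi (hzc _ htQ).symm
    intro v hv
    rw [← h6]
    exact hzc v hv
  have hcyc : IsCyclic (Q : Subgroup B) := by
    have hsub : SubDihedral B := subDihedral_of_injective B.subtype (subtype_injective _) h.sub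
    apply isCyclic_of_unique hsub _ Q.2
    intro a ha b hb ha' hb'
    rw [key a ha' (htZ a ha), key b hb' (htZ b hb)]
  -- `B / O(B)` is an abelian 2-group
  intro b hb
  rw [mem_centralizer_singleton_iff]
  obtain ⟨N, hN, hNodd, k, hk⟩ := exists_of_oddClosed (oddClosed_of_isCyclic Q hcyc)
  have hNO : ∀ n : B, n ∈ N → (n : G) ∈ O := by
    have h1 : N.map B.subtype ≤ O := by
      apply le_oc (map_subtype_le _)
      · intro g hg
        apply mem_normalizer_of_conj
        rintro _ ⟨n, hn, rfl⟩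
        exact ⟨⟨g, hg⟩ * n * ⟨g, hg⟩⁻¹, hN.conj_mem n hn _, rfl⟩
      · rw [card_map_of_injective (subtype_injective _)]
        exact hNodd
    intro n hn
    exact h1 ⟨n, hn, rfl⟩
  -- `B = N Q`
  have hsup : ∀ b : B, ∃ n ∈ N, ∃ y ∈ (Q : Subgroup B), b = n * y := by
    have h1 : N ⊔ (Q : Subgroup B) = ⊤ := by
      have hco : (Nat.card N).Coprime (Nat.card (Q : Subgroup B)) := by
        obtain ⟨m, hm⟩ := IsPGroup.iff_card.1 Q.2
        rw [hm]
        exact Nat.Coprime.pow_right _ (Nat.coprime_two_right.2 hNodd)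
      have hcard : Nat.card N * Nat.card (Q : Subgroup B) = Nat.card B := by
        have h2 : Nat.card N * N.index = Nat.card B := N.card_mul_index
        have h3 : Nat.card (Q : Subgroup B) = 2 ^ (Nat.card B).factorization 2 := Q.card_eq_multiplicity
        have h4 : (Nat.card B).factorization 2 = k := by
          rw [← h2, hk, Nat.factorization_mul Nat.card_pos.ne' (by positivity)]
          rw [Finsupp.add_apply, Nat.factorization_eq_zero_of_not_dvd
            (fun hd => (Nat.not_even_iff_odd.2 hNodd) (even_iff_two_dvd.2 hd)), zero_add,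
            Nat.prime_two.factorization_pow, Finsupp.single_eq_same]
        rw [h3, h4, ← hk, h2]
      have h5 := Subgroup.isComplement'_of_coprime hcard hco
      exact h5.sup_eq_top
    intro b
    have h2 : b ∈ N ⊔ (Q : Subgroup B) := h1 ▸ mem_top b
    obtain ⟨n, hn, y, hy, hny⟩ := Subgroup.mem_sup_of_normal_left.1 h2
    exact ⟨n, hn, y, hy, hny.symm⟩
  obtain ⟨n, hn, y, hy, hny⟩ := hsup ⟨b, hb⟩
  have h1 : b = (n : G) * (y : G) := congrArg Subtype.val hny
  have h2 : (n : G) * t = t * n := mem_centralizer_singleton_iff.1 (hOt (hNO n hn))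
  have h3 : (y : G) * t = t * y := congrArg Subtype.val (htZ y hy)
  rw [h1, mul_assoc, h3, ← mul_assoc, h2, mul_assoc]

/-- `N(Y) ≤ C(t)` for `1 ≠ Y ≤ K_t`. -/
theorem normalizer_le {Y : Subgroup G} (hY : Y ≤ Kc t) (hY1 : Y ≠ ⊥) :
    normalizer (Y : Set G) ≤ centralizer ({t} : Set G) := by
  obtain ⟨⟨x, hxY⟩, hx1⟩ := Subgroup.ne_bot_iff_exists_ne_one.1 hY1
  have hx1' : x ≠ 1 := fun hh => hx1 (Subtype.ext hh)
  intro g hg
  rw [mem_centralizer_singleton_iff]
  by_contra hne
  apply hx1'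
  -- `v = g t g⁻¹` centralises `Y`
  have hv : ∀ y ∈ Y, (g * t * g⁻¹) * y = y * (g * t * g⁻¹) := by
    intro y hy
    have h1 : g⁻¹ * y * g ∈ Y := by
      have := (mem_normalizer_iff.1 (inv_mem hg) y).1 hy
      rwa [inv_inv] at this
    have h2 : (g⁻¹ * y * g) * t = t * (g⁻¹ * y * g) :=
      mem_centralizer_singleton_iff.1 (Kc_le t (hY h1))
    calc (g * t * g⁻¹) * y = g * (t * (g⁻¹ * y * g)) * g⁻¹ := by group
      _ = g * ((g⁻¹ * y * g) * t) * g⁻¹ := by rw [h2]
      _ = _ := by group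
  have hvt : (g * t * g⁻¹) * t = t * (g * t * g⁻¹) := by
    have h1 : g * t * g⁻¹ ∈ centralizer ({x} : Set G) :=
      mem_centralizer_singleton_iff.2 (hv x hxY)
    exact mem_centralizer_singleton_iff.1 (centralizer_le h i (hY hxY) hx1' h1)
  refine eq_one_of_comm i (h.inv.conj g) ?_ hvt (hY hxY) (hv x hxY)
  intro h1
  exact hne (mul_inv_eq_iff_eq_mul.1 h1)

theorem relIndex_eq (hK : Kc t ≠ ⊥) :
    ((S : Subgroup G) ⊓ centralizer (Kc t : Set G)).relIndex (S : Subgroup G) = 2 := by
  obtain ⟨u, huS, hu, hut⟩ := exists_inv h S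
  obtain ⟨⟨x, hxK⟩, hx1⟩ := Subgroup.ne_bot_iff_exists_ne_one.1 hK
  have hx1' : x ≠ 1 := fun hh => hx1 (Subtype.ext hh)
  have hcen : ∀ s, s ∈ centralizer (Kc t : Set G) ↔ ∀ y ∈ Kc t, s * y * s⁻¹ = y := by
    intro s
    rw [mem_centralizer_iff]
    constructor
    · intro hs y hy
      rw [← hs y hy, mul_assoc, mul_inv_cancel, mul_one]
    · intro hs y hy
      exact (mul_inv_eq_iff_eq_mul.1 (hs y hy)).symm
  have hnot : ∀ s, (∀ y ∈ Kc t, s * y * s⁻¹ = y⁻¹) → s ∉ centralizer (Kc t : Set G) := by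
    intro s hs hc
    apply hx1'
    have h1 := (hcen s).1 hc x hxK
    rw [hs x hxK] at h1
    apply eq_one_of_sq (odd_Kc t) hxK
    nth_rewrite 1 [← h1]
    rw [inv_mul_cancel]
  have hui := i.invert u huS hu hut
  rw [Subgroup.relIndex_eq_two_iff]
  refine ⟨u, huS, fun b hb => ?_⟩
  have h1 : ∀ y ∈ Kc t, (b * u) * y * (b * u)⁻¹ = (b * y * b⁻¹)⁻¹ := by
    intro y hy
    calc (b * u) * y * (b * u)⁻¹ = b * (u * y * u⁻¹) * b⁻¹ := by group
      _ = b * y⁻¹ * b⁻¹ := by rw [hui y hy]
      _ = _ := by group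
  rcases cent_or_inv h i hb with h2 | h2
  · right
    refine ⟨⟨hb, (hcen b).2 h2⟩, ?_⟩
    rintro ⟨-, h3⟩
    refine hnot (b * u) ?_ h3
    intro y hy
    rw [h1 y hy, h2 y hy]
  · left
    refine ⟨⟨mul_mem hb huS, (hcen _).2 ?_⟩, ?_⟩
    · intro y hy
      rw [h1 y hy, h2 y hy, inv_inv]
    · rintro ⟨-, h3⟩
      exact hnot b h2 h3

theorem isCyclic_inf (hK : Kc t ≠ ⊥) :
    IsCyclic ((S : Subgroup G) ⊓ centralizer (Kc t : Set G) : Subgroup G) := by
  obtain ⟨⟨x, hxK⟩, hx1⟩ := Subgroup.ne_bot_iff_exists_ne_one.1 hK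
  have hx1' : x ≠ 1 := fun hh => hx1 (Subtype.ext hh)
  have key : ∀ v ∈ (S : Subgroup G) ⊓ centralizer (Kc t : Set G), IsInv v → v = t := by
    rintro v ⟨hvS, hvC⟩ hv
    by_contra hne
    apply hx1'
    refine eq_one_of_comm i hv hne (mem_centralizer_singleton_iff.1 (i.cent hvS)) hxK ?_
    exact (mem_centralizer_iff.1 hvC x hxK).symm
  apply isCyclic_of_unique h.sub _ (S.2.to_le inf_le_left)
  intro a ha b hb ha' hb'
  rw [key a ha ha', key b hb hb']

/-- **The end of type Z**: if every involution `u ≠ t` of `S` inverts `K_t` then `G ≅ PSL(2, q)`. -/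
theorem gwConcl : GWConcl G := by
  have := h.simple
  have : Fact (Nat.Prime 2) := ⟨Nat.prime_two⟩
  obtain ⟨u, huS, hu, hut⟩ := exists_inv h S
  have htS := mem_of_le_centralizer h i.cent
  obtain ⟨n, hn, hSn⟩ : ∃ n : ℕ, 2 ≤ n ∧ Nonempty ((S : Subgroup G) ≃* DihedralGroup n) := by
    rcases isCyclic_or_dihedral h.sub (S : Subgroup G) S.2 with hc | hd
    · exact absurd (isCyclic_unique hc huS htS hu h.inv) hut
    · exact hd
  obtain ⟨F, hF1, hF2, hodd, hF3⟩ := Cfsg.Agent.S0508.result S n hn hSn t h.inv.orderOf_eq htS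
    (fun s hs => mem_centralizer_singleton_iff.1 (i.cent hs)) (Kc t)
    (by rw [kc_def, Comp.oc_eq_map])
    (fun hK => ⟨isCyclic_inf h i hK, relIndex_eq h i hK⟩)
    (by
      intro s hs hsC
      rcases cent_or_inv h i hs with h2 | h2
      · exfalso
        apply hsC
        rw [mem_centralizer_iff]
        intro y hy
        exact (mul_inv_eq_iff_eq_mul.1 (h2 y hy)).symm
      · exact h2)
    (fun Y hY hY1 => normalizer_le h i hY hY1)
  refine Or.inl ⟨F, hF1, hF2, hodd, ?_, hF3⟩
  by_contra hlt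
  obtain ⟨e⟩ := hF3
  have h1 : 1 < Fintype.card F := Fintype.one_lt_card
  have h3 : Fintype.card F = 3 := by
    obtain ⟨k, hk⟩ := hodd
    omega
  have hG : Nat.card G = 12 := by
    have h4 := Cfsg.Agent.SmallSimple.PSLTwoPart.card_psl_two_odd (F := F) hodd
    rw [h3, ← Nat.card_congr e.toEquiv] at h4
    omega
  have hS4 : Nat.card (S : Subgroup G) = 4 := by
    have h4 : Nat.card (S : Subgroup G) = 2 ^ (Nat.card G).factorization 2 := S.card_eq_multiplicity
    have h5 : (Nat.card G).factorization 2 = 2 := by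
      rw [hG, show (12 : ℕ) = 2 ^ 2 * 3 by norm_num, Nat.factorization_mul (by norm_num)
        (by norm_num), Finsupp.add_apply, Nat.prime_two.factorization_pow, Finsupp.single_eq_same,
        Nat.factorization_eq_zero_of_not_dvd (by norm_num : ¬ 2 ∣ 3)]
    rw [h4, h5]
    norm_num
  have hcent : ∀ v : G, IsInv v → (S : Subgroup G) ≤ centralizer ({v} : Set G) →
      (S : Subgroup G) = centralizer ({v} : Set G) := by
    intro v hv hSv
    have hne := (h.of_inv hv).ne_top
    apply Subgroup.eq_of_le_of_card_ge hSv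
    have h4 : Nat.card (S : Subgroup G) ∣ Nat.card (centralizer ({v} : Set G)) :=
      Subgroup.card_dvd_of_le hSv
    have h5 : Nat.card (centralizer ({v} : Set G)) ∣ Nat.card G := Subgroup.card_subgroup_dvd_card _
    have h6 : Nat.card (centralizer ({v} : Set G)) ≠ 12 := by
      intro h6
      apply hne
      apply Subgroup.eq_top_of_card_eq
      rw [h6, hG]
    rw [hS4] at h4 ⊢
    rw [hG] at h5
    obtain ⟨a, ha⟩ := h4
    obtain ⟨b, hb⟩ := h5
    rw [ha] at hb h6 ⊢
    have h7 : a * b = 3 := by nlinarith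
    have h8 : a ∣ 3 := ⟨b, h7.symm⟩
    rcases (Nat.dvd_prime Nat.prime_three).1 h8 with h9 | h9
    · rw [h9]
    · rw [h9] at h6
      exact absurd rfl h6
  have hab : ∀ x ∈ (S : Subgroup G), ∀ y ∈ (S : Subgroup G), x * y = y * x := by
    intro x hx y hy
    have h4 : Nat.card (S : Subgroup G) = 2 ^ 2 := hS4
    let _ : CommGroup (S : Subgroup G) := IsPGroup.commGroupOfCardEqPrimeSq h4
    have h5 : (⟨x, hx⟩ : (S : Subgroup G)) * ⟨y, hy⟩ = ⟨y, hy⟩ * ⟨x, hx⟩ := mul_comm _ _
    exact congrArg Subtype.val h5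
  have h4 := hcent t h.inv i.cent
  have h5 := hcent u hu (fun y hy => mem_centralizer_singleton_iff.2 (hab y hy u huS))
  exact hut (h.eq_of_centralizer_le hu (by rw [← h5, h4]))

end

/-- The end of type Z from the configuration (L1*): `C_{K_t}(S) = 1`. -/
theorem gwConcl_of_lconf (h : ZHyp G t) {S F₀ : Subgroup G} (c : LConf t S F₀)
    (hC : ∀ y ∈ Kc t, (∀ s ∈ S, y * s = s * y) → y = 1) : GWConcl G := by
  obtain ⟨P, hP⟩ := c.sylow
  refine gwConcl (S := P) h ⟨hP ▸ c.cent, ?_⟩
  intro u hu hui hut x hx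
  obtain ⟨a, ha, y, hy, hyS, rfl⟩ := c.gen x hx
  rw [hC y hy hyS, mul_one]
  exact c.invert u (hP ▸ hu) hui hut a ha

end Cfsg.Agent.Classification.TypeZ.EndII
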