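import Mathlib
import Cfsg.Agent.Classification.TypeZ.Bender
import Cfsg.Agent.Classification.DihTypeACount3
import Cfsg.Agent.Classification.BGMain

/-!
# Type Z of the Gorenstein–Walter theorem: counting

* `index_modEq_one`: `R ≤ H` a Sylow `r`-subgroup of `G`, `N_G(R) ≤ H` ⟹ `|G : H| ≡ 1 (mod r)`;
* `index_mul_relIndex`: `|G : M| |L : C_L(t)| = |G : H| |H : H ∩ M|`, `H = C(t)`;
* `card_inf_eq`: `|X| = |X ⊓ L| |C_X(u)|` for an odd group `X` normalised by the involution `u ∈ L`,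
  `L` normalised by `X`, `C_{X ⊓ L}(u) = 1`.
-/

set_option autoImplicit false

namespace Cfsg.Agent.Classification.TypeZ.Count

open Subgroup Cfsg
open Cfsg.Agent.Classification.TypeB.Basic Cfsg.Agent.Classification.TypeB.Core

section general

variable {G : Type*} [Group G] [Finite G]

theorem index_modEq_one {r : ℕ} [Fact r.Prime] {H R : Subgroup G} (hRH : R ≤ H)
    (hR : IsPGroup r R) (hidx : ¬ r ∣ R.index) (hN : normalizer (R : Set G) ≤ H) :
    H.index ≡ 1 [MOD r] := by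
  have h1 : Nat.card (Sylow r G) = (normalizer (R : Set G)).index := by
    have h : Nat.card (Sylow r G) =
        (normalizer (((hR.toSylow hidx : Sylow r G) : Subgroup G) : Set G)).index :=
      (hR.toSylow hidx).card_eq_index_normalizer
    rwa [IsPGroup.toSylow_coe hR hidx] at h
  have hRH' : IsPGroup r (R.subgroupOf H) :=
    hR.of_equiv (subgroupOfEquivOfLe hRH).symm
  have hidx' : ¬ r ∣ (R.subgroupOf H).index := by
    intro hd
    apply hidx
    have h2 : (R.subgroupOf H).index = R.relIndex H := rfl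
    rw [h2] at hd
    exact hd.trans (Dvd.intro _ (relIndex_mul_index hRH))
  have h2 : Nat.card (Sylow r H) = (normalizer (R : Set G)).relIndex H := by
    have h : Nat.card (Sylow r H) =
        (normalizer (((hRH'.toSylow hidx' : Sylow r H) : Subgroup H) : Set H)).index :=
      (hRH'.toSylow hidx').card_eq_index_normalizer
    rw [IsPGroup.toSylow_coe hRH' hidx', ← subgroupOf_normalizer_eq hRH] at h
    exact h
  have h3 := card_sylow_modEq_one r G
  have h4 := card_sylow_modEq_one r H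
  rw [h1, ← relIndex_mul_index hN, ← h2] at h3
  have h5 : 1 * H.index ≡ Nat.card (Sylow r H) * H.index [MOD r] := (h4.mul_right _).symm
  rw [one_mul] at h5
  exact h5.trans h3

omit [Finite G] in
/-- `|X ⊓ Y| |X : X ⊓ Y| = |X|` -/
theorem card_inf_mul_relIndex (X Y : Subgroup G) :
    Nat.card (X ⊓ Y : Subgroup G) * Y.relIndex X = Nat.card X := by
  rw [← inf_relIndex_left X Y, mul_comm]
  have h1 := ((X ⊓ Y).subgroupOf X).card_mul_index
  rw [Nat.card_congr (subgroupOfEquivOfLe (inf_le_left : X ⊓ Y ≤ X)).toEquiv] at h1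
  rw [mul_comm]
  exact h1

omit [Finite G] in
/-- If `B ⊆ A C` with `A ≤ B` then `|B : B ⊓ C| = |A : A ⊓ C|`. -/
theorem relIndex_eq_of_forall {A B C : Subgroup G} (hAB : A ≤ B)
    (h : ∀ b ∈ B, ∃ a ∈ A, a⁻¹ * b ∈ C) : C.relIndex B = C.relIndex A := by
  symm
  refine Nat.card_congr (Equiv.ofBijective
    (Quotient.map' (s₁ := QuotientGroup.leftRel (C.subgroupOf A))
      (s₂ := QuotientGroup.leftRel (C.subgroupOf B))
      (Subgroup.inclusion hAB) ?_) ⟨?_, ?_⟩)
  · intro a b hab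
    rw [QuotientGroup.leftRel_apply] at hab ⊢
    exact hab
  · intro a b
    induction a using Quotient.inductionOn' with | _ a => ?_
    induction b using Quotient.inductionOn' with | _ b => ?_
    intro hab
    rw [Quotient.map'_mk'', Quotient.map'_mk''] at hab
    have h := Quotient.exact' hab
    rw [QuotientGroup.leftRel_apply] at h
    apply Quotient.sound'
    rw [QuotientGroup.leftRel_apply]
    exact h
  · intro b
    induction b using Quotient.inductionOn' with | _ b => ?_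
    obtain ⟨l, hl, he⟩ := h b b.2
    refine ⟨Quotient.mk'' ⟨l, hl⟩, ?_⟩
    rw [Quotient.map'_mk'']
    apply Quotient.sound'
    rw [QuotientGroup.leftRel_apply, mem_subgroupOf]
    exact he

omit [Finite G] in
/-- If all `M`-conjugates of `t` are `L`-conjugates, `L ≤ M`, then `|M : C_M(t)| = |L : C_L(t)|`. -/
theorem relIndex_centralizer_eq {L M : Subgroup G} (hLM : L ≤ M) (t : G)
    (hconj : ∀ m ∈ M, ∃ l ∈ L, l * t * l⁻¹ = m * t * m⁻¹) :
    (centralizer ({t} : Set G)).relIndex M = (centralizer ({t} : Set G)).relIndex L := by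
  refine relIndex_eq_of_forall hLM fun b hb => ?_
  obtain ⟨l, hl, he⟩ := hconj b hb
  refine ⟨l, hl, ?_⟩
  rw [mem_centralizer_singleton_iff]
  calc l⁻¹ * b * t = l⁻¹ * (b * t * b⁻¹) * b := by group
    _ = l⁻¹ * (l * t * l⁻¹) * b := by rw [he]
    _ = _ := by group

omit [Finite G] in
/-- `H = K S`, `S ≤ M` ⟹ `|H : H ⊓ M| = |K : K ⊓ M|`. -/
theorem relIndex_eq_of_sup {H K S M : Subgroup G} (hKH : K ≤ H) (hn : H ≤ normalizer (K : Set G))
    (hH : H ≤ K ⊔ S) (hS : S ≤ H) (hSM : S ≤ M) : M.relIndex H = M.relIndex K := by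
  refine relIndex_eq_of_forall hKH fun b hb => ?_
  have h1 : b ∈ K ⊔ S := hH hb
  rw [← SetLike.mem_coe, coe_mul_of_right_le_normalizer_left K S (hS.trans hn)] at h1
  obtain ⟨k, hk, s, hs, rfl⟩ := h1
  exact ⟨k, hk, hSM (by simpa using hs)⟩

omit [Finite G] in
theorem index_mul_relIndex {L M : Subgroup G} (hLM : L ≤ M) (t : G)
    (hconj : ∀ m ∈ M, ∃ l ∈ L, l * t * l⁻¹ = m * t * m⁻¹) :
    M.index * (centralizer ({t} : Set G)).relIndex L =
      (centralizer ({t} : Set G)).index * M.relIndex (centralizer ({t} : Set G)) := by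
  rw [← relIndex_centralizer_eq hLM t hconj]
  have h1 : (centralizer ({t} : Set G) ⊓ M).index =
      (centralizer ({t} : Set G)).relIndex M * M.index := by
    rw [← relIndex_mul_index (inf_le_right : centralizer ({t} : Set G) ⊓ M ≤ M),
      inf_relIndex_right]
  have h2 : (centralizer ({t} : Set G) ⊓ M).index =
      M.relIndex (centralizer ({t} : Set G)) * (centralizer ({t} : Set G)).index := by
    rw [← relIndex_mul_index
      (inf_le_left : centralizer ({t} : Set G) ⊓ M ≤ centralizer ({t} : Set G)),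
      inf_relIndex_left]
  rw [mul_comm, ← h1, h2, mul_comm]

/-- `|X| = |X ⊓ L| |C_X(u)|`. -/
theorem card_inf_eq {X L : Subgroup G} (hX : Odd (Nat.card X)) {u : G} (hu : IsInv u)
    (huX : u ∈ normalizer (X : Set G)) (huL : u ∈ L) (hXL : X ≤ normalizer (L : Set G))
    (hb : X ⊓ L ⊓ centralizer ({u} : Set G) = ⊥) :
    Nat.card X = Nat.card (X ⊓ L : Subgroup G) *
      Nat.card (X ⊓ centralizer ({u} : Set G) : Subgroup G) := by
  have hle : ⁅X, zpowers u⁆ ≤ X ⊓ L := by
    refine le_inf (comm_le huX) (commutator_le.2 fun x hx w hw => ?_)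
    have hwL : w ∈ L := (zpowers_le.2 huL) hw
    rw [commutatorElement_def]
    exact L.mul_mem (conj_mem_of_mem_normalizer (hXL hx) hwL) (inv_mem hwL)
  rw [← Nat.card_prod]
  symm
  refine Nat.card_congr (Equiv.ofBijective
    (fun p : (X ⊓ L : Subgroup G) × (X ⊓ centralizer ({u} : Set G) : Subgroup G) =>
      (⟨(p.1 : G) * (p.2 : G), X.mul_mem p.1.2.1 p.2.2.1⟩ : X)) ⟨?_, ?_⟩)
  · rintro ⟨⟨a, ha⟩, ⟨b, hb'⟩⟩ ⟨⟨c, hc⟩, ⟨d, hd⟩⟩ h
    have h1 : a * b = c * d := congrArg Subtype.val h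
    have h2 : c⁻¹ * a = d * b⁻¹ := by
      calc c⁻¹ * a = c⁻¹ * (a * b) * b⁻¹ := by group
        _ = c⁻¹ * (c * d) * b⁻¹ := by rw [h1]
        _ = d * b⁻¹ := by group
    have h3 : c⁻¹ * a ∈ X ⊓ L ⊓ centralizer ({u} : Set G) := by
      refine ⟨(X ⊓ L).mul_mem ((X ⊓ L).inv_mem hc) ha, ?_⟩
      rw [h2]
      exact ((X ⊓ centralizer ({u} : Set G)).mul_mem hd
        ((X ⊓ centralizer ({u} : Set G)).inv_mem hb')).2
    rw [hb, mem_bot] at h3
    have h4 : a = c := (inv_mul_eq_one.1 h3).symm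
    subst h4
    have h5 : b = d := mul_left_cancel h1
    subst h5
    rfl
  · rintro ⟨x, hx⟩
    obtain ⟨m, hm, c, hc, rfl⟩ := Lib.CoprimeCommutator.exists_commutator_mul_fixed_of_isPGroup 2
      (zpowers u) X hu.isPGroup (by rwa [zpowers_le]) (not_two_dvd hX) x hx
    rw [centralizer_zpowers] at hc
    exact ⟨⟨⟨m, hle hm⟩, ⟨c, hc⟩⟩, rfl⟩

/-- `k = |K : C_K(u)|`, `T = K ⊓ L`: `|K : K ⊓ M| |T| = k`. -/
theorem relIndex_mul_card {K L M : Subgroup G} (hK : Odd (Nat.card K)) {u : G} (hu : IsInv u)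
    (huK : u ∈ normalizer (K : Set G)) (huL : u ∈ L) (hLM : L ≤ M)
    (hML : M ≤ normalizer (L : Set G)) (hD : K ⊓ centralizer ({u} : Set G) ≤ M)
    (hb : K ⊓ L ⊓ centralizer ({u} : Set G) = ⊥) :
    M.relIndex K * Nat.card (K ⊓ L : Subgroup G) = (centralizer ({u} : Set G)).relIndex K := by
  have huM : u ∈ normalizer ((K ⊓ M : Subgroup G) : Set G) := by
    apply mem_normalizer_of_conj
    rintro x ⟨hxK, hxM⟩
    exact ⟨conj_mem_of_mem_normalizer huK hxK,
      M.mul_mem (M.mul_mem (hLM huL) hxM) (M.inv_mem (hLM huL))⟩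
  have h1 : K ⊓ M ⊓ L = K ⊓ L := by
    rw [inf_assoc, inf_eq_right.2 hLM]
  have h2 : K ⊓ M ⊓ centralizer ({u} : Set G) = K ⊓ centralizer ({u} : Set G) := by
    apply le_antisymm (inf_le_inf_right _ inf_le_left)
    exact le_inf (le_inf inf_le_left hD) inf_le_right
  have h3 := card_inf_eq (X := K ⊓ M) (L := L) (odd_of_le inf_le_left hK) hu huM huL
    (inf_le_right.trans hML) (by rw [h1, hb])
  rw [h1, h2] at h3
  have h4 := card_inf_mul_relIndex K M
  have h5 := card_inf_mul_relIndex K (centralizer ({u} : Set G))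
  have h6 : 0 < Nat.card (K ⊓ centralizer ({u} : Set G) : Subgroup G) := Nat.card_pos
  apply Nat.eq_of_mul_eq_mul_left h6
  rw [h5, ← h4, h3]
  ring

/-- `K ⊴ H` odd, `|H| = |K| |S|`, `S ≤ H` a Sylow 2-subgroup of `G` normalising `L`:
`|H ⊓ L| = |K ⊓ L| |S ⊓ L|`. -/
theorem card_inf_eq_mul {H K L S : Subgroup G} (hKH : K ≤ H) (hn : H ≤ normalizer (K : Set G))
    (hK : Odd (Nat.card K)) (hS : IsPGroup 2 S) (hSH : S ≤ H) (hidx : Odd S.index)
    (hcard : Nat.card H = Nat.card K * Nat.card S) (hSL : S ≤ normalizer (L : Set G)) :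
    Nat.card (H ⊓ L : Subgroup G) =
      Nat.card (K ⊓ L : Subgroup G) * Nat.card (S ⊓ L : Subgroup G) := by
  have : Fact (Nat.Prime 2) := ⟨Nat.prime_two⟩
  -- `|H ⊓ L : K ⊓ L|` is a power of two
  have h1 : K.relIndex (H ⊓ L) ∣ Nat.card S := by
    have hN : (K.subgroupOf H).Normal := (normal_subgroupOf_iff_le_normalizer hKH).2 hn
    have h2 : (K.subgroupOf H).relIndex ((H ⊓ L).subgroupOf H) ∣ (K.subgroupOf H).index :=
      relIndex_dvd_index_of_normal _ _
    rw [relIndex_subgroupOf inf_le_left] at h2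
    have h3 : Nat.card K * (K.subgroupOf H).index = Nat.card H := by
      rw [← (K.subgroupOf H).card_mul_index, Nat.card_congr (subgroupOfEquivOfLe hKH).toEquiv]
    rw [hcard] at h3
    rwa [Nat.eq_of_mul_eq_mul_left Nat.card_pos h3] at h2
  obtain ⟨s, hs⟩ := IsPGroup.iff_card.1 hS
  rw [hs] at h1
  obtain ⟨a, -, ha⟩ := (Nat.dvd_prime_pow Nat.prime_two).1 h1
  have h2 := card_inf_mul_relIndex (H ⊓ L) K
  rw [ha] at h2
  have h3 : H ⊓ L ⊓ K = K ⊓ L := by
    rw [inf_comm, ← inf_assoc, inf_eq_left.2 hKH]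
  rw [h3] at h2
  -- `|L : S ⊓ L|` is odd
  have h4 : Odd (S.relIndex L) := by
    have h5 : S.relIndex (S ⊔ L) * (S ⊔ L).index = S.index := relIndex_mul_index le_sup_left
    have h6 : Odd (S.relIndex (S ⊔ L)) := by
      rw [← h5] at hidx
      exact (Nat.odd_mul.1 hidx).1
    have h7 : S.relIndex (S ⊔ L) = S.relIndex L := by
      refine relIndex_eq_of_forall le_sup_right fun b hb => ?_
      rw [sup_comm] at hb
      rw [← SetLike.mem_coe, coe_mul_of_right_le_normalizer_left L S hSL] at hb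
      obtain ⟨l, hl, s, hs, rfl⟩ := hb
      exact ⟨l, hl, by simpa using hs⟩
    rwa [h7] at h6
  have h5 : Odd (S.relIndex (H ⊓ L)) := by
    have h6 := card_inf_mul_relIndex L S
    have h7 := card_inf_mul_relIndex (H ⊓ L) S
    have h8 : H ⊓ L ⊓ S = L ⊓ S := by
      rw [inf_assoc, inf_eq_right]
      exact inf_le_right.trans hSH
    rw [h8] at h7
    have h9 : Nat.card (H ⊓ L : Subgroup G) ∣ Nat.card L := card_dvd_of_le inf_le_right
    rw [← h6, ← h7] at h9
    exact h4.of_dvd_nat (Nat.dvd_of_mul_dvd_mul_left Nat.card_pos h9)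
  have h6 := card_inf_mul_relIndex (H ⊓ L) S
  have h8 : H ⊓ L ⊓ S = S ⊓ L := by
    rw [inf_assoc, inf_comm L S, inf_eq_right]
    exact inf_le_left.trans hSH
  rw [h8] at h6
  have hSLp : IsPGroup 2 (S ⊓ L : Subgroup G) := hS.to_le inf_le_left
  obtain ⟨b, hb⟩ := IsPGroup.iff_card.1 hSLp
  rw [hb] at h6 ⊢
  rw [← h2]
  congr 1
  have hT : Odd (Nat.card (K ⊓ L : Subgroup G)) := odd_of_le inf_le_left hK
  have h9 : Nat.card (K ⊓ L : Subgroup G) * 2 ^ a = 2 ^ b * S.relIndex (H ⊓ L) := by rw [h2, h6]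
  apply Nat.dvd_antisymm
  · have : (2 ^ a) ∣ 2 ^ b * S.relIndex (H ⊓ L) := Dvd.intro_left _ h9
    exact (Nat.Coprime.pow_left a (Nat.coprime_two_left.2 h5)).dvd_of_dvd_mul_right this
  · have : (2 ^ b) ∣ Nat.card (K ⊓ L : Subgroup G) * 2 ^ a := Dvd.intro _ h9.symm
    exact (Nat.Coprime.pow_left b (Nat.coprime_two_left.2 hT)).dvd_of_dvd_mul_left this

end general

/-- The numerical facts on `L ≅ PSL₂(q)`, `4 ∣ q - e`, `⟨t, u⟩ ≤ L` a four-group. -/
structure PslComp {G : Type*} [Group G] (t u : G) (L : Subgroup G) (q : ℕ) (e : ℤ) : Prop where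
  inv_t : IsInv t
  inv_u : IsInv u
  comm : t * u = u * t
  ne : t ≠ u
  mem_t : t ∈ L
  mem_u : u ∈ L
  e_eq : e = 1 ∨ e = -1
  four : (4 : ℤ) ∣ q - e
  five : 5 ≤ q
  card : 2 * (Nat.card L : ℤ) = q * (q ^ 2 - 1)
  card_cent : (Nat.card (centralizer ({t} : Set G) ⊓ L : Subgroup G) : ℤ) = q - e
  card_four : Nat.card (centralizer ({t} : Set G) ⊓ centralizer ({u} : Set G) ⊓ L : Subgroup G) = 4
  conj : ∀ v ∈ L, IsInv v → ∃ l ∈ L, l * t * l⁻¹ = v

section main

variable {G : Type*} [Group G] [Finite G] {t u : G} {L : Subgroup G} {q : ℕ} {e : ℤ}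

theorem PslComp.two_mul_relIndex (h : PslComp t u L q e) :
    2 * ((centralizer ({t} : Set G)).relIndex L : ℤ) = q * (q + e) := by
  have h1 := card_inf_mul_relIndex L (centralizer ({t} : Set G))
  rw [inf_comm] at h1
  have h2 : (Nat.card (centralizer ({t} : Set G) ⊓ L : Subgroup G) : ℤ) *
      (centralizer ({t} : Set G)).relIndex L = Nat.card L := by exact_mod_cast h1
  have h3 := h.card
  have h4 := h.card_cent
  have he : e ^ 2 = 1 := by rcases h.e_eq with rfl | rfl <;> norm_num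
  have hpos : (0 : ℤ) < q - e := by
    have h5 : (5 : ℤ) ≤ q := by exact_mod_cast h.five
    rcases h.e_eq with rfl | rfl <;> linarith
  rw [h4] at h2
  apply mul_left_cancel₀ hpos.ne'
  calc ((q : ℤ) - e) * (2 * ((centralizer ({t} : Set G)).relIndex L : ℤ))
      = 2 * (((q : ℤ) - e) * (centralizer ({t} : Set G)).relIndex L) := by ring
    _ = q * (q ^ 2 - 1) := by rw [h2, h3]
    _ = (q - e) * (q * (q + e)) := by rw [← he]; ring

/-- `|G : M| q (q + e) = 2 |G : H| |H : H ∩ M|`, `M ≤ N(L)`, `H = C(t)`. -/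
theorem PslComp.index_mul (h : PslComp t u L q e) {M : Subgroup G} (hLM : L ≤ M)
    (hM : M ≤ normalizer (L : Set G)) :
    (M.index : ℤ) * (q * (q + e)) =
      2 * ((centralizer ({t} : Set G)).index * M.relIndex (centralizer ({t} : Set G))) := by
  have h1 : (M.index : ℤ) * (centralizer ({t} : Set G)).relIndex L =
      (centralizer ({t} : Set G)).index * M.relIndex (centralizer ({t} : Set G)) := by
    exact_mod_cast index_mul_relIndex hLM t fun m hm =>
      h.conj _ (conj_mem_of_mem_normalizer (hM hm) h.mem_t) (h.inv_t.conj m)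
  rw [← h.two_mul_relIndex, ← h1]
  ring

/-- `C_{K ∩ L}(u) = 1` for an odd group `K` centralised by `t`. -/
theorem PslComp.inf_eq_bot (h : PslComp t u L q e) {K : Subgroup G} (hK : Odd (Nat.card K))
    (hKt : K ≤ centralizer ({t} : Set G)) : K ⊓ L ⊓ centralizer ({u} : Set G) = ⊥ := by
  have h1 : K ⊓ L ⊓ centralizer ({u} : Set G) ≤
      centralizer ({t} : Set G) ⊓ centralizer ({u} : Set G) ⊓ L :=
    le_inf (le_inf ((inf_le_left.trans inf_le_left).trans hKt) inf_le_right)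
      (inf_le_left.trans inf_le_right)
  have h2 := card_dvd_of_le h1
  rw [h.card_four] at h2
  have h3 : Odd (Nat.card (K ⊓ L ⊓ centralizer ({u} : Set G) : Subgroup G)) :=
    odd_of_le (inf_le_left.trans inf_le_left) hK
  have h4 : Nat.card (K ⊓ L ⊓ centralizer ({u} : Set G) : Subgroup G) = 1 := by
    have h5 : Nat.Coprime (Nat.card (K ⊓ L ⊓ centralizer ({u} : Set G) : Subgroup G)) (2 ^ 2) :=
      Nat.Coprime.pow_right 2 (Nat.coprime_two_right.2 h3)
    exact Nat.Coprime.eq_one_of_dvd h5 h2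
  exact eq_bot_of_card_eq _ h4

/-- **Index formula**: `|G : M| q (q + e) |T| = 2 |G : H| |K : C_K(u)|`, `T = K ⊓ L`,
for `L ≤ M ≤ N(L)`, `C_K(u) ≤ M`, `S ≤ M`. -/
theorem PslComp.index_formula (h : PslComp t u L q e) {K M S : Subgroup G}
    (hK : Odd (Nat.card K)) (hKt : K ≤ centralizer ({t} : Set G))
    (hKn : centralizer ({t} : Set G) ≤ normalizer (K : Set G)) (hLM : L ≤ M)
    (hM : M ≤ normalizer (L : Set G)) (hS : S ≤ centralizer ({t} : Set G))
    (hH : centralizer ({t} : Set G) ≤ K ⊔ S) (hSM : S ≤ M)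
    (hD : K ⊓ centralizer ({u} : Set G) ≤ M) :
    (M.index : ℤ) * (q * (q + e)) * Nat.card (K ⊓ L : Subgroup G) =
      2 * ((centralizer ({t} : Set G)).index * (centralizer ({u} : Set G)).relIndex K) := by
  have h1 := h.index_mul hLM hM
  rw [relIndex_eq_of_sup hKt hKn hH hS hSM] at h1
  have huH : u ∈ centralizer ({t} : Set G) := by
    rw [mem_centralizer_singleton_iff]; exact h.comm.symm
  have h2 := relIndex_mul_card hK h.inv_u (hKn huH) h.mem_u hLM hM hD (h.inf_eq_bot hK hKt)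
  have h3 : (M.relIndex K : ℤ) * Nat.card (K ⊓ L : Subgroup G) =
      (centralizer ({u} : Set G)).relIndex K := by exact_mod_cast h2
  rw [h1, ← h3]
  ring

/-- `q - e = |T| |S ∩ L|`, `T = K ∩ L`, `K = O(H)`. -/
theorem PslComp.card_mul_card (h : PslComp t u L q e) {K S : Subgroup G}
    (hK : Odd (Nat.card K)) (hKt : K ≤ centralizer ({t} : Set G))
    (hKn : centralizer ({t} : Set G) ≤ normalizer (K : Set G))
    (hS2 : IsPGroup 2 S) (hidx : Odd S.index) (hS : S ≤ centralizer ({t} : Set G))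
    (hcard : Nat.card (centralizer ({t} : Set G)) = Nat.card K * Nat.card S)
    (hSL : S ≤ normalizer (L : Set G)) :
    ((Nat.card (K ⊓ L : Subgroup G) : ℤ) * Nat.card (S ⊓ L : Subgroup G)) = q - e := by
  rw [← h.card_cent, card_inf_eq_mul hKt hKn hK hS2 hS hidx hcard hSL]
  push_cast
  ring

end main

end Cfsg.Agent.Classification.TypeZ.Count
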