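import Mathlib
import Cfsg.Agent.Classification.TypeZ.Count

/-!
# Type Z of the Gorenstein–Walter theorem: the numbers `f`, `l`, `m`, `κ`

`n = 2 ^ a`, `|S| = 2 n`, `K = O(C(t))`, `k_p = |K : C_K(u)|` for an involution `u` of `C(t)` of
parity `p`, `2 κ = k_0 + k_1`. For `|S| ≥ 8` there are integers `m ≠ 0`, `l > 0` with
`f = 1 + 2 n m`, `κ = l |m|`, `|G : C(t)| = l² f (f + 1) / 2 = l² f (n m + 1)`.
-/

set_option autoImplicit false

namespace Cfsg.Agent.Classification.TypeZ.Numbers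

open Subgroup Cfsg DihedralGroup
open Cfsg.Agent.Classification.TypeB.Basic Cfsg.Agent.Classification.TypeB.Core
open Cfsg.Agent.Classification.TypeZ.Bender Cfsg.Agent.Classification.TypeZ.Count
open Cfsg.Agent.Classification.BGDefs Cfsg.Agent.Classification.BGBasic
  Cfsg.Agent.Classification.BGOrder Cfsg.Agent.Classification.BGOvergroup
  Cfsg.Agent.Classification.DihTypeACount Cfsg.Agent.Classification.DihTypeACount3
  Cfsg.Agent.Classification.TransferSign
  Cfsg.Agent.Classification.DihedralCentral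

set_option linter.unusedSectionVars false

variable {G : Type*} [Group G] [Finite G] {t : G} {n : ℕ} [NeZero n]
  {π : (Subgroup.centralizer ({t} : Set G)) →* DihedralGroup n}

theorem isInv_of_hyp (h : BGHyp t n π) : IsInv t := ⟨t_mul_t h, t_ne_one h⟩

/-- The kernel of `π` consists of the elements of odd order. -/
theorem map_eq_one_iff (h : BGHyp t n π) (y : centralizer ({t} : Set G)) :
    π y = 1 ↔ Odd (orderOf (y : G)) := by
  constructor
  · intro hy
    have hy' : y ∈ π.ker := hy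
    have h1 : orderOf (⟨y, hy'⟩ : π.ker) ∣ Nat.card π.ker := orderOf_dvd_natCard _
    rw [Subgroup.orderOf_mk] at h1
    rw [Subgroup.orderOf_coe]
    exact h.odd_ker.of_dvd_nat h1
  · intro hy
    rw [← orderOf_eq_one_iff, ← Nat.dvd_one]
    rw [Subgroup.orderOf_coe] at hy
    obtain ⟨m, -, hm⟩ := h.pow
    have h1 : orderOf (π y) ∣ orderOf y := orderOf_map_dvd π y
    have h2 : orderOf (π y) ∣ 2 ^ (m + 1) := by
      have h3 : orderOf (π y) ∣ Nat.card (DihedralGroup n) := orderOf_dvd_natCard _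
      rw [DihedralGroup.nat_card] at h3
      have h5 : 2 * n = 2 ^ (m + 1) := by rw [hm, pow_succ, mul_comm]
      rwa [h5] at h3
    have h4 : Nat.Coprime (orderOf y) (2 ^ (m + 1)) :=
      Nat.Coprime.pow_right _ (Nat.coprime_two_right.2 hy)
    rw [← h4.gcd_eq_one]
    exact Nat.dvd_gcd h1 h2

theorem map_ker_eq (hG : SubDihedral G) (h : BGHyp t n π) :
    π.ker.map (centralizer ({t} : Set G)).subtype = Kc t := by
  ext y
  rw [mem_Kc_iff hG (isInv_of_hyp h)]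
  constructor
  · rintro ⟨z, hz, rfl⟩
    exact ⟨mem_centralizer_singleton_iff.1 z.2, (map_eq_one_iff h z).1 hz⟩
  · rintro ⟨h1, h2⟩
    exact ⟨⟨y, mem_centralizer_singleton_iff.2 h1⟩, (map_eq_one_iff h _).2 h2, rfl⟩

theorem card_ker (hG : SubDihedral G) (h : BGHyp t n π) :
    Nat.card π.ker = Nat.card (Kc t) := by
  rw [← map_ker_eq hG h, card_map_of_injective (subtype_injective _)]

theorem card_centralizer (hG : SubDihedral G) (h : BGHyp t n π) :
    Nat.card (centralizer ({t} : Set G)) = Nat.card (Kc t) * (2 * n) := by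
  rw [← card_ker hG h]
  exact BGSylow.card_centralizer h

theorem card_inf (hG : SubDihedral G) (h : BGHyp t n π) {p : ZMod 2} {u : G}
    (hu : IsPar (two_dvd h) π p u) :
    Nat.card (centralizer ({t} : Set G) ⊓ centralizer ({u} : Set G) : Subgroup G) =
      4 * Nat.card (Kc t ⊓ centralizer ({u} : Set G) : Subgroup G) := by
  obtain ⟨k, hk, hk4⟩ := card_inf_centralizer h hu
  have h1 : (Kc t).relIndex (centralizer ({t} : Set G) ⊓ centralizer ({u} : Set G)) ∣ 2 * n := by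
    have hN : ((Kc t).subgroupOf (centralizer ({t} : Set G))).Normal :=
      (normal_subgroupOf_iff_le_normalizer (Kc_le t)).2 (normalizer_Kc_le t)
    have h2 : ((Kc t).subgroupOf (centralizer ({t} : Set G))).relIndex
        ((centralizer ({t} : Set G) ⊓ centralizer ({u} : Set G)).subgroupOf
          (centralizer ({t} : Set G))) ∣
        ((Kc t).subgroupOf (centralizer ({t} : Set G))).index := relIndex_dvd_index_of_normal _ _
    rw [relIndex_subgroupOf inf_le_left] at h2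
    have h3 : Nat.card (Kc t) * ((Kc t).subgroupOf (centralizer ({t} : Set G))).index =
        Nat.card (Kc t) * (2 * n) := by
      rw [← card_centralizer hG h, ← ((Kc t).subgroupOf
        (centralizer ({t} : Set G))).card_mul_index,
        Nat.card_congr (subgroupOfEquivOfLe (Kc_le t)).toEquiv]
    rwa [Nat.eq_of_mul_eq_mul_left Nat.card_pos h3] at h2
  obtain ⟨m, -, hm⟩ := h.pow
  have h2 : 2 * n = 2 ^ (m + 1) := by rw [hm, pow_succ, mul_comm]
  rw [h2] at h1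
  obtain ⟨a, -, ha⟩ := (Nat.dvd_prime_pow Nat.prime_two).1 h1
  have h3 := card_inf_mul_relIndex (centralizer ({t} : Set G) ⊓ centralizer ({u} : Set G)) (Kc t)
  have h4 : centralizer ({t} : Set G) ⊓ centralizer ({u} : Set G) ⊓ Kc t =
      Kc t ⊓ centralizer ({u} : Set G) := by
    rw [inf_comm, ← inf_assoc, inf_eq_left.2 (Kc_le t)]
  rw [h4, ha, hk4] at h3
  rw [hk4]
  congr 1
  have hodd : Odd (Nat.card (Kc t ⊓ centralizer ({u} : Set G) : Subgroup G)) :=
    odd_of_le inf_le_left (odd_Kc t)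
  apply Nat.dvd_antisymm
  · have h5 : k ∣ Nat.card (Kc t ⊓ centralizer ({u} : Set G) : Subgroup G) * 2 ^ a := by
      rw [h3]; exact Dvd.intro_left _ rfl
    exact (Nat.Coprime.pow_right a (Nat.coprime_two_right.2 hk)).dvd_of_dvd_mul_right h5
  · have h5 : Nat.card (Kc t ⊓ centralizer ({u} : Set G) : Subgroup G) ∣ 2 ^ 2 * k :=
      Dvd.intro _ h3
    exact (Nat.Coprime.pow_right 2 (Nat.coprime_two_right.2 hodd)).dvd_of_dvd_mul_left h5

/-- `2 |{involutions of parity p}| = n |K : C_K(u)|` -/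
theorem two_mul_kcount (hG : SubDihedral G) (h : BGHyp t n π) {p : ZMod 2} {u : G}
    (hu : IsPar (two_dvd h) π p u) :
    2 * kcount (two_dvd h) π p = n * (centralizer ({u} : Set G)).relIndex (Kc t) := by
  have h1 := kcount_mul h hu
  rw [card_inf hG h hu, card_centralizer hG h,
    ← card_inf_mul_relIndex (Kc t) (centralizer ({u} : Set G))] at h1
  have h2 : 0 < 2 * Nat.card (Kc t ⊓ centralizer ({u} : Set G) : Subgroup G) :=
    Nat.mul_pos two_pos Nat.card_pos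
  apply Nat.eq_of_mul_eq_mul_left h2
  calc 2 * Nat.card (Kc t ⊓ centralizer ({u} : Set G) : Subgroup G) *
        (2 * kcount (two_dvd h) π p)
      = kcount (two_dvd h) π p *
        (4 * Nat.card (Kc t ⊓ centralizer ({u} : Set G) : Subgroup G)) := by ring
    _ = _ := by rw [h1]; ring

theorem odd_relIndex (X : Subgroup G) : Odd (X.relIndex (Kc t)) :=
  (odd_Kc t).of_dvd_nat (Dvd.intro_left _ (card_inf_mul_relIndex (Kc t) X))

/-- arithmetic of the order formula -/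
theorem arith {N κ f : ℤ} {n : ℤ} (hN : 0 < N) (hκ : 0 < κ) (hn : 0 < n) (hf1 : f ≠ 1)
    (hf : 2 * n ∣ f - 1) (h : N * (f - 1) ^ 2 = 2 * (n * κ) ^ 2 * (f * (f + 1))) :
    ∃ m l : ℤ, m ≠ 0 ∧ 0 < l ∧ f = 1 + 2 * n * m ∧ κ = l * |m| ∧
      N = l ^ 2 * (f * (n * m + 1)) := by
  obtain ⟨m, hm⟩ := hf
  have hfm : f = 1 + 2 * n * m := by linarith
  have hm0 : m ≠ 0 := by
    rintro rfl
    apply hf1
    rw [hfm]; ring
  have h1 : N * m ^ 2 = κ ^ 2 * (f * (n * m + 1)) := by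
    have h2 : (4 * n ^ 2) * (N * m ^ 2) = (4 * n ^ 2) * (κ ^ 2 * (f * (n * m + 1))) := by
      have h3 : N * (2 * n * m) ^ 2 = 2 * (n * κ) ^ 2 * (f * (f + 1)) := by rw [← hm]; exact h
      have h4 : f * (f + 1) = 2 * (f * (n * m + 1)) := by
        rw [hfm]; ring
      calc (4 * n ^ 2) * (N * m ^ 2) = N * (2 * n * m) ^ 2 := by ring
        _ = 2 * (n * κ) ^ 2 * (2 * (f * (n * m + 1))) := by rw [h3, h4]
        _ = _ := by ring
    exact mul_left_cancel₀ (by positivity) h2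
  have hc1 : IsCoprime m f := ⟨-(2 * n), 1, by rw [hfm]; ring⟩
  have hc2 : IsCoprime m (n * m + 1) := ⟨-n, 1, by ring⟩
  have hc : IsCoprime (m ^ 2) (f * (n * m + 1)) := (hc1.mul_right hc2).pow_left
  have h2 : m ^ 2 ∣ κ ^ 2 := by
    apply hc.dvd_of_dvd_mul_right
    rw [← h1]
    exact Dvd.intro_left _ rfl
  have h3 : m ∣ κ := (Int.pow_dvd_pow_iff two_ne_zero).1 h2
  obtain ⟨c, hc⟩ := h3
  refine ⟨m, |c|, hm0, ?_, hfm, ?_, ?_⟩
  · apply abs_pos.2
    rintro rfl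
    rw [hc, mul_zero] at hκ
    exact lt_irrefl _ hκ
  · rw [← abs_mul, mul_comm c m, ← hc, abs_of_pos hκ]
  · have h4 : (m ^ 2) * N = m ^ 2 * (|c| ^ 2 * (f * (n * m + 1))) := by
      rw [sq_abs, mul_comm, h1, hc]; ring
    exact mul_left_cancel₀ (pow_ne_zero 2 hm0) h4

/-- **The numbers of type Z**, `|S| = 2 n ≥ 8`. -/
theorem exists_numbers (hG : SubDihedral G) (h : BGHyp t n π) (h4 : 4 ≤ n) {u w : G}
    (hu : IsPar (two_dvd h) π 0 u) (hw : IsPar (two_dvd h) π 1 w) :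
    ∃ f m l κ : ℤ, m ≠ 0 ∧ 0 < l ∧ 0 < κ ∧ f = 1 + 2 * n * m ∧ κ = l * |m| ∧
      2 * κ = (centralizer ({u} : Set G)).relIndex (Kc t) +
        (centralizer ({w} : Set G)).relIndex (Kc t) ∧
      ((centralizer ({t} : Set G)).index : ℤ) = l ^ 2 * (f * (n * m + 1)) := by
  obtain ⟨f, hf1, hf, he⟩ := BGMain.orderEq h h4
  have hn : 0 < n := Nat.pos_of_ne_zero (NeZero.ne n)
  have h0 := two_mul_kcount hG h hu
  have h1 := two_mul_kcount hG h hw
  obtain ⟨a, ha⟩ := odd_relIndex (t := t) (centralizer ({u} : Set G))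
  obtain ⟨b, hb⟩ := odd_relIndex (t := t) (centralizer ({w} : Set G))
  have h2 : kcount (two_dvd h) π 0 + kcount (two_dvd h) π 1 = n * (a + b + 1) := by
    have : 2 * (kcount (two_dvd h) π 0 + kcount (two_dvd h) π 1) = 2 * (n * (a + b + 1)) := by
      rw [mul_add, h0, h1, ha, hb]; ring
    exact Nat.eq_of_mul_eq_mul_left two_pos this
  have h3 : (kcount (two_dvd h) π 0 : ℤ) + kcount (two_dvd h) π 1 =
      n * ((a + b + 1 : ℕ) : ℤ) := by exact_mod_cast h2
  rw [h3] at he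
  have hN : (0 : ℤ) < (centralizer ({t} : Set G)).index := by
    exact_mod_cast Nat.pos_of_ne_zero index_ne_zero_of_finite
  obtain ⟨m, l, hm, hl, hfm, hκ, hNl⟩ := arith (n := (n : ℤ)) hN (by positivity)
    (by exact_mod_cast hn) hf1 (by exact_mod_cast hf) he
  refine ⟨f, m, l, ((a + b + 1 : ℕ) : ℤ), hm, hl, by positivity, hfm, hκ, ?_, hNl⟩
  rw [ha, hb]
  push_cast
  ring

section consequences

variable {r : ℕ} {N l m n' f κ : ℤ}

omit [NeZero n] in
/-- Consequences of `|G : H| ≡ 1 (mod r)`. -/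
theorem not_dvd_l (hr : r.Prime) (hN : N ≡ 1 [ZMOD r]) (hNl : N = l ^ 2 * (f * (n' * m + 1))) :
    ¬ (r : ℤ) ∣ l := by
  intro hd
  have h1 : (r : ℤ) ∣ N := by
    rw [hNl]
    exact Dvd.dvd.mul_right (Dvd.dvd.pow hd two_ne_zero) _
  have h2 : (r : ℤ) ∣ 1 := by
    rw [← Int.modEq_zero_iff_dvd] at h1 ⊢
    exact hN.symm.trans h1
  have h3 : r ∣ 1 := by exact_mod_cast h2
  exact hr.one_lt.ne' (Nat.dvd_one.1 h3)

/-- `r ^ a ∣ κ ⟹ r ^ a ∣ m` -/
theorem pow_dvd_m (hr : r.Prime) (hN : N ≡ 1 [ZMOD r]) (hNl : N = l ^ 2 * (f * (n' * m + 1)))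
    (hκ : κ = l * |m|) {a : ℕ} (ha : (r : ℤ) ^ a ∣ κ) : (r : ℤ) ^ a ∣ m := by
  have h1 := not_dvd_l hr hN hNl
  have h2 : IsCoprime ((r : ℤ) ^ a) l :=
    IsCoprime.pow_left ((Nat.prime_iff_prime_int.1 hr).coprime_iff_not_dvd.2 h1)
  rw [hκ] at ha
  exact (dvd_abs _ _).1 (h2.dvd_of_dvd_mul_left ha)

/-- `r ∣ κ ⟹ f ≡ 1` and `l ^ 2 ≡ 1 (mod r)` -/
theorem modEq_of_dvd (hr : r.Prime) (hN : N ≡ 1 [ZMOD r]) (hNl : N = l ^ 2 * (f * (n' * m + 1)))
    (hf : f = 1 + 2 * n' * m) (hκ : κ = l * |m|) (hd : (r : ℤ) ∣ κ) :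
    (r : ℤ) ∣ m ∧ f ≡ 1 [ZMOD r] ∧ l ^ 2 ≡ 1 [ZMOD r] := by
  have h1 : (r : ℤ) ∣ m := by
    have := pow_dvd_m hr hN hNl hκ (a := 1) (by rwa [pow_one])
    rwa [pow_one] at this
  obtain ⟨c, hc⟩ := h1
  have h2 : f ≡ 1 [ZMOD r] := by
    rw [hf, hc]
    refine (Int.modEq_iff_dvd.2 ⟨-(2 * n' * c), by ring⟩)
  refine ⟨⟨c, hc⟩, h2, ?_⟩
  refine Int.ModEq.trans ?_ hN
  rw [hNl]
  refine Int.modEq_iff_dvd.2 ⟨l ^ 2 * (n' * c * f + 2 * n' * c), ?_⟩
  rw [hc, hf, hc]
  ring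

end consequences

/-- Integrality: `q (q + e) ∣ e' l² f (f + 1)`, `k = e' |T|`. -/
theorem integrality {u : G} {L : Subgroup G} {q : ℕ} {e : ℤ} (h : PslComp t u L q e)
    {K M S : Subgroup G}
    (hK : Odd (Nat.card K)) (hKt : K ≤ centralizer ({t} : Set G))
    (hKn : centralizer ({t} : Set G) ≤ normalizer (K : Set G)) (hLM : L ≤ M)
    (hM : M ≤ normalizer (L : Set G)) (hS : S ≤ centralizer ({t} : Set G))
    (hH : centralizer ({t} : Set G) ≤ K ⊔ S) (hSM : S ≤ M)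
    (hD : K ⊓ centralizer ({u} : Set G) ≤ M) {l f m n' e' : ℤ}
    (hf : f = 1 + 2 * n' * m)
    (hN : ((centralizer ({t} : Set G)).index : ℤ) = l ^ 2 * (f * (n' * m + 1)))
    (hk : ((centralizer ({u} : Set G)).relIndex K : ℤ) = e' * Nat.card (K ⊓ L : Subgroup G)) :
    (M.index : ℤ) * (q * (q + e)) = e' * (l ^ 2 * (f * (f + 1))) := by
  have h1 := h.index_formula hK hKt hKn hLM hM hS hH hSM hD
  have h2 : (Nat.card (K ⊓ L : Subgroup G) : ℤ) ≠ 0 := by exact_mod_cast Nat.card_pos.ne'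
  rw [hN, hk] at h1
  apply mul_right_cancel₀ h2
  rw [h1]
  have h3 : f + 1 = 2 * (n' * m + 1) := by rw [hf]; ring
  rw [h3]
  ring

/-- With `f - 1 = g (q - e)`: `q ∣ e' l² (g - e) (g - 2 e)` and `(q + e) ∣ 2 e' l² (2 g - e) (g - e)`
(signs: `g` may be negative). -/
theorem dvd_of_integrality {q e f g e' l X : ℤ} (he : e = 1 ∨ e = -1)
    (hfg : f - 1 = g * (q - e)) (h : X * (q * (q + e)) = e' * (l ^ 2 * (f * (f + 1)))) :
    q ∣ e' * l ^ 2 * ((g - e) * (g - 2 * e)) ∧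
      q + e ∣ 2 * (e' * l ^ 2 * ((2 * g - e) * (g - e))) := by
  have he2 : e * e = 1 := by rcases he with rfl | rfl <;> norm_num
  have hf : f = 1 + g * (q - e) := by linarith
  constructor
  · have h1 : q ∣ e' * (l ^ 2 * (f * (f + 1))) := by
      rw [← h]; exact ⟨X * (q + e), by ring⟩
    have h2 : f * (f + 1) = q * (g * (f + 1 + 1 - g * e)) + (1 - g * e) * (2 - g * e) := by
      rw [hf]; ring
    have h3 : (1 - g * e) * (2 - g * e) = (g - e) * (g - 2 * e) := by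
      rcases he with rfl | rfl <;> ring
    rw [h2, h3] at h1
    have h4 : e' * l ^ 2 * ((g - e) * (g - 2 * e)) =
        e' * (l ^ 2 * (q * (g * (f + 1 + 1 - g * e)) + (g - e) * (g - 2 * e))) -
          q * (e' * l ^ 2 * (g * (f + 1 + 1 - g * e))) := by ring
    rw [h4]
    exact dvd_sub h1 (dvd_mul_right _ _)
  · have h1 : q + e ∣ e' * (l ^ 2 * (f * (f + 1))) := by
      rw [← h]; exact ⟨X * q, by ring⟩
    have h2 : f * (f + 1) = (q + e) * (g * (f + 1 + 1 - 2 * g * e)) +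
        (1 - 2 * g * e) * (2 - 2 * g * e) := by
      rw [hf]; ring
    have h3 : (1 - 2 * g * e) * (2 - 2 * g * e) = 2 * ((2 * g - e) * (g - e)) := by
      rcases he with rfl | rfl <;> ring
    rw [h2, h3] at h1
    have h4 : 2 * (e' * l ^ 2 * ((2 * g - e) * (g - e))) =
        e' * (l ^ 2 * ((q + e) * (g * (f + 1 + 1 - 2 * g * e)) + 2 * ((2 * g - e) * (g - e)))) -
          (q + e) * (e' * l ^ 2 * (g * (f + 1 + 1 - 2 * g * e))) := by ring
    rw [h4]
    exact dvd_sub h1 (dvd_mul_right _ _)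

end Cfsg.Agent.Classification.TypeZ.Numbers
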