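import Mathlib
import Cfsg.Agent.Classification.TypeZ.Numbers
import Cfsg.Agent.Classification.TypeZ.Arith8

/-!
# Type Z of the Gorenstein–Walter theorem, case GAMMA, `|S| ≥ 8`

Blueprint `S0483_TypeZ.md`, I4. `K = O(C(t))`, `L ≅ PSL₂(q)`, `S ≤ L`, `T = K ∩ L`, `M = N(L)`,
`|K : C_K(u)| = |K : C_K(w)| = p |T| k`, `p ∣ |T|`, `k` odd, `2 k ≤ p + 1`,
`|G : H| ≡ 1` modulo the primes dividing `|T|`: contradiction.
-/

set_option autoImplicit false
set_option linter.unusedSectionVars false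

namespace Cfsg.Agent.Classification.TypeZ.Gamma

open Subgroup Cfsg DihedralGroup
open Cfsg.Agent.Classification.TypeB.Basic Cfsg.Agent.Classification.TypeB.Core
open Cfsg.Agent.Classification.TypeZ.Bender Cfsg.Agent.Classification.TypeZ.Count
  Cfsg.Agent.Classification.TypeZ.Numbers
open Cfsg.Agent.Classification.BGDefs Cfsg.Agent.Classification.BGBasic
  Cfsg.Agent.Classification.BGOrder Cfsg.Agent.Classification.DihTypeACount
  Cfsg.Agent.Classification.DihedralCentral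

variable {G : Type*} [Group G] [Finite G] {t : G} {n : ℕ} [NeZero n]
  {π : (Subgroup.centralizer ({t} : Set G)) →* DihedralGroup n}

/-- A 2-subgroup of `C(t)` of order `2 n` covers `C(t) / K`. -/
theorem le_sup (hG : SubDihedral G) (h : BGHyp t n π) {S : Subgroup G}
    (hS : S ≤ centralizer ({t} : Set G)) (hcard : Nat.card S = 2 * n) :
    centralizer ({t} : Set G) ≤ Kc t ⊔ S := by
  have h1 : Kc t ⊓ S = ⊥ := by
    apply eq_bot_of_card_eq
    obtain ⟨m, -, hm⟩ := h.pow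
    have h2 : Odd (Nat.card (Kc t ⊓ S : Subgroup G)) := odd_of_le inf_le_left (odd_Kc t)
    have h3 : Nat.card (Kc t ⊓ S : Subgroup G) ∣ 2 ^ (m + 1) := by
      have h4 : Nat.card (Kc t ⊓ S : Subgroup G) ∣ Nat.card S := card_dvd_of_le inf_le_right
      have h5 : 2 * n = 2 ^ (m + 1) := by rw [hm, pow_succ, mul_comm]
      rwa [hcard, h5] at h4
    exact Nat.Coprime.eq_one_of_dvd (Nat.Coprime.pow_right _ (Nat.coprime_two_right.2 h2)) h3
  have h2 : S ≤ normalizer (Kc t : Set G) := hS.trans (normalizer_Kc_le t)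
  have h3 : (Kc t ⊔ S : Subgroup G) ≤ centralizer ({t} : Set G) := sup_le (Kc_le t) hS
  have h4 : Nat.card (centralizer ({t} : Set G)) ≤ Nat.card (Kc t ⊔ S : Subgroup G) := by
    rw [card_centralizer hG h, ← hcard, ← Nat.card_prod]
    refine Nat.card_le_card_of_injective
      (fun p : Kc t × S => (⟨(p.1 : G) * (p.2 : G),
        mul_mem_sup p.1.2 p.2.2⟩ : (Kc t ⊔ S : Subgroup G))) ?_
    rintro ⟨⟨a, ha⟩, ⟨b, hb⟩⟩ ⟨⟨c, hc⟩, ⟨d, hd⟩⟩ he
    have h5 : a * b = c * d := congrArg Subtype.val he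
    have h6 : c⁻¹ * a = d * b⁻¹ := by
      calc c⁻¹ * a = c⁻¹ * (a * b) * b⁻¹ := by group
        _ = c⁻¹ * (c * d) * b⁻¹ := by rw [h5]
        _ = d * b⁻¹ := by group
    have h7 : c⁻¹ * a ∈ Kc t ⊓ S := by
      refine ⟨(Kc t).mul_mem ((Kc t).inv_mem hc) ha, ?_⟩
      rw [h6]
      exact S.mul_mem hd (S.inv_mem hb)
    rw [h1, mem_bot] at h7
    have h8 : a = c := (inv_mul_eq_one.1 h7).symm
    subst h8
    have h9 : b = d := mul_left_cancel h5
    subst h9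
    rfl
  exact (Subgroup.eq_of_le_of_card_ge h3 h4).ge

theorem odd_index (hG : SubDihedral G) (h : BGHyp t n π) {S : Subgroup G}
    (hS : S ≤ centralizer ({t} : Set G)) (hcard : Nat.card S = 2 * n)
    (hidx : Odd (centralizer ({t} : Set G)).index) : Odd S.index := by
  rw [← relIndex_mul_index hS]
  refine Odd.mul ?_ hidx
  have h1 := card_inf_mul_relIndex (centralizer ({t} : Set G)) S
  rw [inf_eq_right.2 hS, card_centralizer hG h, hcard, mul_comm (Nat.card (Kc t))] at h1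
  have hn : 0 < n := Nat.pos_of_ne_zero (NeZero.ne n)
  rw [Nat.eq_of_mul_eq_mul_left (by positivity) h1]
  exact odd_Kc t

open Cfsg.Agent.Classification.TypeZ.Arith8 in
/-- The arithmetic, `a = |S| / 2`, `p z = |T|`. -/
theorem arith_gamma {p q k z a l : ℕ} {ε σ f : ℤ} (hp : p.Prime) (hp2 : p ≠ 2) (hq : IsPrimePow q)
    (hε : Sgn ε) (hσ : Sgn σ) (ha : ∃ i, a = 2 ^ (i + 1)) (hk : Odd k) (hk2 : 2 * k ≤ p + 1)
    (hz : Odd z) (hqs : (q : ℤ) = ε + 2 * a * p * z)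
    (hl : l ∣ k) (hpl : (p : ℤ) ∣ (l : ℤ) ^ 2 - 1)
    (hf : (l : ℤ) * (f - 1) = σ * (2 * a) * (p * p * z * k))
    (hdiv : (q : ℤ) * (q + ε) ∣ (p * k : ℕ) * l ^ 2 * f * (f + 1)) : False := by
  obtain ⟨i, rfl⟩ := ha
  have hp3 : 3 ≤ p := by have := hp.two_le; omega
  have h : Dat p q k z (2 ^ (i + 1)) ε :=
    ⟨hp, hp3, hq, hε, dvd_pow_self 2 (by omega), by positivity, hz, hk, by rw [hqs]; ring⟩
  have hk0 := hk.pos
  have hl0 : 0 < l := Nat.pos_of_dvd_of_pos hl hk0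
  have hlk := Nat.le_of_dvd hk0 hl
  have hl1 : l = 1 := by
    by_cases hp5 : p = 3
    · have hk1 : k = 1 := by
        obtain ⟨r, hr⟩ := hk
        omega
      rw [hk1] at hl
      exact Nat.dvd_one.1 hl
    · have : Odd p := h.podd
      obtain ⟨r, hr⟩ := this
      exact eq_one_of_sq hp hl0 (by omega) hpl
  subst hl1
  have hf2 : f = 1 + σ * (p * k : ℕ) * (q - ε) := by
    have h1 : f - 1 = σ * (2 * 2 ^ (i + 1)) * (p * p * z * k) := by
      have := hf
      push_cast at this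
      linarith
    rw [hqs]
    push_cast
    linear_combination h1
  have hdiv' : (q : ℤ) * (q + ε) ∣ (p * k : ℕ) * f * (f + 1) := by simpa using hdiv
  obtain ⟨h1, h2⟩ := dvd_of_index hε hσ hf2 hdiv'
  have hd : Sgn (σ * ε) := hσ.mul hε
  have hcopc : IsCoprime (q : ℤ) (p : ℤ) := h.cop_p
  have hqge := h.q_ge
  have hp3' : (3 : ℤ) ≤ p := by exact_mod_cast hp3
  have hk2' : (2 * k : ℤ) ≤ p + 1 := by exact_mod_cast hk2
  have e1 : ((p * k : ℕ) : ℤ) = (p : ℤ) * k := by push_cast; ring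
  rw [e1] at h1 h2
  have hcopk := h.cop_k hd hcopc ⟨(p : ℤ), by ring⟩ (by linarith) h1
  have hcope := hcopc.mul_right hcopk
  have hG0 : (0 : ℤ) < (p : ℤ) * k := by
    have : 0 < p * k := by positivity
    exact_mod_cast this
  have hGp : (p : ℤ) ∣ (p : ℤ) * k := ⟨k, rfl⟩
  have hGle2 : 2 * ((p : ℤ) * k) ≤ p * (p + 1) := by nlinarith
  rcases h.key hd hcope h1 with h3 | h3
  · obtain ⟨h4, h5⟩ := eq_sub_of_dvd hp3' hqge h.p_dvd hε hd hGp hG0 (by linarith) h3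
    have h6 : 2 ^ (i + 2) * z = k := by
      have h7 : (p : ℤ) * (2 ^ (i + 2) * z) = p * k := by
        have := h4.symm.trans hqs
        push_cast at this
        linear_combination -this
      have h8 := mul_left_cancel₀ (by positivity : (p : ℤ) ≠ 0) h7
      exact_mod_cast h8
    have h7 : Even k := by
      rw [← h6, pow_succ]
      exact ⟨2 ^ (i + 1) * z, by ring⟩
    exact (Nat.not_even_iff_odd.2 hk) h7
  · have h4 := eq_two_of_dvd hp3' hqge h.p_dvd hε hd hGp hG0 hGle2 h3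
    obtain ⟨r1, hr1⟩ := h.podd
    obtain ⟨r2, hr2⟩ := hk
    rw [hr1, hr2] at h4
    push_cast at h4
    ring_nf at h4
    omega

/-- **Case GAMMA, `|S| ≥ 8`.** -/
theorem false_of_gamma (hG : SubDihedral G) (h : BGHyp t n π) (h4 : 4 ≤ n)
    (hidx : Odd (centralizer ({t} : Set G)).index) {u w : G}
    (hu : IsPar (two_dvd h) π 0 u) (hw : IsPar (two_dvd h) π 1 w)
    {L S M : Subgroup G} {q : ℕ} {e : ℤ} (hL : PslComp t u L q e) (hq : IsPrimePow q)
    (hLM : L ≤ M) (hM : M ≤ normalizer (L : Set G))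
    (hS : S ≤ centralizer ({t} : Set G)) (hScard : Nat.card S = 2 * n) (hSL : S ≤ L)
    (hD : Kc t ⊓ centralizer ({u} : Set G) ≤ M)
    {p k : ℕ} (hp : p.Prime) (hpT : p ∣ Nat.card (Kc t ⊓ L : Subgroup G)) (hk : Odd k)
    (hkp : 2 * k ≤ p + 1)
    (hku : (centralizer ({u} : Set G)).relIndex (Kc t) =
      p * Nat.card (Kc t ⊓ L : Subgroup G) * k)
    (hkw : (centralizer ({w} : Set G)).relIndex (Kc t) =
      p * Nat.card (Kc t ⊓ L : Subgroup G) * k)
    (hcong : ∀ r : ℕ, r.Prime → r ∣ Nat.card (Kc t ⊓ L : Subgroup G) →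
      (centralizer ({t} : Set G)).index ≡ 1 [MOD r]) : False := by
  obtain ⟨f, m, l, κ, hm, hl, hκ, hf, hκl, h2κ, hN⟩ := exists_numbers hG h h4 hu hw
  obtain ⟨T, hT⟩ : ∃ T, T = Nat.card (Kc t ⊓ L : Subgroup G) := ⟨_, rfl⟩
  rw [← hT] at hpT hku hkw hcong
  have hTodd : Odd T := by rw [hT]; exact odd_of_le inf_le_left (odd_Kc t)
  have hp2 : p ≠ 2 := by
    rintro rfl
    exact (Nat.not_even_iff_odd.2 hTodd) (even_iff_two_dvd.2 hpT)
  have hκ' : κ = p * T * k := by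
    rw [hku, hkw] at h2κ
    push_cast at h2κ
    linarith
  have hn : 0 < n := Nat.pos_of_ne_zero (NeZero.ne n)
  have hcong' : ∀ r : ℕ, r.Prime → r ∣ T →
      ((centralizer ({t} : Set G)).index : ℤ) ≡ 1 [ZMOD r] := by
    intro r hr hrT
    exact_mod_cast (Int.natCast_modEq_iff.2 (hcong r hr hrT))
  -- `l` is coprime to `T`
  have hlT : ∀ r : ℕ, r.Prime → r ∣ T → ¬ (r : ℤ) ∣ l := fun r hr hrT =>
    not_dvd_l hr (hcong' r hr hrT) hN
  obtain ⟨l', rfl⟩ : ∃ l' : ℕ, (l' : ℤ) = l := ⟨l.toNat, Int.toNat_of_nonneg hl.le⟩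
  have hlT' : Nat.Coprime l' T := by
    apply Nat.coprime_of_dvd
    intro r hr hrl hrT
    exact hlT r hr hrT (by exact_mod_cast hrl)
  have hlp : Nat.Coprime l' p := hlT'.coprime_dvd_right hpT
  have hlk : l' ∣ k := by
    have h1 : (l' : ℤ) ∣ p * T * k := by
      rw [← hκ', hκl]; exact Dvd.intro _ rfl
    have h2 : l' ∣ p * T * k := by exact_mod_cast h1
    exact (hlp.mul_right hlT').dvd_of_dvd_mul_left h2
  have hpκ : (p : ℤ) ∣ κ := by
    rw [hκ']
    exact ⟨T * k, by ring⟩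
  have hlp2 := (modEq_of_dvd hp (hcong' p hp hpT) hN hf hκl hpκ).2.2
  have hpl : (p : ℤ) ∣ (l' : ℤ) ^ 2 - 1 := hlp2.symm.dvd
  -- `q - e = T * 2 n`
  have hScar := hL.card_mul_card (odd_Kc t) (Kc_le t) (normalizer_Kc_le t)
    (IsPGroup.of_card (p := 2) (n := (h.pow.choose + 1)) (by
      rw [hScard, pow_succ, mul_comm, ← h.pow.choose_spec.2])) (odd_index hG h hS hScard hidx)
    hS (by rw [card_centralizer hG h, hScard]) (hSL.trans le_normalizer)
  rw [inf_eq_left.2 hSL, hScard, ← hT] at hScar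
  obtain ⟨z, hz⟩ := hpT
  -- integrality
  have hint := integrality hL (odd_Kc t) (Kc_le t) (normalizer_Kc_le t) hLM hM hS
    (le_sup hG h hS hScard) (hSL.trans hLM) hD (e' := ((p * k : ℕ) : ℤ)) hf hN (by
      rw [hku, ← hT]; push_cast; ring)
  obtain ⟨a, ha1, ha⟩ := h.pow
  obtain ⟨b, rfl⟩ : ∃ b, a = b + 1 := ⟨a - 1, by omega⟩
  -- the sign
  obtain ⟨σ, hσ, hσm⟩ : ∃ σ : ℤ, (σ = 1 ∨ σ = -1) ∧ m = σ * |m| := by
    rcases abs_choice m with h1 | h1
    · exact ⟨1, Or.inl rfl, by rw [h1]; ring⟩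
    · exact ⟨-1, Or.inr rfl, by rw [h1]; ring⟩
  refine arith_gamma (p := p) (q := q) (k := k) (z := z) (a := n) (l := l') (ε := e)
    (σ := σ) (f := f) hp hp2 hq hL.e_eq hσ ⟨b, ha⟩ hk hkp ?_ ?_ hlk hpl ?_ ?_
  · rw [hz] at hTodd
    exact (Nat.odd_mul.1 hTodd).2
  · rw [hz] at hScar
    push_cast at hScar
    linarith
  · have h1 : (l' : ℤ) * (f - 1) = σ * (2 * n) * (l' * |m|) := by
      rw [hf]
      have : m = σ * |m| := hσm
      calc (l' : ℤ) * (1 + 2 * n * m - 1) = (l' : ℤ) * (2 * n * m) := by ring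
        _ = (l' : ℤ) * (2 * n * (σ * |m|)) := by rw [← this]
        _ = _ := by ring
    rw [h1, ← hκl, hκ', hz]
    push_cast
    ring
  · refine ⟨(M.index : ℤ), ?_⟩
    linear_combination -hint

end Cfsg.Agent.Classification.TypeZ.Gamma
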