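import Mathlib
import Cfsg.Agent.Lib.PSL2Circle
import Cfsg.Agent.ClassicalGeometry.PSL2Klein
import Cfsg.Agent.LieRecognition.PSLTwoLocal
import Cfsg.Agent.SmallSimple.PSLTwoPart
import Cfsg.Agent.Classification.TypeZ.Count

/-!
# `PslComp` for subgroups isomorphic to `PSL(2,F)`
-/

set_option autoImplicit false

namespace Cfsg.Agent.Classification.TypeZ.PslCompOf

open Matrix Cfsg.Agent.Lib.SL2Mat Cfsg.Agent.Lib.PSL2Circle
open Cfsg.Agent.ClassicalGeometry.QuatPair Cfsg.Agent.ClassicalGeometry.KleinCount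
open Cfsg.Agent.Classification.TypeB.Basic Cfsg.Agent.Classification.TypeZ.Count

section psl

variable {F : Type*} [Field F]

local notation "SL2" => Matrix.SpecialLinearGroup (Fin 2)
local notation "PSL2" => Matrix.ProjectiveSpecialLinearGroup (Fin 2)
local notation "pr" => Cfsg.Agent.ClassicalGeometry.PSL2Klein.mk

open Cfsg.Agent.ClassicalGeometry

theorem comb_val {i : SL2 F} (hi : ent i 1 1 = - ent i 0 0) (p : Circ F) :
    (comb i hi p).1 = p.re • (1 : Matrix (Fin 2) (Fin 2) F) + p.im • i.1 := by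
  ext a b
  fin_cases a <;> fin_cases b
  · show ent (comb i hi p) 0 0 = _
    rw [comb_00]
    simp [ent]
  · show ent (comb i hi p) 0 1 = _
    rw [comb_01]
    simp [ent]
  · show ent (comb i hi p) 1 0 = _
    rw [comb_10]
    simp [ent]
  · show ent (comb i hi p) 1 1 = _
    rw [comb_11]
    have : i.1 1 1 = - i.1 0 0 := hi
    simp [ent, this]
    ring

theorem ent_of_sq {i : SL2 F} (hi : i.1 * i.1 = -1) :
    ent i 1 1 = - ent i 0 0 := by
  have h := PSL2Klein.trace_eq_zero_of_sq i hi
  rw [trace_fin_two] at h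
  exact eq_neg_of_add_eq_zero_right h

/-- `i`, `j` anticommuting square roots of `-1`, `g` commuting with both: `g = ± 1`. -/
theorem eq_pm_one (h2 : (2 : F) ≠ 0) {i j g : SL2 F} (h : IsPair i.1 j.1) (h1 : g * i = i * g)
    (h3 : g * j = j * g) : g = 1 ∨ g = -1 := by
  have hi := ent_of_sq h.sqA
  obtain ⟨p, rfl⟩ := exists_comb h2 hi h1
  have h4 := congrArg Subtype.val h3
  rw [Matrix.SpecialLinearGroup.coe_mul, Matrix.SpecialLinearGroup.coe_mul, comb_val] at h4
  have h5 : j.1 * i.1 = -(i.1 * j.1) := by rw [h.anti, neg_neg]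
  rw [add_mul, mul_add, smul_mul_assoc, smul_mul_assoc, mul_smul_comm, mul_smul_comm, h5, one_mul,
    mul_one, smul_neg] at h4
  have h6 : (2 * p.im) • (i.1 * j.1) = 0 := by
    have h7 := add_left_cancel h4
    rw [two_mul, add_smul]
    nth_rewrite 1 [h7]
    rw [neg_add_cancel]
  have h7 : p.im = 0 := by
    rcases smul_eq_zero.1 h6 with h8 | h8
    · rcases mul_eq_zero.1 h8 with h9 | h9
      · exact absurd h9 h2
      · exact h9
    · exfalso
      have h9 := congrArg Matrix.det h8
      rw [det_mul, i.2, j.2, mul_one] at h9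
      simp at h9
  have h8 : p.re = 1 ∨ p.re = -1 := by
    have := p.eqn
    rw [h7] at this
    have h9 : p.re * p.re = 1 := by linear_combination this
    exact mul_self_eq_one_iff.1 h9
  rcases h8 with h9 | h9
  · left
    apply Subtype.ext
    rw [comb_val, h7, h9]
    simp
  · right
    apply Subtype.ext
    rw [comb_val, h7, h9, Matrix.SpecialLinearGroup.coe_neg]
    simp

theorem pr_surj (x : PSL2 F) : ∃ A : SL2 F, pr A = x := QuotientGroup.mk_surjective x

theorem pr_mul (A B : SL2 F) : pr (A * B) = pr A * pr B := rfl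

theorem commute_pr_iff {A B : SL2 F} : pr A * pr B = pr B * pr A ↔ A * B = B * A ∨ A * B = -(B * A) := by
  rw [← pr_mul, ← pr_mul, PSL2Klein.mk_eq_mk]

/-- The centralizer of a four-group in `PSL(2,F)`. -/
theorem mem_four (h2 : (2 : F) ≠ 0) {x y g : PSL2 F} (h : CommInv x y) (h1 : g * x = x * g)
    (h3 : g * y = y * g) : g = 1 ∨ g = x ∨ g = y ∨ g = x * y := by
  obtain ⟨i, rfl⟩ := pr_surj x
  obtain ⟨j, rfl⟩ := pr_surj y
  obtain ⟨g, rfl⟩ := pr_surj g
  have hp := (PSL2Klein.commInv_iff h2).1 h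
  have hij : i * j = -(j * i) := Subtype.ext (by
    rw [Matrix.SpecialLinearGroup.coe_mul, hp.anti, Matrix.SpecialLinearGroup.coe_neg,
      Matrix.SpecialLinearGroup.coe_mul])
  have hji : j * i = -(i * j) := by rw [hij, neg_neg]
  have key : ∀ g : SL2 F, g * i = i * g → g * j = j * g → pr g = 1 := by
    intro g hgi hgj
    exact PSL2Klein.mk_eq_one.2 (eq_pm_one h2 hp hgi hgj)
  have hxx : pr i * pr i = 1 := h.xx
  have hyy : pr j * pr j = 1 := h.yy
  have hxy : pr i * pr j = pr j * pr i := h.comm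
  rcases commute_pr_iff.1 h1 with h4 | h4
  · rcases commute_pr_iff.1 h3 with h5 | h5
    · exact Or.inl (key g h4 h5)
    · -- `g i` commutes with both
      right; left
      have h6 : pr (g * i) = 1 := by
        apply key
        · rw [mul_assoc, ← mul_assoc, h4, mul_assoc, ← h4]
        · rw [mul_assoc, hij, mul_neg, ← mul_assoc, h5, neg_mul, neg_neg, mul_assoc]
      rw [pr_mul, mul_eq_one_iff_eq_inv] at h6
      rw [h6]
      exact inv_eq_of_mul_eq_one_left hxx
  · rcases commute_pr_iff.1 h3 with h5 | h5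
    · right; right; left
      have h6 : pr (g * j) = 1 := by
        apply key
        · rw [mul_assoc, hji, mul_neg, ← mul_assoc, h4, neg_mul, neg_neg, mul_assoc]
        · rw [mul_assoc, ← mul_assoc, h5, mul_assoc, ← h5]
      rw [pr_mul, mul_eq_one_iff_eq_inv] at h6
      rw [h6]
      exact inv_eq_of_mul_eq_one_left hyy
    · right; right; right
      have h6 : pr (g * (i * j)) = 1 := by
        apply key
        · calc g * (i * j) * i = g * i * (j * i) := by group
            _ = -(i * g) * -(i * j) := by rw [h4, hji]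
            _ = i * (g * (i * j)) := by rw [neg_mul_neg]; group
        · calc g * (i * j) * j = g * (i * j) * j := rfl
            _ = g * (-(j * i)) * j := by rw [hij]
            _ = -(g * j) * (i * j) := by rw [mul_neg, neg_mul, neg_mul]; group
            _ = j * (g * (i * j)) := by rw [h5, neg_neg]; group
      rw [pr_mul, mul_eq_one_iff_eq_inv] at h6
      rw [h6, pr_mul]
      apply inv_eq_of_mul_eq_one_left
      calc pr i * pr j * (pr i * pr j) = pr i * (pr j * pr i) * pr j := by group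
        _ = pr i * (pr i * pr j) * pr j := by rw [hxy]
        _ = (pr i * pr i) * (pr j * pr j) := by group
        _ = 1 := by rw [hxx, hyy, one_mul]

/-- `|C(x)| = q - ε` -/
theorem card_centralizer_psl [Finite F] (h2 : (2 : F) ≠ 0) {x y : PSL2 F} (h : CommInv x y) :
    Nat.card (Subgroup.centralizer ({x} : Set (PSL2 F))) = Nat.card (Circ F) := by
  obtain ⟨i, rfl⟩ := pr_surj x
  obtain ⟨j, rfl⟩ := pr_surj y
  have hp := (PSL2Klein.commInv_iff h2).1 h
  have hi := ent_of_sq hp.sqA
  rw [← Cfsg.Agent.Lib.PSL2Circle.card_centralizer h2 hi]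
  have hij : i * j = -(j * i) := Subtype.ext (by
    rw [Matrix.SpecialLinearGroup.coe_mul, hp.anti, Matrix.SpecialLinearGroup.coe_neg,
      Matrix.SpecialLinearGroup.coe_mul])
  have hji : j * i = -(i * j) := by rw [hij, neg_neg]
  let φ : SL2 F →* PSL2 F := QuotientGroup.mk' _
  have hφ : ∀ A, φ A = pr A := fun _ => rfl
  set N := (Subgroup.centralizer ({pr i} : Set (PSL2 F))).comap φ with hN
  have hmem : ∀ g : SL2 F, g ∈ N ↔ g * i = i * g ∨ g * i = -(i * g) := by
    intro g
    rw [hN, Subgroup.mem_comap, hφ, Subgroup.mem_centralizer_singleton_iff]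
    exact commute_pr_iff
  -- card N = 2 * card C
  have h3 : Nat.card N = 2 * Nat.card (Subgroup.centralizer ({pr i} : Set (PSL2 F))) := by
    have hsurj : Function.Surjective φ := QuotientGroup.mk'_surjective _
    have h4 : N.index = (Subgroup.centralizer ({pr i} : Set (PSL2 F))).index :=
      Subgroup.index_comap_of_surjective _ hsurj
    have h5 := N.card_mul_index
    rw [PSL2Klein.card_SL_eq h2,
      ← (Subgroup.centralizer ({pr i} : Set (PSL2 F))).card_mul_index, h4, ← mul_assoc] at h5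
    exact Nat.eq_of_mul_eq_mul_right (Nat.pos_of_ne_zero Subgroup.index_ne_zero_of_finite) h5
  have hle : Subgroup.centralizer ({i} : Set (SL2 F)) ≤ N := by
    intro g hg
    exact (hmem g).2 (Or.inl (Subgroup.mem_centralizer_singleton_iff.1 hg))
  have hneg : ∀ g : SL2 F, g ≠ -g := by
    intro g hg
    have h5 : (1 : SL2 F) = -1 := by
      have := congrArg (fun z => g⁻¹ * z) hg
      simpa using this
    exact PSL2Klein.one_ne_neg_one h2 h5
  have h4 : (Subgroup.centralizer ({i} : Set (SL2 F))).relIndex N = 2 := by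
    rw [Subgroup.relIndex_eq_two_iff]
    refine ⟨j, (hmem j).2 (Or.inr hji), fun g hg => ?_⟩
    rw [Subgroup.mem_centralizer_singleton_iff, Subgroup.mem_centralizer_singleton_iff]
    have h5 : g * j * i = -(g * i * j) := by
      rw [mul_assoc, hji, mul_neg, mul_assoc]
    rcases (hmem g).1 hg with h6 | h6
    · right
      refine ⟨h6, fun h7 => ?_⟩
      rw [h5, h6] at h7
      apply hneg (i * g * j)
      rw [h7]; group
    · left
      refine ⟨?_, fun h7 => ?_⟩
      · rw [h5, h6, neg_mul, neg_neg]; group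
      · rw [h6] at h7
        exact hneg _ h7.symm
  have h5 := card_inf_mul_relIndex N (Subgroup.centralizer ({i} : Set (SL2 F)))
  rw [inf_eq_right.2 hle, h4, h3, mul_comm] at h5
  exact (Nat.eq_of_mul_eq_mul_left two_pos h5).symm

end psl

section main

variable {G : Type*} [Group G] {F : Type*} [Field F]

local notation "PSL2" => Matrix.ProjectiveSpecialLinearGroup (Fin 2)

theorem card_centralizer_equiv {X Y : Type*} [Group X] [Group Y] (φ : X ≃* Y) (x : X) :
    Nat.card (Subgroup.centralizer ({x} : Set X)) =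
      Nat.card (Subgroup.centralizer ({φ x} : Set Y)) := by
  refine Nat.card_congr (φ.toEquiv.subtypeEquiv fun g => ?_)
  show g ∈ Subgroup.centralizer ({x} : Set X) ↔ φ g ∈ Subgroup.centralizer ({φ x} : Set Y)
  rw [Subgroup.mem_centralizer_singleton_iff, Subgroup.mem_centralizer_singleton_iff, ← map_mul,
    ← map_mul]
  exact φ.injective.eq_iff.symm

theorem card_centralizer_inf {L : Subgroup G} {t : G} (ht : t ∈ L) :
    Nat.card (Subgroup.centralizer ({t} : Set G) ⊓ L : Subgroup G) =
      Nat.card (Subgroup.centralizer ({(⟨t, ht⟩ : L)} : Set L)) := by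
  refine Nat.card_congr ⟨fun x => ⟨⟨x.1, x.2.2⟩, ?_⟩, fun x => ⟨x.1.1, ?_, x.1.2⟩, fun x => rfl,
    fun x => rfl⟩
  · rw [Subgroup.mem_centralizer_singleton_iff]
    exact Subtype.ext (Subgroup.mem_centralizer_singleton_iff.1 x.2.1)
  · show (x.1 : G) ∈ Subgroup.centralizer ({t} : Set G)
    rw [Subgroup.mem_centralizer_singleton_iff]
    exact congrArg Subtype.val (Subgroup.mem_centralizer_singleton_iff.1 x.2)

/-- `PslComp` for a subgroup isomorphic to `PSL(2,F)`. -/
theorem exists_pslComp [Finite G] [Finite F] {t u : G} {L : Subgroup G} (φ : L ≃* PSL2 F)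
    (hodd : Odd (Nat.card F)) (h5 : 5 ≤ Nat.card F) (ht : IsInv t) (hu : IsInv u)
    (htu : t * u = u * t) (hne : t ≠ u) (htL : t ∈ L) (huL : u ∈ L) :
    ∃ e : ℤ, PslComp t u L (Nat.card F) e := by
  classical
  let _ : Fintype F := Fintype.ofFinite F
  have hF : Nat.card F = Fintype.card F := Nat.card_eq_fintype_card
  have hodd' : Odd (Fintype.card F) := by rwa [← hF]
  have h2 : (2 : F) ≠ 0 := by
    intro h
    have h6 : ringChar F = 2 := by
      have h7 := ringChar.spec F 2
      have h8 : ringChar F ∣ 2 := h7.1 (by exact_mod_cast h)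
      rcases (Nat.dvd_prime Nat.prime_two).1 h8 with h9 | h9
      · exact absurd h9 (CharP.ringChar_ne_one)
      · exact h9
    have h9 : Fintype.card F % 2 = 0 := FiniteField.even_card_of_char_two h6
    rw [Nat.odd_iff] at hodd'
    omega
  -- the pair
  set x : PSL2 F := φ ⟨t, htL⟩ with hx
  set y : PSL2 F := φ ⟨u, huL⟩ with hy
  have key : ∀ a b : L, φ a = φ b ↔ (a : G) = b := fun a b => by
    rw [φ.injective.eq_iff]; exact Subtype.ext_iff
  have hxy : Cfsg.Agent.ClassicalGeometry.KleinCount.CommInv x y := by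
    refine ⟨?_, ?_, ?_, ?_, ?_, ?_⟩
    · rw [hx, ← map_one φ, Ne, key]; exact ht.2
    · rw [hy, ← map_one φ, Ne, key]; exact hu.2
    · rw [hx, hy, Ne, key]; exact hne
    · rw [hx, ← map_mul, ← map_one φ, key]; exact ht.1
    · rw [hy, ← map_mul, ← map_one φ, key]; exact hu.1
    · rw [hx, hy, ← map_mul, ← map_mul, key]; exact htu
  have hcent : Nat.card (Subgroup.centralizer ({t} : Set G) ⊓ L : Subgroup G) =
      Nat.card (Circ F) := by
    rw [card_centralizer_inf htL, card_centralizer_equiv φ, ← hx]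
    exact card_centralizer_psl h2 hxy
  have hcard : 2 * (Nat.card L : ℤ) = Nat.card F * ((Nat.card F : ℤ) ^ 2 - 1) := by
    have h6 := SmallSimple.PSLTwoPart.card_psl_two_odd (F := F) hodd'
    have h7 : 1 ≤ Fintype.card F ^ 2 := Nat.one_le_pow _ _ Fintype.card_pos
    rw [Nat.card_congr φ.toEquiv, hF]
    have h8 : ((2 * Nat.card (PSL2 F) : ℕ) : ℤ) =
        ((Fintype.card F * (Fintype.card F ^ 2 - 1) : ℕ) : ℤ) := by rw [h6]
    push_cast [Nat.cast_sub h7] at h8
    exact h8
  have hfour : Nat.card (Subgroup.centralizer ({t} : Set G) ⊓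
      Subgroup.centralizer ({u} : Set G) ⊓ L : Subgroup G) = 4 := by
    have hset : ((Subgroup.centralizer ({t} : Set G) ⊓
        Subgroup.centralizer ({u} : Set G) ⊓ L : Subgroup G) : Set G) = {1, t, u, t * u} := by
      ext g
      rw [SetLike.mem_coe, Subgroup.mem_inf, Subgroup.mem_inf,
        Subgroup.mem_centralizer_singleton_iff, Subgroup.mem_centralizer_singleton_iff]
      simp only [Set.mem_insert_iff, Set.mem_singleton_iff]
      constructor
      · rintro ⟨⟨h6, h7⟩, h8⟩
        have h9 := mem_four h2 hxy (g := φ ⟨g, h8⟩)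
          (by rw [hx, ← map_mul, ← map_mul, key]; exact h6)
          (by rw [hy, ← map_mul, ← map_mul, key]; exact h7)
        rwa [← map_one φ, hx, hy, ← map_mul, key, key, key, key] at h9
      · have h6 : t * u * t = t * (t * u) := by rw [mul_assoc, ← htu]
        have h7 : t * u * u = u * (t * u) := by rw [← mul_assoc, htu]
        rintro (rfl | rfl | rfl | rfl)
        · exact ⟨⟨by simp, by simp⟩, L.one_mem⟩
        · exact ⟨⟨rfl, htu⟩, htL⟩
        · exact ⟨⟨htu.symm, rfl⟩, huL⟩
        · exact ⟨⟨h6, h7⟩, L.mul_mem htL huL⟩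
    have h6 : t * u ≠ 1 := fun h => hne (by rw [mul_eq_one_iff_eq_inv, hu.inv_eq] at h; exact h)
    have h7 : t ≠ t * u := fun h => hu.2 (by simpa using h.symm)
    have h8 : u ≠ t * u := fun h => ht.2 (by simpa using h.symm)
    rw [← SetLike.coe_sort_coe, hset, Nat.card_coe_set_eq, Set.ncard_insert_of_notMem,
      Set.ncard_insert_of_notMem, Set.ncard_pair h8]
    · simp only [Set.mem_insert_iff, Set.mem_singleton_iff, not_or]
      exact ⟨hne, h7⟩
    · simp only [Set.mem_insert_iff, Set.mem_singleton_iff, not_or]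
      exact ⟨ht.2.symm, hu.2.symm, h6.symm⟩
  have hconj : ∀ v ∈ L, IsInv v → ∃ l ∈ L, l * t * l⁻¹ = v := by
    intro v hvL hv
    obtain ⟨g, hg⟩ := LieRecognition.PSLTwoLocal.exists_conj_mk_w hodd' x hxy.hx hxy.xx
    obtain ⟨k, hk⟩ := LieRecognition.PSLTwoLocal.exists_conj_mk_w hodd' (φ ⟨v, hvL⟩)
      (by rw [← map_one φ, Ne, key]; exact hv.2)
      (by rw [← map_mul, ← map_one φ, key]; exact hv.1)
    refine ⟨(φ.symm (k * g⁻¹) : L), (φ.symm (k * g⁻¹)).2, ?_⟩
    have h6 : φ (φ.symm (k * g⁻¹) * ⟨t, htL⟩ * (φ.symm (k * g⁻¹))⁻¹) = φ ⟨v, hvL⟩ := by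
      rw [map_mul, map_mul, map_inv, φ.apply_symm_apply, ← hx, ← hg, ← hk]
      group
    exact (key _ _).1 h6
  rcases card_circ h2 with ⟨h6, h7⟩ | ⟨h6, h7⟩
  · refine ⟨1, ht, hu, htu, hne, htL, huL, Or.inl rfl, by omega, h5, hcard, ?_, hfour, hconj⟩
    rw [hcent, h7]
    push_cast [Nat.cast_sub (show 1 ≤ Nat.card F by omega)]
    ring
  · refine ⟨-1, ht, hu, htu, hne, htL, huL, Or.inr rfl, by omega, h5, hcard, ?_, hfour, hconj⟩
    rw [hcent, h7]
    push_cast
    ring

end main

end Cfsg.Agent.Classification.TypeZ.PslCompOf
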