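import Mathlib
import Cfsg.Agent.Classification.TypeZ.Gamma
import Cfsg.Agent.Classification.TypeZ.PslCompOf

/-!
# Type Z of the Gorenstein–Walter theorem, case I: the numerical glue

`S ≤ L` a Sylow 2-subgroup of `C(t)`; every involution `u ≠ t` of `S` satisfies `PslComp t u L q e`
and `C_K(u) ≤ M = N(L)`.
-/

set_option autoImplicit false
set_option linter.unusedSectionVars false

namespace Cfsg.Agent.Classification.TypeZ.EndNum

open Subgroup Cfsg DihedralGroup
open Cfsg.Agent.Classification.TypeB.Basic Cfsg.Agent.Classification.TypeB.Core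
open Cfsg.Agent.Classification.TypeZ.Bender Cfsg.Agent.Classification.TypeZ.Count
  Cfsg.Agent.Classification.TypeZ.Numbers
open Cfsg.Agent.Classification.BGDefs Cfsg.Agent.Classification.BGBasic
  Cfsg.Agent.Classification.BGOrder Cfsg.Agent.Classification.DihTypeACount
  Cfsg.Agent.Classification.DihedralCentral

variable {G : Type*} [Group G] [Finite G] {t : G} {n : ℕ} [NeZero n]
  {π : (Subgroup.centralizer ({t} : Set G)) →* DihedralGroup n}

omit [Finite G] [NeZero n] in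
/-- A homomorphism from a subgroup which is injective on `S`. -/
theorem exists_preimage {H S : Subgroup G} (π : H →* DihedralGroup n) (hS : S ≤ H) [Finite S]
    (hcard : Nat.card S = Nat.card (DihedralGroup n))
    (hinj : ∀ s : G, ∀ hs : s ∈ S, π ⟨s, hS hs⟩ = 1 → s = 1) (d : DihedralGroup n) :
    ∃ s, ∃ hs : s ∈ S, π ⟨s, hS hs⟩ = d := by
  set f : S →* DihedralGroup n := π.comp (inclusion hS) with hf
  have hf1 : Function.Injective f := by
    rw [injective_iff_map_eq_one]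
    rintro ⟨s, hs⟩ h1
    exact Subtype.ext (hinj s hs h1)
  have hfin : Finite (DihedralGroup n) := by
    apply Nat.finite_of_card_ne_zero
    rw [← hcard]
    exact Nat.card_pos.ne'
  have hf2 : Function.Bijective f :=
    (Nat.bijective_iff_injective_and_card f).2 ⟨hf1, hcard⟩
  obtain ⟨⟨s, hs⟩, h1⟩ := hf2.2 d
  exact ⟨s, hs, h1⟩

theorem exists_par_mem (hG : SubDihedral G) (h : BGHyp t n π) {S : Subgroup G}
    (hS : S ≤ centralizer ({t} : Set G)) (hcard : Nat.card S = 2 * n) (p : ZMod 2) :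
    ∃ u ∈ S, IsPar (two_dvd h) π p u := by
  have hinj : ∀ s : G, ∀ hs : s ∈ S, π ⟨s, hS hs⟩ = 1 → s = 1 := by
    intro s hs h1
    have h2 : s ∈ Kc t := by
      rw [← map_ker_eq hG h]
      exact ⟨⟨s, hS hs⟩, h1, rfl⟩
    have h3 : Odd (orderOf s) := odd_orderOf_of_mem (odd_Kc t) h2
    obtain ⟨m, -, hm⟩ := h.pow
    have h4 : orderOf s ∣ 2 ^ (m + 1) := by
      have h5 : orderOf (⟨s, hs⟩ : S) ∣ Nat.card S := orderOf_dvd_natCard _
      rw [Subgroup.orderOf_mk, hcard, hm] at h5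
      rwa [pow_succ, mul_comm]
    rw [← orderOf_eq_one_iff]
    exact Nat.Coprime.eq_one_of_dvd (Nat.Coprime.pow_right _ (Nat.coprime_two_right.2 h3)) h4
  have hfin : Finite S := inferInstance
  obtain ⟨j, hj⟩ : ∃ j : ZMod n, ZMod.castHom (two_dvd h) (ZMod 2) j = p :=
    ZMod.castHom_surjective (two_dvd h) p
  obtain ⟨s, hs, h1⟩ := exists_preimage π hS (by rw [hcard, DihedralGroup.nat_card]) hinj (sr j)
  refine ⟨s, hs, hS hs, ?_, j, h1, hj⟩
  have hss : s * s = 1 := by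
    apply hinj _ (S.mul_mem hs hs)
    have h2 : (⟨s * s, hS (S.mul_mem hs hs)⟩ : centralizer ({t} : Set G)) =
      ⟨s, hS hs⟩ * ⟨s, hS hs⟩ := rfl
    rw [h2, map_mul, h1, sr_mul_self]
  refine orderOf_eq_two hss ?_
  rintro rfl
  have h2 : (⟨1, hS hs⟩ : centralizer ({t} : Set G)) = 1 := rfl
  rw [h2, map_one] at h1
  cases h1

omit [Finite G] in
theorem isInv_of_orderOf {x : G} (hx : orderOf x = 2) : IsInv x :=
  ⟨mul_self_of_orderOf hx, ne_one_of_orderOf hx⟩

/-- The data of case I with `S ≤ L`. -/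
structure LData (t : G) (L M S : Subgroup G) (q : ℕ) (e : ℤ) : Prop where
  cent_t : S ≤ centralizer ({t} : Set G)
  le_L : S ≤ L
  le_M : L ≤ M
  norm : M ≤ normalizer (L : Set G)
  psl : ∀ u ∈ S, IsInv u → u ≠ t → PslComp t u L q e
  cent : ∀ u ∈ S, IsInv u → u ≠ t → Kc t ⊓ centralizer ({u} : Set G) ≤ M

namespace LData

variable {L M S : Subgroup G} {q : ℕ} {e : ℤ}

/-- `|K : C_K(u)| = |K : K ∩ M| |T|` -/
theorem relIndex_eq (d : LData t L M S q e) {u : G} (hu : u ∈ S) (hi : IsInv u)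
    (hne : u ≠ t) : M.relIndex (Kc t) * Nat.card (Kc t ⊓ L : Subgroup G) =
      (centralizer ({u} : Set G)).relIndex (Kc t) := by
  have hp := d.psl u hu hi hne
  exact relIndex_mul_card (odd_Kc t) hi (normalizer_Kc_le t (d.cent_t hu)) hp.mem_u d.le_M
    d.norm (d.cent u hu hi hne) (hp.inf_eq_bot (odd_Kc t) (Kc_le t))

/-- `|T| |S| = q - e` -/
theorem card_mul (hG : SubDihedral G) (h : BGHyp t n π)
    (hidx : Odd (centralizer ({t} : Set G)).index) (d : LData t L M S q e)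
    (hcard : Nat.card S = 2 * n) :
    (Nat.card (Kc t ⊓ L : Subgroup G) : ℤ) * (2 * n) = q - e := by
  obtain ⟨u, hu, hpar⟩ := exists_par_mem hG h d.cent_t hcard 0
  have hi := isInv_of_orderOf hpar.2.1
  have hp := d.psl u hu hi (par_ne_t h hpar)
  obtain ⟨m, -, hm⟩ := h.pow
  have h1 := hp.card_mul_card (K := Kc t) (S := S) (odd_Kc t) (Kc_le t) (normalizer_Kc_le t)
    (by rw [IsPGroup.iff_card]; exact ⟨m + 1, by rw [hcard, hm, pow_succ, mul_comm]⟩)
    (Gamma.odd_index hG h d.cent_t hcard hidx) d.cent_t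
    (by rw [card_centralizer hG h, hcard, mul_comm]) (d.le_L.trans Subgroup.le_normalizer)
  rw [inf_eq_left.2 d.le_L, hcard] at h1
  push_cast at h1
  exact h1

/-- COUNT versus `k ≤ p`, `p ∣ |T|`. -/
theorem false_of_le (hG : SubDihedral G) (h : BGHyp t n π)
    (hidx : Odd (centralizer ({t} : Set G)).index) (d : LData t L M S q e)
    (hcard : Nat.card S = 2 * n) (hcount : q ≤ 2 * M.relIndex (Kc t))
    {p : ℕ} (hpT : p ∣ Nat.card (Kc t ⊓ L : Subgroup G)) (hk : M.relIndex (Kc t) ≤ p) : False := by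
  have h1 := d.card_mul hG h hidx hcard
  obtain ⟨u, hu, hpar⟩ := exists_par_mem hG h d.cent_t hcard 0
  have hp := d.psl u hu (isInv_of_orderOf hpar.2.1) (par_ne_t h hpar)
  have h5 := hp.five
  obtain ⟨m, hm1, hm⟩ := h.pow
  have hn2 : 2 ≤ n := by
    rw [hm]
    calc 2 = 2 ^ 1 := rfl
      _ ≤ 2 ^ m := Nat.pow_le_pow_right (by norm_num) hm1
  have hT : 0 < Nat.card (Kc t ⊓ L : Subgroup G) := Nat.card_pos
  have h2 := Nat.le_of_dvd hT hpT
  have h3 : Nat.card (Kc t ⊓ L : Subgroup G) * (2 * n) ≤ q + 1 := by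
    have h4 : ((Nat.card (Kc t ⊓ L : Subgroup G) * (2 * n) : ℕ) : ℤ) ≤ (q + 1 : ℕ) := by
      push_cast
      rw [h1]
      rcases hp.e_eq with he | he <;> rw [he] <;> linarith
    exact_mod_cast h4
  have h4 : Nat.card (Kc t ⊓ L : Subgroup G) * 4 ≤ q + 1 :=
    (Nat.mul_le_mul_left _ (by omega)).trans h3
  omega

/-- case GAMMA, `|S| ≥ 8` -/
theorem false_of_gamma8 (hG : SubDihedral G) (h : BGHyp t n π) (h4 : 4 ≤ n)
    (hidx : Odd (centralizer ({t} : Set G)).index) (d : LData t L M S q e)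
    (hcard : Nat.card S = 2 * n) (hq : IsPrimePow q)
    {p k : ℕ} (hp : p.Prime) (hpT : p ∣ Nat.card (Kc t ⊓ L : Subgroup G)) (hk : Odd k)
    (hkp : 2 * k ≤ p + 1) (hkM : M.relIndex (Kc t) = p * k)
    (hcong : ∀ r : ℕ, r.Prime → r ∣ Nat.card (Kc t ⊓ L : Subgroup G) →
      (centralizer ({t} : Set G)).index ≡ 1 [MOD r]) : False := by
  obtain ⟨u, hu, hpar⟩ := exists_par_mem hG h d.cent_t hcard 0
  obtain ⟨w, hw, hpar'⟩ := exists_par_mem hG h d.cent_t hcard 1
  have hiu := isInv_of_orderOf hpar.2.1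
  have hiw := isInv_of_orderOf hpar'.2.1
  have hnu := par_ne_t h hpar
  have hnw := par_ne_t h hpar'
  have h1 := d.relIndex_eq hu hiu hnu
  have h2 := d.relIndex_eq hw hiw hnw
  rw [hkM] at h1 h2
  exact Gamma.false_of_gamma hG h h4 hidx hpar hpar' (d.psl u hu hiu hnu) hq d.le_M d.norm
    d.cent_t hcard d.le_L (d.cent u hu hiu hnu) hp hpT hk hkp (by rw [← h1]; ring)
    (by rw [← h2]; ring) hcong

end LData

end Cfsg.Agent.Classification.TypeZ.EndNum
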