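import Mathlib
import Cfsg.Agent.Classification.GWAbove
import Cfsg.Agent.Classification.TypeZ.Base
import Cfsg.Agent.Classification.TypeZ.Fusion
import Cfsg.Agent.Classification.TypeZ.Bridge
import Cfsg.Agent.Classification.TypeZ.EndNum
import Cfsg.Agent.Classification.TypeZ.EndII
import Cfsg.Agent.Classification.BGStructure

/-!
# Type Z of the Gorenstein–Walter theorem, case I: consequences of `S ≤ L`

* `comm_of_fixed`: `a` centralises the odd group `F` if `a ^ 2` does and the two involutions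
  `u`, `u a` have the same fixed points in `F`, fixed by both;
* `centralizes_of_fitting`: a 2-element centralising `F(K)` centralises `K`;
* `exists_bg`: the Bender–Glauberman data of `ZHyp`;
* `Data.of_mem`: `Data t v L` for all involutions `v ≠ t` of `L` commuting with `t`;
* `isCyclic_inf`: `K ∩ L` is cyclic.
-/

set_option autoImplicit false
set_option linter.unusedSectionVars false

namespace Cfsg.Agent.Classification.TypeZ.EndAct

open Subgroup Cfsg DihedralGroup
open Cfsg.Agent.Classification.TypeB.Basic Cfsg.Agent.Classification.TypeB.Core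
open Cfsg.Agent.Classification.TypeZ.Bender Cfsg.Agent.Classification.TypeZ.Count
  Cfsg.Agent.Classification.TypeZ.Numbers Cfsg.Agent.Classification.TypeZ.EndNum
open Cfsg.Agent.Classification.BGDefs Cfsg.Agent.Classification.BGBasic
  Cfsg.Agent.Classification.BGOrder Cfsg.Agent.Classification.DihTypeACount
  Cfsg.Agent.Classification.DihedralCentral
open Cfsg.Agent.OddOrderLocal Cfsg.Agent.OddOrderLocal.PiCoreOf

section general

variable {G : Type*} [Group G] [Finite G]

/-- Square roots in a group of odd order. -/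
theorem exists_sqrt {F : Subgroup G} (hF : Odd (Nat.card F)) {w : G} (hw : w ∈ F) :
    ∃ m : ℕ, w ^ m * w ^ m = w := by
  have h1 : w ^ Nat.card F = 1 := by
    have := pow_card_eq_one' (G := F) (x := ⟨w, hw⟩)
    exact congrArg Subtype.val this
  obtain ⟨m, hm⟩ := hF
  refine ⟨m + 1, ?_⟩
  rw [← pow_add]
  have h2 : m + 1 + (m + 1) = Nat.card F + 1 := by omega
  rw [h2, pow_succ, h1, one_mul]

theorem eq_of_sq_eq {F : Subgroup G} (hF : Odd (Nat.card F)) {x y : G} (hx : x ∈ F) (hy : y ∈ F)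
    (h : x * x = y * y) : x = y := by
  have h1 : ∀ z ∈ F, z ^ Nat.card F = 1 := fun z hz => by
    have := pow_card_eq_one' (G := F) (x := ⟨z, hz⟩)
    exact congrArg Subtype.val this
  obtain ⟨m, hm⟩ := hF
  have h2 : ∀ z ∈ F, z = (z * z) ^ (m + 1) := by
    intro z hz
    rw [← sq, ← pow_mul]
    have h3 : 2 * (m + 1) = Nat.card F + 1 := by omega
    rw [h3, pow_succ, h1 z hz, one_mul]
  rw [h2 x hx, h2 y hy, h]

/-- `a` centralises the odd group `F` if `a ^ 2` does and the two involutions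
`u`, `u a` have the same fixed points in `F`. -/
theorem comm_of_fixed {F : Subgroup G} (hF : Odd (Nat.card F)) {u a : G}
    (hu : u ∈ normalizer (F : Set G)) (ha : a ∈ normalizer (F : Set G)) (hu2 : u * u = 1)
    (hua : (u * a) * (u * a) = 1) (ha2 : ∀ f ∈ F, (a * a) * f = f * (a * a))
    (h1 : ∀ f ∈ F, f * u = u * f → f * (u * a) = (u * a) * f)
    (h2 : ∀ f ∈ F, f * (u * a) = (u * a) * f → f * u = u * f) :
    ∀ f ∈ F, f * a = a * f := by
  -- the two automorphisms
  have hcu : ∀ f ∈ F, u * f * u⁻¹ ∈ F := fun f hf => conj_mem_of_mem_normalizer hu hf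
  have hca : ∀ f ∈ F, a * f * a⁻¹ ∈ F := fun f hf => conj_mem_of_mem_normalizer ha hf
  have hui : u⁻¹ = u := inv_eq_of_mul_eq_one_left hu2
  -- `θ² = 1`
  have hθ2 : ∀ f ∈ F, a * (a * f * a⁻¹) * a⁻¹ = f := by
    intro f hf
    calc a * (a * f * a⁻¹) * a⁻¹ = (a * a) * f * (a * a)⁻¹ := by group
      _ = f := by rw [ha2 f hf]; group
  -- `θ υ = υ θ`
  have haua : u * a * u⁻¹ = a⁻¹ := by
    rw [hui]
    calc u * a * u = ((u * a) * (u * a)) * a⁻¹ := by group
      _ = a⁻¹ := by rw [hua, one_mul]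
  have hcomm : ∀ f ∈ F, a * (u * f * u⁻¹) * a⁻¹ = u * (a * f * a⁻¹) * u⁻¹ := by
    intro f hf
    have h3 : a = u * a⁻¹ * u⁻¹ := by
      calc a = (a⁻¹)⁻¹ := by group
        _ = (u * a * u⁻¹)⁻¹ := by rw [haua]
        _ = _ := by group
    calc a * (u * f * u⁻¹) * a⁻¹ = (u * a⁻¹ * u⁻¹) * (u * f * u⁻¹) * (u * a⁻¹ * u⁻¹)⁻¹ := by
          rw [← h3]
      _ = u * (a⁻¹ * f * a) * u⁻¹ := by group
      _ = u * (a⁻¹ * (a * (a * f * a⁻¹) * a⁻¹) * a) * u⁻¹ := by rw [hθ2 f hf]
      _ = _ := by group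
  -- fixed points of `u` are fixed by `a`
  have hfix : ∀ f ∈ F, f * u = u * f → a * f * a⁻¹ = f := by
    intro f hf hfu
    have h3 := h1 f hf hfu
    have h4 : u * (a * f) = u * (f * a) := by
      calc u * (a * f) = (u * a) * f := by group
        _ = f * (u * a) := h3.symm
        _ = (f * u) * a := by group
        _ = u * (f * a) := by rw [hfu]; group
    rw [mul_left_cancel h4]
    group
  -- elements inverted by `a` are trivial
  have key : ∀ d ∈ F, a * d * a⁻¹ = d⁻¹ → d = 1 := by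
    intro d hd hda
    set w := (u * d * u⁻¹)⁻¹ * d with hw
    have hwF : w ∈ F := F.mul_mem (F.inv_mem (hcu d hd)) hd
    obtain ⟨m, hm⟩ := exists_sqrt hF hwF
    set i := w ^ m with hi
    have hiF : i ∈ F := F.pow_mem hwF m
    -- `u` inverts `w` and `i`
    have huud : u * (u * d * u⁻¹) * u⁻¹ = d := by
      calc u * (u * d * u⁻¹) * u⁻¹ = (u * u) * d * (u * u)⁻¹ := by group
        _ = d := by rw [hu2]; group
    have huw : u * w * u⁻¹ = w⁻¹ := by
      rw [hw]
      calc u * ((u * d * u⁻¹)⁻¹ * d) * u⁻¹ = (u * (u * d * u⁻¹) * u⁻¹)⁻¹ * (u * d * u⁻¹) := by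
            simp only [mul_inv_rev, inv_inv, mul_assoc, inv_mul_cancel_left]
        _ = d⁻¹ * (u * d * u⁻¹) := by rw [huud]
        _ = _ := by group
    have hui' : u * i * u⁻¹ = i⁻¹ := by
      rw [hi, ← conj_pow, huw, inv_pow]
    -- `c = d i⁻¹` is fixed by `u`
    set c := d * i⁻¹ with hc
    have hcF : c ∈ F := F.mul_mem hd (F.inv_mem hiF)
    have hud : u * d * u⁻¹ = d * w⁻¹ := by rw [hw]; group
    have hcfix : u * c * u⁻¹ = c := by
      rw [hc]
      calc u * (d * i⁻¹) * u⁻¹ = (u * d * u⁻¹) * (u * i * u⁻¹)⁻¹ := by group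
        _ = d * w⁻¹ * i := by rw [hud, hui', inv_inv]
        _ = d * (i * i)⁻¹ * i := by rw [hm]
        _ = d * i⁻¹ := by group
    have hcu' : c * u = u * c := by
      calc c * u = (u * c * u⁻¹) * u := by rw [hcfix]
        _ = u * c := by group
    have hca' := hfix c hcF hcu'
    -- `θ i = c⁻¹ d⁻¹`
    have hid : i = c⁻¹ * d := by rw [hc]; group
    have hai : a * i * a⁻¹ = c⁻¹ * d⁻¹ := by
      calc a * i * a⁻¹ = a * (c⁻¹ * d) * a⁻¹ := by rw [← hid]
        _ = (a * c * a⁻¹)⁻¹ * (a * d * a⁻¹) := by group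
        _ = c⁻¹ * d⁻¹ := by rw [hca', hda]
    -- `(θ i)² = (d i⁻¹ d⁻¹)²`
    have haw : a * w * a⁻¹ = (u * d * u⁻¹) * d⁻¹ := by
      rw [hw]
      calc a * ((u * d * u⁻¹)⁻¹ * d) * a⁻¹ = (a * (u * d * u⁻¹) * a⁻¹)⁻¹ * (a * d * a⁻¹) := by
            group
        _ = (u * d⁻¹ * u⁻¹)⁻¹ * d⁻¹ := by rw [hcomm d hd, hda]
        _ = _ := by group
    have hsq : (a * i * a⁻¹) * (a * i * a⁻¹) = (d * i⁻¹ * d⁻¹) * (d * i⁻¹ * d⁻¹) := by
      calc (a * i * a⁻¹) * (a * i * a⁻¹) = a * (i * i) * a⁻¹ := by group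
        _ = (u * d * u⁻¹) * d⁻¹ := by rw [hm, haw]
        _ = d * (i * i)⁻¹ * d⁻¹ := by rw [hud, hm]
        _ = _ := by group
    have heq := eq_of_sq_eq hF (hca i hiF)
      (F.mul_mem (F.mul_mem hd (F.inv_mem hiF)) (F.inv_mem hd)) hsq
    rw [hai] at heq
    have hcc : c⁻¹ = c := by
      rw [hc] at heq ⊢
      exact mul_right_cancel heq
    have hc1 : c = 1 := by
      apply eq_of_sq_eq hF hcF F.one_mem
      rw [mul_one]
      nth_rewrite 1 [← hcc]
      exact inv_mul_cancel c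
    have hdi : d = i := by rw [hid, hc1, inv_one, one_mul]
    -- `d` is inverted by `u` and `a`, so fixed by `u a`
    have hudd : u * d * u⁻¹ = d⁻¹ := by
      have := hui'
      rwa [← hdi] at this
    have h5 : d * (u * a) = (u * a) * d := by
      have h6 : a * d = d⁻¹ * a := by rw [← hda]; group
      have h7 : u * d⁻¹ = d * u := by
        calc u * d⁻¹ = (u * d * u⁻¹)⁻¹ * u := by group
          _ = d * u := by rw [hudd, inv_inv]
      calc d * (u * a) = (d * u) * a := by group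
        _ = u * (d⁻¹ * a) := by rw [← h7]; group
        _ = (u * a) * d := by rw [← h6]; group
    have h6 := hfix d hd (h2 d hd h5)
    rw [hda] at h6
    apply eq_of_sq_eq hF hd F.one_mem
    rw [mul_one]
    nth_rewrite 1 [← h6]
    exact inv_mul_cancel d
  intro f hf
  have h3 : f⁻¹ * (a * f * a⁻¹) = 1 := by
    apply key _ (F.mul_mem (F.inv_mem hf) (hca f hf))
    calc a * (f⁻¹ * (a * f * a⁻¹)) * a⁻¹ = (a * f * a⁻¹)⁻¹ * (a * (a * f * a⁻¹) * a⁻¹) := by group
      _ = (a * f * a⁻¹)⁻¹ * f := by rw [hθ2 f hf]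
      _ = _ := by group
  have h4 : a * f * a⁻¹ = f := (inv_mul_eq_one.1 h3).symm
  calc f * a = (a * f * a⁻¹) * a := by rw [h4]
    _ = a * f := by group

/-- A 2-subgroup centralising `F(K)` centralises the solvable group `K` of odd order. -/
theorem centralizes_of_fitting {K A : Subgroup G} (hK : Odd (Nat.card K))
    (hs : Group.IsSolvable K) (hA : IsPGroup 2 A) (hAK : A ≤ normalizer (K : Set G))
    (h : A ≤ centralizer (fittingOf K : Set G)) : A ≤ centralizer (K : Set G) := by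
  have : Fact (Nat.Prime 2) := ⟨Nat.prime_two⟩
  have hcop : (Nat.card A).Coprime (Nat.card K) := by
    obtain ⟨m, hm⟩ := IsPGroup.iff_card.1 hA
    rw [hm]
    exact Nat.Coprime.pow_left m (Nat.coprime_two_left.2 hK)
  refine Lib.CoprimeCommutator.le_centralizer_of_commutator_le A K (fittingOf K) hAK hcop ?_ h
  refine le_trans (le_inf (comm_le' hAK) ?_) (FitCores.inf_centralizer_fittingOf_le hs)
  rw [commutator_le]
  intro k hk b hb
  rw [mem_centralizer_iff]
  intro f hf
  have h1 : ∀ g ∈ fittingOf K, b * g = g * b := fun g hg =>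
    (mem_centralizer_iff.1 (h hb) g hg).symm
  have h2 : k⁻¹ * f * k ∈ fittingOf K := by
    have := conj_mem_of_mem_normalizer (FitAux.le_normalizer_fittingOf K (K.inv_mem hk)) hf
    rwa [inv_inv] at this
  have h3 := h1 _ h2
  have h4 := h1 f hf
  have h5 : b⁻¹ * f = f * b⁻¹ := by
    rw [inv_mul_eq_iff_eq_mul, ← mul_assoc, h4, mul_assoc, mul_inv_cancel, mul_one]
  rw [commutatorElement_def]
  calc f * (k * b * k⁻¹ * b⁻¹) = k * ((k⁻¹ * f * k) * b) * k⁻¹ * b⁻¹ := by group
    _ = k * (b * (k⁻¹ * f * k)) * k⁻¹ * b⁻¹ := by rw [h3]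
    _ = k * b * k⁻¹ * (f * b⁻¹) := by group
    _ = k * b * k⁻¹ * b⁻¹ * f := by rw [← h5]; group
where
  comm_le' {A K : Subgroup G} (hAK : A ≤ normalizer (K : Set G)) : ⁅K, A⁆ ≤ K :=
    Lib.CoprimeCommutator.commutator_le_left hAK

/-- A normal `p`-subgroup lies in every Sylow `p`-subgroup. -/
theorem core_le_sylow {K T : Subgroup G} {p : ℕ} (hp : p.Prime) (hT : T ≤ K) (hTp : IsPGroup p T)
    (hcard : Nat.card T = p ^ (Nat.card K).factorization p) : piCoreOf {p} K ≤ T := by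
  have := Fact.mk hp
  have h1 : IsPGroup p (piCoreOf {p} K) := FitCores.isPGroup_piCoreOf hp _
  have h2 : T ≤ normalizer (piCoreOf {p} K : Set G) := hT.trans (le_normalizer_piCoreOf _ _)
  have h3 : IsPGroup p (T ⊔ piCoreOf {p} K : Subgroup G) :=
    hTp.to_sup_of_normal_right' h1 h2
  have h4 : T ⊔ piCoreOf {p} K ≤ K := sup_le hT (piCoreOf_le _ _)
  have h5 : Nat.card (T ⊔ piCoreOf {p} K : Subgroup G) ∣ p ^ (Nat.card K).factorization p := by
    obtain ⟨m, hm⟩ := IsPGroup.iff_card.1 h3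
    rw [hm]
    apply pow_dvd_pow
    rw [← hp.pow_dvd_iff_le_factorization Nat.card_pos.ne', ← hm]
    exact card_dvd_of_le h4
  have h6 : T = T ⊔ piCoreOf {p} K := by
    apply eq_of_le_of_card_ge le_sup_left
    rw [hcard]
    exact Nat.le_of_dvd (pow_pos hp.pos _) h5
  rw [h6]
  exact le_sup_right

end general

section zhyp

open Cfsg.Agent.Classification.TypeZ.Base Cfsg.Agent.Classification.TypeZ.Comp

universe v

variable {G : Type v} [Group G] [Finite G] {t u : G} {L : Subgroup G}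

/-- The Sylow 2-subgroups are dihedral. -/
theorem exists_dihedral (h : ZHyp G t) : ∃ m : ℕ, 1 ≤ m ∧
    (∀ P : Sylow 2 G, Nonempty ((P : Subgroup G) ≃* DihedralGroup (2 ^ m))) ∧
    ∃ π : (centralizer ({t} : Set G)) →* DihedralGroup (2 ^ m), BGHyp t (2 ^ m) π := by
  have : Fact (Nat.Prime 2) := ⟨Nat.prime_two⟩
  obtain ⟨S, hS⟩ := h.inv.isPGroup.exists_le_sylow
  have htS : t ∈ (S : Subgroup G) := hS (mem_zpowers t)
  obtain ⟨u, huS, hu, hut⟩ := EndII.exists_inv h S
  rcases Cfsg.Agent.Classification.DihReduction.isCyclic_or_dihedral h.sub _ S.2 with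
    hc | ⟨n, hn, hd⟩
  · exact absurd (EndII.isCyclic_unique hc huS htS hu h.inv) hut
  · obtain ⟨m, hm, rfl⟩ := GWAbove.exists_pow S n hn hd
    refine ⟨m, hm, fun P => ?_, ?_⟩
    · obtain ⟨e⟩ := hd
      exact ⟨(P.equiv S).trans e⟩
    · exact BGStructure.exists_hyp S m hm hd
        (fun x y hx hy => h.one x y (isInv_of_orderOf hx) (isInv_of_orderOf hy)) t
        h.inv.orderOf_eq

/-- `Data` for the other involutions of `C_L(t)`. -/
theorem data_of_mem (h : ZHyp G t) (b : Data t u L) {v : G} (hv : IsInv v) (htv : t * v = v * t)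
    (hne : v ≠ t) (hvL : v ∈ L) : Data t v L := by
  obtain ⟨y, hy, hyu, hy1⟩ := b.ex
  have hyL := b.mem_centralizer hy hyu
  have hyv : y * v = v * y := ((mem_centralizer_iff.1 hyL) v hvL).symm
  obtain ⟨k, hk, hk1, hk2⟩ := b.psl.exists_fuse h.inv hv htv hne b.mem_t hvL
  have hg : Good t v y := ⟨hv, htv, hne, hy, hy1, hyv, k, (mem_centralizer_iff.1 hyL) k hk,
    hk1, hk2⟩
  obtain ⟨L', b'⟩ := exists_data h hg
  have h1 := b.isComp hy hyu hy1
  have h2 := b'.isComp hy hyv hy1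
  rw [isComp_unique h1 h2]
  exact b'

/-- The numbers `q`, `e`. -/
theorem exists_ldata (h : ZHyp G t) (b : Data t u L) {S : Subgroup G}
    (hS : S ≤ centralizer ({t} : Set G)) (hSL : S ≤ L) :
    ∃ (q : ℕ) (e : ℤ), IsPrimePow q ∧ PslComp t u L q e ∧
      LData t L (normalizer (L : Set G)) S q e := by
  obtain ⟨F, i1, i2, hodd, h3, ⟨φ⟩⟩ := b.psl
  have hF : Nat.card F = Fintype.card F := Nat.card_eq_fintype_card
  have h5 : 5 ≤ Nat.card F := by
    rw [hF]
    obtain ⟨a, ha⟩ := hodd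
    omega
  have hodd' : Odd (Nat.card F) := by rwa [hF]
  obtain ⟨e, he⟩ := PslCompOf.exists_pslComp φ hodd' h5 h.inv b.inv_u b.comm b.ne.symm b.mem_t
    b.mem_u
  refine ⟨Nat.card F, e, by rw [hF]; exact FiniteField.isPrimePow_card F, he, hS, hSL,
    le_normalizer, le_rfl, ?_, ?_⟩
  · intro v hvS hv hne
    have htv : t * v = v * t := (mem_centralizer_singleton_iff.1 (hS hvS)).symm
    obtain ⟨e', he'⟩ := PslCompOf.exists_pslComp φ hodd' h5 h.inv hv htv hne.symm b.mem_t
      (hSL hvS)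
    have h6 : e' = e := by
      have h7 := he.four
      have h8 := he'.four
      rcases he.e_eq with h9 | h9 <;> rcases he'.e_eq with h10 | h10 <;> omega
    rwa [h6] at he'
  · intro v hvS hv hne
    have htv : t * v = v * t := (mem_centralizer_singleton_iff.1 (hS hvS)).symm
    exact (data_of_mem h b hv htv hne (hSL hvS)).inf_centralizer_le

variable {n : ℕ} [NeZero n] {π : (centralizer ({t} : Set G)) →* DihedralGroup n}

/-- Elements of `S` are determined by their image. -/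
theorem eq_one_of_map (h : ZHyp G t) (hb : BGHyp t n π) {S : Subgroup G}
    (hS : S ≤ centralizer ({t} : Set G)) (hcard : Nat.card S = 2 * n) {s : G} (hs : s ∈ S)
    (h1 : π ⟨s, hS hs⟩ = 1) : s = 1 := by
  have h2 : s ∈ Kc t := by
    rw [← map_ker_eq h.sub hb]
    exact ⟨⟨s, hS hs⟩, h1, rfl⟩
  have h3 : Odd (orderOf s) := odd_orderOf_of_mem (odd_Kc t) h2
  obtain ⟨m, -, hm⟩ := hb.pow
  have h4 : orderOf s ∣ 2 ^ (m + 1) := by
    have h5 : orderOf (⟨s, hs⟩ : S) ∣ Nat.card S := orderOf_dvd_natCard _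
    rw [Subgroup.orderOf_mk, hcard, hm] at h5
    rwa [pow_succ, mul_comm]
  rw [← orderOf_eq_one_iff]
  exact Nat.Coprime.eq_one_of_dvd (Nat.Coprime.pow_right _ (Nat.coprime_two_right.2 h3)) h4

/-- an element of `S` over a reflection is an involution `≠ t` -/
theorem inv_of_map_sr (h : ZHyp G t) (hb : BGHyp t n π) {S : Subgroup G}
    (hS : S ≤ centralizer ({t} : Set G)) (hcard : Nat.card S = 2 * n) {s : G} (hs : s ∈ S)
    {j : ZMod n} (h1 : π ⟨s, hS hs⟩ = sr j) : IsInv s ∧ s ≠ t := by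
  have hss : s * s = 1 := by
    apply eq_one_of_map h hb hS hcard (S.mul_mem hs hs)
    have h2 : (⟨s * s, hS (S.mul_mem hs hs)⟩ : centralizer ({t} : Set G)) =
      ⟨s, hS hs⟩ * ⟨s, hS hs⟩ := rfl
    rw [h2, map_mul, h1, sr_mul_self]
  refine ⟨⟨hss, ?_⟩, ?_⟩
  · rintro rfl
    have h2 : (⟨1, hS hs⟩ : centralizer ({t} : Set G)) = 1 := rfl
    rw [h2, map_one] at h1
    cases h1
  · rintro rfl
    rw [hb.map_t] at h1
    cases h1

/-- The elements of `S` over the rotations centralise `F(K)`. -/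
theorem rot_comm_fitting (h : ZHyp G t) (b : Data t u L) (hb : BGHyp t n π) {S : Subgroup G}
    (hS : S ≤ centralizer ({t} : Set G)) (hSL : S ≤ L) (hcard : Nat.card S = 2 * n) :
    ∀ (s : G) (hs : s ∈ S) (j : ZMod n), π ⟨s, hS hs⟩ = r j →
      ∀ f ∈ fittingOf (Kc t), f * s = s * f := by
  -- `C_F(v) = C_F(L)` for the involutions `v ≠ t` of `S`
  have hcent : ∀ v ∈ S, IsInv v → v ≠ t → ∀ f ∈ fittingOf (Kc t), f * v = v * f →
      ∀ l ∈ L, f * l = l * f := by
    intro v hvS hv hne f hf hfv l hl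
    have htv : t * v = v * t := (mem_centralizer_singleton_iff.1 (hS hvS)).symm
    have b' := data_of_mem h b hv htv hne (hSL hvS)
    exact ((mem_centralizer_iff.1 (b'.mem_centralizer hf hfv)) l hl).symm
  have hnF : ∀ s ∈ S, s ∈ normalizer (fittingOf (Kc t) : Set G) := fun s hs =>
    NilpotentHall.normalizer_le_normalizer_fittingOf _ (normalizer_Kc_le t (hS hs))
  obtain ⟨v, hvS, hvp⟩ := exists_par_mem h.sub hb hS hcard 0
  obtain ⟨hvC, hv2, i, hvi, -⟩ := hvp
  obtain ⟨hv, hvt⟩ := inv_of_map_sr h hb hS hcard hvS hvi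
  obtain ⟨M, -, hM⟩ := hb.pow
  intro s
  induction hN : orderOf s using Nat.strong_induction_on generalizing s with
  | _ N ih =>
    intro hs j hj
    by_cases hs1 : s = 1
    · intro f _; rw [hs1, mul_one, one_mul]
    -- `s ^ 2`
    have hss : orderOf (s * s) < orderOf s := by
      have h5 : orderOf (⟨s, hs⟩ : S) ∣ Nat.card S := orderOf_dvd_natCard _
      rw [Subgroup.orderOf_mk, hcard, hM, mul_comm, ← pow_succ] at h5
      obtain ⟨k, -, hk⟩ := (Nat.dvd_prime_pow Nat.prime_two).1 h5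
      rcases k with _ | k
      · rw [pow_zero, orderOf_eq_one_iff] at hk
        exact absurd hk hs1
      · rw [← sq, orderOf_pow' s two_ne_zero, hk, pow_succ, Nat.gcd_eq_right (Dvd.intro_left _ rfl)]
        have : 0 < 2 ^ k := by positivity
        omega
    have h2 : (⟨s * s, hS (S.mul_mem hs hs)⟩ : centralizer ({t} : Set G)) =
      ⟨s, hS hs⟩ * ⟨s, hS hs⟩ := rfl
    have hss' := ih _ (hN ▸ hss) (s * s) rfl (S.mul_mem hs hs) (j + j)
      (by rw [h2, map_mul, hj, r_mul_r])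
    -- the involution `v s`
    have hvs : v * s ∈ S := S.mul_mem hvS hs
    have h3 : π ⟨v * s, hS hvs⟩ = sr (i + j) := by
      have h4 : (⟨v * s, hS hvs⟩ : centralizer ({t} : Set G)) = ⟨v, hvC⟩ * ⟨s, hS hs⟩ := rfl
      rw [h4, map_mul, hvi, hj, sr_mul_r]
    obtain ⟨hvsi, hvst⟩ := inv_of_map_sr h hb hS hcard hvs h3
    refine comm_of_fixed (odd_of_le (FitAux.fittingOf_le _) (odd_Kc t)) (hnF v hvS) (hnF s hs)
      hv.1 hvsi.1 (fun f hf => (hss' f hf).symm) ?_ ?_
    · intro f hf hfv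
      exact hcent v hvS hv hvt f hf hfv _ (hSL hvs)
    · intro f hf hfv
      exact hcent _ hvs hvsi hvst f hf hfv _ (hSL hvS)

/-- The elements of `S` over the rotations centralise `K`. -/
theorem rot_comm (h : ZHyp G t) (b : Data t u L) (hb : BGHyp t n π) {S : Subgroup G}
    (hS : S ≤ centralizer ({t} : Set G)) (hSL : S ≤ L) (hcard : Nat.card S = 2 * n)
    {s : G} (hs : s ∈ S) {j : ZMod n} (hj : π ⟨s, hS hs⟩ = r j) {k : G} (hk : k ∈ Kc t) :
    s * k * s⁻¹ = k := by
  have h1 : zpowers s ≤ centralizer (Kc t : Set G) := by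
    apply centralizes_of_fitting (odd_Kc t) (h.ft _ (odd_Kc t))
    · obtain ⟨M, -, hM⟩ := hb.pow
      have h2 : IsPGroup 2 S := IsPGroup.of_card (n := M + 1) (by rw [hcard, hM, pow_succ, mul_comm])
      exact h2.to_le (zpowers_le.2 hs)
    · exact zpowers_le.2 (normalizer_Kc_le t (hS hs))
    · rw [zpowers_le, mem_centralizer_iff]
      intro f hf
      exact rot_comm_fitting h b hb hS hSL hcard s hs j hj f hf
  have h2 := mem_centralizer_iff.1 (h1 (mem_zpowers s)) k hk
  rw [← h2]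
  group

/-- `NonSpecial` for all primes of `F(K)`. -/
theorem nonSpecial (h : ZHyp G t) (b : Data t u L) (hb : BGHyp t n π) {S : Subgroup G}
    (hS : S ≤ centralizer ({t} : Set G)) (hSL : S ≤ L) (hcard : Nat.card S = 2 * n) {p : ℕ}
    (hp : p.Prime) (hpF : p ∣ Nat.card (fittingOf (Kc t))) : NonSpecial t p := by
  refine ⟨hp, hpF, ?_⟩
  rintro w hw hwt htw ⟨T, hTK, hTw, hTp, hTcard⟩
  have hwC : w ∈ centralizer ({t} : Set G) := mem_centralizer_singleton_iff.2 htw.symm
  obtain ⟨ε, hε⟩ : ∃ ε : ZMod 2, IsPar (two_dvd hb) π ε w := by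
    rcases par_cases hb 0 hwC hw.orderOf_eq with h1 | h1 | h1
    · exact absurd h1 hwt
    · exact ⟨_, h1⟩
    · exact ⟨_, h1⟩
  obtain ⟨v, hvS, hvp⟩ := exists_par_mem h.sub hb hS hcard ε
  obtain ⟨c, hc, hcw⟩ := par_conj hb hε hvp
  have hv := isInv_of_orderOf hvp.2.1
  have hvt := par_ne_t hb hvp
  have htv : t * v = v * t := (mem_centralizer_singleton_iff.1 (hS hvS)).symm
  have b' := data_of_mem h b hv htv hvt (hSL hvS)
  apply b'.not_special h hp hpF
  set T' := T.map (MulAut.conj c).toMonoidHom with hT'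
  have h1 : T' ≤ Kc t := by
    rintro _ ⟨x, hx, rfl⟩
    exact conj_mem_of_mem_normalizer (normalizer_Kc_le t hc) (hTK hx)
  have h2 : Nat.card T' = Nat.card T := card_map_of_injective (MulAut.conj c).injective
  have h3 : T' ≤ centralizer ({v} : Set G) := by
    rintro _ ⟨x, hx, rfl⟩
    rw [mem_centralizer_singleton_iff, ← hcw]
    have h4 := mem_centralizer_singleton_iff.1 (hTw hx)
    show c * x * c⁻¹ * (c * w * c⁻¹) = c * w * c⁻¹ * (c * x * c⁻¹)
    calc c * x * c⁻¹ * (c * w * c⁻¹) = c * (x * w) * c⁻¹ := by group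
      _ = c * (w * x) * c⁻¹ := by rw [h4]
      _ = _ := by group
  exact (core_le_sylow hp h1 (hTp.map _) (by rw [h2, hTcard])).trans h3

end zhyp

end Cfsg.Agent.Classification.TypeZ.EndAct
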