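import Mathlib

/-!
# Type Z, `|S| = 4`, `O_p(K)` nonabelian: the final divisibility contradiction

`q = 4 T + e` (`e = ±1`) a prime power, `p ∣ T`, `k = p m`, `m` odd, `2 m ≤ p + 1`, `μ = ± k T`:
then `q` does not divide `k (1 + 4 μ)(1 + 2 μ)`.
-/

set_option autoImplicit false

namespace Cfsg.Agent.Classification.TypeZ.FourEnd

/-- A prime power dividing a product of two integers without common prime divisor in it. -/
theorem dvd_or_dvd {q : ℕ} (hq : IsPrimePow q) {a b : ℤ}
    (hab : ∀ r : ℕ, r.Prime → r ∣ q → (r : ℤ) ∣ a → (r : ℤ) ∣ b → False)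
    (h : (q : ℤ) ∣ a * b) : (q : ℤ) ∣ a ∨ (q : ℤ) ∣ b := by
  obtain ⟨r, k, hr, hk, rfl⟩ := (isPrimePow_nat_iff q).1 hq
  have hrZ : Prime (r : ℤ) := Nat.prime_iff_prime_int.1 hr
  push_cast at h ⊢
  by_cases h1 : (r : ℤ) ∣ a
  · left
    refine hrZ.pow_dvd_of_dvd_mul_right k (fun h2 => ?_) h
    exact hab r hr (dvd_pow_self r (by omega)) h1 h2
  · right
    exact hrZ.pow_dvd_of_dvd_mul_left k h1 h

/-- `q ∣ k (k - d)(k - 2 d)` -/
theorem dvd_three {q : ℕ} (hq : IsPrimePow q) (hodd : Odd q) {k d : ℤ} (hd : d = 1 ∨ d = -1)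
    (h : (q : ℤ) ∣ k * ((k - d) * (k - 2 * d))) :
    (q : ℤ) ∣ k ∨ (q : ℤ) ∣ k - d ∨ (q : ℤ) ∣ k - 2 * d := by
  have hr2 : ∀ r : ℕ, r.Prime → r ∣ q → ¬ (r : ℤ) ∣ 2 := by
    intro r hr hrq h2
    have h3 : r ∣ 2 := by exact_mod_cast h2
    have h4 : r = 2 := (Nat.prime_dvd_prime_iff_eq hr Nat.prime_two).1 h3
    subst h4
    exact (Nat.not_even_iff_odd.2 hodd) (even_iff_two_dvd.2 hrq)
  have hr1 : ∀ r : ℕ, r.Prime → ¬ (r : ℤ) ∣ 1 := by
    intro r hr h1
    have h3 : r ∣ 1 := by exact_mod_cast h1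
    exact hr.one_lt.ne' (Nat.dvd_one.1 h3)
  have hrd : ∀ r : ℕ, r.Prime → ¬ (r : ℤ) ∣ d := by
    intro r hr h1
    rcases hd with rfl | rfl
    · exact hr1 r hr h1
    · exact hr1 r hr (by simpa using h1.neg_right)
  rcases dvd_or_dvd hq (a := k) (b := (k - d) * (k - 2 * d)) (by
      intro r hr hrq h1 h2
      have hrZ : Prime (r : ℤ) := Nat.prime_iff_prime_int.1 hr
      rcases hrZ.dvd_mul.1 h2 with h3 | h3
      · exact hrd r hr (by have := dvd_sub h1 h3; ring_nf at this; exact this)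
      · have h4 : (r : ℤ) ∣ 2 * d := by have := dvd_sub h1 h3; ring_nf at this ⊢; exact this
        rcases hrZ.dvd_mul.1 h4 with h5 | h5
        · exact hr2 r hr hrq h5
        · exact hrd r hr h5) h with h1 | h1
  · exact Or.inl h1
  · right
    refine dvd_or_dvd hq ?_ h1
    intro r hr hrq h2 h3
    exact hrd r hr (by have := dvd_sub h2 h3; ring_nf at this; exact this)

theorem four_end {q p m T : ℕ} {e μ : ℤ} (hq : IsPrimePow q) (he : e = 1 ∨ e = -1)
    (hqT : (q : ℤ) = 4 * T + e) (hT : 0 < T) (hpT : p ∣ T) (hp : Odd p) (hp3 : 3 ≤ p)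
    (hm : Odd m) (hmp : 2 * m ≤ p + 1) (hμ : μ = p * m * T ∨ μ = -(p * m * T))
    (hdiv : (q : ℤ) ∣ (p * m) * ((1 + 4 * μ) * (1 + 2 * μ))) : False := by
  have hqodd : Odd q := by
    rw [← Int.odd_coe_nat, hqT]
    rcases he with rfl | rfl
    · exact ⟨2 * T, by ring⟩
    · exact ⟨2 * T - 1, by ring⟩
  have hm0 : 0 < m := hm.pos
  obtain ⟨T', rfl⟩ := hpT
  have hT' : 0 < T' := Nat.pos_of_mul_pos_left hT
  obtain ⟨δ, hδ, hμδ⟩ : ∃ δ : ℤ, (δ = 1 ∨ δ = -1) ∧ μ = δ * (p * m * (p * T')) := by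
    rcases hμ with h | h
    · exact ⟨1, Or.inl rfl, by rw [h]; push_cast; ring⟩
    · exact ⟨-1, Or.inr rfl, by rw [h]; push_cast; ring⟩
  -- `d = δ e`
  obtain ⟨d, hdd⟩ : ∃ d : ℤ, d = δ * e := ⟨_, rfl⟩
  have hd : d = 1 ∨ d = -1 := by
    rcases hδ with rfl | rfl <;> rcases he with rfl | rfl <;> simp [hdd]
  have hδ2 : δ * δ = 1 := by rcases hδ with rfl | rfl <;> norm_num
  have he2 : e * e = 1 := by rcases he with rfl | rfl <;> norm_num
  have hd2 : d * d = 1 := by rcases hd with rfl | rfl <;> norm_num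
  -- reduction mod `q`
  have h1 : (q : ℤ) ∣ (p * m : ℤ) * ((p * m - d) * (p * m - 2 * d)) := by
    have hq4 : (4 : ℤ) * (p * T') = q - e := by
      push_cast at hqT; linear_combination -hqT
    have e1 : (1 : ℤ) + 4 * μ = (1 - d * (p * m)) + q * (δ * (p * m)) := by
      rw [hμδ, hdd]
      linear_combination δ * (p * m) * hq4
    have e2 : 2 * ((1 : ℤ) + 2 * μ) = (2 - d * (p * m)) + q * (δ * (p * m)) := by
      rw [hμδ, hdd]
      linear_combination δ * (p * m) * hq4
    have h2 : (q : ℤ) ∣ (p * m) * ((1 + 4 * μ) * (2 * (1 + 2 * μ))) := by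
      have : ((p : ℤ) * m) * ((1 + 4 * μ) * (2 * (1 + 2 * μ))) =
        2 * ((p * m) * ((1 + 4 * μ) * (1 + 2 * μ))) := by ring
      rw [this]; exact hdiv.mul_left 2
    rw [e1, e2] at h2
    obtain ⟨j, hj⟩ := h2
    refine ⟨j - (p * m) * ((1 - d * (p * m)) * (δ * (p * m)) + (2 - d * (p * m)) * (δ * (p * m)) +
      q * (δ * (p * m)) * (δ * (p * m))), ?_⟩
    linear_combination hj + (p * m : ℤ) * (2 - (p * m) ^ 2) * hd2
  -- bounds
  have hqge : (4 : ℤ) * p - 1 ≤ q := by
    rw [hqT]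
    have h2 : (p : ℤ) ≤ p * T' := by
      have : p * 1 ≤ p * T' := Nat.mul_le_mul_left p hT'
      rw [mul_one] at this
      exact_mod_cast this
    push_cast
    rcases he with rfl | rfl <;> linarith
  have hk : 2 * ((p : ℤ) * m) ≤ p * (p + 1) := by
    have : p * (2 * m) ≤ p * (p + 1) := Nat.mul_le_mul_left p hmp
    have h2 : (p : ℤ) * (2 * m) ≤ p * (p + 1) := by exact_mod_cast this
    linarith
  have hpZ : (3 : ℤ) ≤ p := by exact_mod_cast hp3
  have hmZ : (1 : ℤ) ≤ m := by exact_mod_cast hm0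
  have hkp : (p : ℤ) ≤ p * m := by nlinarith
  rcases dvd_three hq hqodd hd h1 with h2 | h2 | h2
  · -- `q ∣ p m`
    rcases dvd_or_dvd hq (a := p) (b := m) (by
      intro r hr hrq h3 _
      have h4 : (r : ℤ) ∣ q := by exact_mod_cast hrq
      have h5 : (r : ℤ) ∣ e := by
        have : e = q - p * (4 * T') := by push_cast at hqT; linear_combination -hqT
        rw [this]; exact dvd_sub h4 (h3.mul_right _)
      have h6 : (r : ℤ) ∣ 1 := by rw [← he2]; exact h5.mul_right _
      have h7 : r ∣ 1 := by exact_mod_cast h6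
      exact hr.one_lt.ne' (Nat.dvd_one.1 h7)) h2 with h3 | h3
    · have := Int.le_of_dvd (by omega) h3
      omega
    · have := Int.le_of_dvd (by omega) h3
      omega
  · obtain ⟨c, hc⟩ := h2
    have hpc : (p : ℤ) ∣ c + e * d := by
      refine ⟨e * (m - 4 * T' * c), ?_⟩
      rw [hqT] at hc
      push_cast at hc
      linear_combination -e * hc - c * he2
    obtain ⟨j, hj⟩ := hpc
    have hcpos : 0 < c := by
      by_contra h3
      have : (q : ℤ) * c ≤ 0 := mul_nonpos_of_nonneg_of_nonpos (by omega) (not_lt.1 h3)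
      rcases hd with rfl | rfl <;> omega
    have hbig : ¬ (p : ℤ) - 1 ≤ c := by
      intro h3
      have h4 : (4 * (p : ℤ) - 1) * (p - 1) ≤ q * c :=
        mul_le_mul hqge h3 (by omega) (by omega)
      rw [← hc] at h4
      have h5 : (p : ℤ) * m - d ≤ p * m + 1 := by rcases hd with rfl | rfl <;> omega
      nlinarith
    have hj0 : j ≤ 0 := by
      by_contra h3
      have : (p : ℤ) * 1 ≤ p * j := mul_le_mul_of_nonneg_left (by omega) (by omega)
      rcases he with rfl | rfl <;> rcases hd with rfl | rfl <;> omega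
    have hjc : c = 1 ∧ e * d = -1 := by
      have : (p : ℤ) * j ≤ 0 := mul_nonpos_of_nonneg_of_nonpos (by omega) hj0
      rcases he with rfl | rfl <;> rcases hd with rfl | rfl <;> omega
    obtain ⟨rfl, hed⟩ := hjc
    have hed' : e = -d := by rcases he with rfl | rfl <;> rcases hd with rfl | rfl <;> omega
    have h6 : (p : ℤ) * m = 2 * (2 * (p * T')) := by
      rw [hqT, hed'] at hc
      push_cast at hc
      linear_combination hc
    have h7 : Odd ((p : ℤ) * m) := by
      have := (Int.odd_coe_nat (p * m)).2 (Nat.odd_mul.2 ⟨hp, hm⟩)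
      push_cast at this; exact this
    rw [h6] at h7
    exact (Int.not_even_iff_odd.2 h7) (even_two_mul _)
  · obtain ⟨c, hc⟩ := h2
    have hpc : (p : ℤ) ∣ c + 2 * (e * d) := by
      refine ⟨e * (m - 4 * T' * c), ?_⟩
      rw [hqT] at hc
      push_cast at hc
      linear_combination -e * hc - c * he2
    obtain ⟨j, hj⟩ := hpc
    have hcpos : 0 < c := by
      by_contra h3
      have : (q : ℤ) * c ≤ 0 := mul_nonpos_of_nonneg_of_nonpos (by omega) (not_lt.1 h3)
      rcases hd with rfl | rfl <;> omega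
    have hbig : ¬ (p : ℤ) - 2 ≤ c := by
      intro h3
      have h4 : (4 * (p : ℤ) - 1) * (p - 2) ≤ q * c :=
        mul_le_mul hqge h3 (by omega) (by omega)
      rw [← hc] at h4
      have h5 : (p : ℤ) * m - 2 * d ≤ p * m + 2 := by rcases hd with rfl | rfl <;> omega
      nlinarith
    have hj0 : j ≤ 0 := by
      by_contra h3
      have : (p : ℤ) * 1 ≤ p * j := mul_le_mul_of_nonneg_left (by omega) (by omega)
      rcases he with rfl | rfl <;> rcases hd with rfl | rfl <;> omega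
    have hj1 : j = 0 := by
      by_contra h3
      have : (p : ℤ) * j ≤ p * (-1) := mul_le_mul_of_nonneg_left (by omega) (by omega)
      rcases he with rfl | rfl <;> rcases hd with rfl | rfl <;> omega
    rw [hj1, mul_zero] at hj
    have hjc : c = 2 ∧ e * d = -1 := by
      rcases he with rfl | rfl <;> rcases hd with rfl | rfl <;> omega
    obtain ⟨rfl, hed⟩ := hjc
    have hed' : e = -d := by rcases he with rfl | rfl <;> rcases hd with rfl | rfl <;> omega
    have h6 : (p : ℤ) * m = 2 * (4 * (p * T')) := by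
      rw [hqT, hed'] at hc
      push_cast at hc
      linear_combination hc
    have h7 : Odd ((p : ℤ) * m) := by
      have := (Int.odd_coe_nat (p * m)).2 (Nat.odd_mul.2 ⟨hp, hm⟩)
      push_cast at this; exact this
    rw [h6] at h7
    exact (Int.not_even_iff_odd.2 h7) (even_two_mul _)

end Cfsg.Agent.Classification.TypeZ.FourEnd
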