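import Mathlib
import Cfsg.Prelude.Def_Characters
import Cfsg.Prelude.Def_Blocks
import Cfsg.Agent.Characters.Core
import Cfsg.Agent.Characters.GaloisBasic
import Cfsg.Agent.Classification.BGOrder
import Cfsg.Agent.Classification.BGSplit
import Cfsg.Agent.Classification.BGBlockB0
import Cfsg.Agent.Classification.TypeZ.Congr

/-!
# Congruences for signed irreducible characters, and a bound from a TI-set

`F` a subgroup commuting with `t`, such that all `F`-orbits on `t ^ G - {t}` have length divisible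
by `N`. For a signed irreducible `X` with `X t = 1`, `X 1 = f`:
`n ≡ 1`, `f ∣ n`, `n / f ≡ f`, `f² ≡ 1`, `X τ ≡ f (mod N)`.
-/

set_option autoImplicit false

namespace Cfsg.Agent.Classification.TypeZ.CongrSigned

open Cfsg Cfsg.Agent.Characters Cfsg.Agent.Classification.BGOrder
  Cfsg.Agent.Classification.BGSplit Cfsg.Agent.Classification.BGBlockB0
  Cfsg.Agent.Classification.TypeZ.Congr

universe u

variable {G : Type u} [Group G]

/-- All `F`-orbits on `t ^ G - {t}` have length divisible by `N`. -/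
def OrbitDvd (t : G) (F : Subgroup G) (N : ℕ) : Prop :=
  ∀ s, IsConj t s → s ≠ t → N ∣ (Subgroup.centralizer ({s} : Set G)).relIndex F

theorem apply_one_ne_zero {X : G → ℂ} (hX : SignedIrr X) : X 1 ≠ 0 :=
  SignedIrr.apply_one_ne_zero hX

/-- **Congruence lemma, signed version.** -/
theorem congr_signed [Finite G] {X : G → ℂ} (hX : SignedIrr X) {t g : G} {F : Subgroup G}
    (hFt : ∀ a ∈ F, a * t = t * a) (hFg : ∀ a ∈ F, a * g = g * a) {N : ℕ} (h : OrbitDvd t F N) :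
    ∃ c : ℂ, IsIntegral ℤ c ∧ ((Subgroup.centralizer ({t} : Set G)).index : ℂ) * X t * X g =
      X 1 * (X (t * g) + N * c) := by
  rcases hX with h1 | h1
  · obtain ⟨c, hc, hc'⟩ := congr_mod h1 F hFt hFg h
    refine ⟨c, hc, ?_⟩
    have h0 := Core.isIrr_apply_one_ne_zero h1
    rw [← hc', Blocks.Basic.centralChar_def]
    field_simp
  · obtain ⟨c, hc, hc'⟩ := congr_mod h1 F hFt hFg h
    refine ⟨-c, hc.neg, ?_⟩
    have h0 := Core.isIrr_apply_one_ne_zero h1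
    rw [Blocks.Basic.centralChar_def] at hc'
    simp only [Pi.neg_apply] at hc' h0
    have h2 : X (t * g) = N * c - ((Subgroup.centralizer ({t} : Set G)).index : ℂ) *
        -X t / -X 1 * -X g := by linear_combination hc'
    rw [h2]
    have h3 : X 1 ≠ 0 := fun h4 => h0 (by rw [h4, neg_zero])
    field_simp
    ring

/-- An algebraic integer `c` with `N c` an integer, `N ≠ 0`, is an integer. -/
theorem exists_int_of_mul {c : ℂ} (hc : IsIntegral ℤ c) {N : ℤ} (hN : N ≠ 0) {a : ℚ}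
    (h : (N : ℂ) * c = a) : ∃ k : ℤ, c = k := by
  refine GaloisBasic.exists_int_of_isIntegral hc ⟨a / N, ?_⟩
  have hN' : (N : ℂ) ≠ 0 := by exact_mod_cast hN
  push_cast
  rw [← h, mul_div_cancel_left₀ _ hN']

section Cons

variable [Finite G] {X : G → ℂ} {t : G} {F : Subgroup G} {N : ℕ} {f : ℤ}

/-- `n ≡ 1 (mod N)` -/
theorem index_congr (hFt : ∀ a ∈ F, a * t = t * a) (h : OrbitDvd t F N) (hN : N ≠ 0) :
    (N : ℤ) ∣ ((Subgroup.centralizer ({t} : Set G)).index : ℤ) - 1 := by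
  obtain ⟨c, hc, hc'⟩ := congr_signed (g := 1) signedIrr_one hFt (by simp) h
  simp only [Pi.one_apply, mul_one, one_mul] at hc'
  obtain ⟨k, rfl⟩ := exists_int_of_mul hc (N := N) (by exact_mod_cast hN)
    (a := ((Subgroup.centralizer ({t} : Set G)).index : ℚ) - 1) (by push_cast; rw [hc']; ring)
  refine ⟨k, ?_⟩
  have : (((Subgroup.centralizer ({t} : Set G)).index : ℤ) : ℂ) - 1 = ((N * k : ℤ) : ℂ) := by
    push_cast; rw [hc']; ring
  exact_mod_cast this

/-- `f ∣ n` and `n / f ≡ f (mod N)` -/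
theorem degree_congr (hX : SignedIrr X) (hf : X 1 = f) (ht : X t = 1) (htt : t * t = 1)
    (hFt : ∀ a ∈ F, a * t = t * a) (h : OrbitDvd t F N) (hN : N ≠ 0) :
    ∃ y : ℤ, ((Subgroup.centralizer ({t} : Set G)).index : ℤ) = f * y ∧ (N : ℤ) ∣ y - f := by
  obtain ⟨c, hc, hc'⟩ := congr_signed (g := t) hX hFt hFt h
  have hf0 : (f : ℂ) ≠ 0 := by rw [← hf]; exact apply_one_ne_zero hX
  rw [htt, ht, hf, mul_one, mul_one] at hc'
  have hN0 : (N : ℂ) ≠ 0 := by exact_mod_cast hN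
  obtain ⟨k, rfl⟩ := exists_int_of_mul hc (N := N) (by exact_mod_cast hN)
    (a := ((Subgroup.centralizer ({t} : Set G)).index : ℚ) / f - f) (by
      push_cast; rw [hc']; field_simp; ring)
  refine ⟨f + N * k, ?_, ⟨k, by ring⟩⟩
  exact_mod_cast hc'

/-- `f² ≡ 1 (mod N)` -/
theorem sq_congr (hX : SignedIrr X) (hf : X 1 = f) (ht : X t = 1) (htt : t * t = 1)
    (hFt : ∀ a ∈ F, a * t = t * a) (h : OrbitDvd t F N) (hN : N ≠ 0) :
    (N : ℤ) ∣ f ^ 2 - 1 := by
  obtain ⟨y, hy, k, hk⟩ := degree_congr hX hf ht htt hFt h hN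
  obtain ⟨j, hj⟩ := index_congr hFt h hN
  refine ⟨j - f * k, ?_⟩
  rw [hy] at hj
  linear_combination hj - f * hk

/-- `X τ ≡ f (mod N)` if `X τ` is an integer and `X (t τ) = 1` -/
theorem apply_congr (hX : SignedIrr X) (hf : X 1 = f) (ht : X t = 1) (htt : t * t = 1)
    (hFt : ∀ a ∈ F, a * t = t * a) (h : OrbitDvd t F N) (hN : N ≠ 0) {τ : G}
    (hFτ : ∀ a ∈ F, a * τ = τ * a) (hτ : X (t * τ) = 1) {k : ℤ} (hk : X τ = k) :
    (N : ℤ) ∣ k - f := by
  obtain ⟨c, hc, hc'⟩ := congr_signed (g := τ) hX hFt hFτ h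
  obtain ⟨y, hy, j, hj⟩ := degree_congr hX hf ht htt hFt h hN
  obtain ⟨i, hi⟩ := sq_congr hX hf ht htt hFt h hN
  have hf0 : (f : ℂ) ≠ 0 := by rw [← hf]; exact apply_one_ne_zero hX
  have hf0' : f ≠ 0 := by exact_mod_cast hf0
  rw [ht, hτ, hf, hk, mul_one] at hc'
  obtain ⟨l, rfl⟩ := exists_int_of_mul hc (N := N) (by exact_mod_cast hN)
    (a := ((Subgroup.centralizer ({t} : Set G)).index : ℚ) * k / f - 1) (by
      push_cast; rw [hc']; field_simp; ring)
  have h1 : ((Subgroup.centralizer ({t} : Set G)).index : ℤ) * k = f * (1 + N * l) := by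
    exact_mod_cast hc'
  rw [hy, mul_assoc] at h1
  have h2 : y * k = 1 + N * l := mul_left_cancel₀ hf0' h1
  -- `y k = 1 + N l`, `y = f + N j`, `f² = 1 + N i`
  refine ⟨f * l - f * j * k - i * k, ?_⟩
  linear_combination f * h2 - f * k * hj - k * hi

end Cons

/-- **TI-bound.** If `t` is the only conjugate of `t` commuting with any element of `T#` then
`∑_{τ ∈ T#} |X τ|² ≤ |C(t)|`. -/
theorem ti_bound [Fintype G] {X : G → ℂ} (hX : SignedIrr X) {t : G} (T : Finset G)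
    (hTt : ∀ τ ∈ T, t * τ = τ * t)
    (hTI : ∀ τ ∈ T, ∀ s, IsConj t s → s * τ = τ * s → s = t) :
    ∑ τ ∈ T, ‖X τ‖ ^ 2 ≤ Nat.card (Subgroup.centralizer ({t} : Set G)) := by
  classical
  have hcl := isClassFunction_signed hX
  have hnorm : ∑ g : G, ‖X g‖ ^ 2 = (Nat.card G : ℝ) := by
    have h1 := signed_self hX
    have h2 : classInner X X = (Nat.card G : ℂ)⁻¹ * ∑ g : G, X g * (starRingEnd ℂ) (X g) := rfl
    have hc0 : (Nat.card G : ℂ) ≠ 0 := by exact_mod_cast Nat.card_pos.ne'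
    rw [h1] at h2
    have h3 : ∑ g : G, X g * (starRingEnd ℂ) (X g) = (Nat.card G : ℂ) := by
      field_simp at h2
      exact h2.symm
    have h4 : ((∑ g : G, ‖X g‖ ^ 2 : ℝ) : ℂ) = ((Nat.card G : ℝ) : ℂ) := by
      push_cast
      rw [← h3]
      refine Finset.sum_congr rfl fun g _ => ?_
      rw [Complex.mul_conj, Complex.normSq_eq_norm_sq]
      push_cast; rfl
    exact_mod_cast h4
  have h1 : ∑ p ∈ (Finset.univ : Finset G) ×ˢ T, ‖X (p.1 * p.2 * p.1⁻¹)‖ ^ 2 =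
      (Nat.card G : ℝ) * ∑ τ ∈ T, ‖X τ‖ ^ 2 := by
    rw [Finset.sum_product]
    have : ∀ x : G, ∑ τ ∈ T, ‖X (x * τ * x⁻¹)‖ ^ 2 = ∑ τ ∈ T, ‖X τ‖ ^ 2 := by
      intro x
      refine Finset.sum_congr rfl fun τ _ => ?_
      rw [hcl τ x]
    simp only [this, Finset.sum_const, Finset.card_univ, nsmul_eq_mul, Nat.card_eq_fintype_card]
  have h2 : ∑ p ∈ (Finset.univ : Finset G) ×ˢ T, ‖X (p.1 * p.2 * p.1⁻¹)‖ ^ 2 ≤
      ∑ g : G, (Nat.card (Subgroup.centralizer ({t} : Set G)) : ℝ) * ‖X g‖ ^ 2 := by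
    rw [← Finset.sum_fiberwise (s := (Finset.univ : Finset G) ×ˢ T)
      (g := fun p : G × G => p.1 * p.2 * p.1⁻¹) (f := fun p => ‖X (p.1 * p.2 * p.1⁻¹)‖ ^ 2)]
    refine Finset.sum_le_sum fun g _ => ?_
    have h3 : ∀ p ∈ ((Finset.univ : Finset G) ×ˢ T).filter (fun p => p.1 * p.2 * p.1⁻¹ = g),
        ‖X (p.1 * p.2 * p.1⁻¹)‖ ^ 2 = ‖X g‖ ^ 2 := by
      intro p hp
      rw [(Finset.mem_filter.1 hp).2]
    rw [Finset.sum_congr rfl h3, Finset.sum_const, nsmul_eq_mul]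
    refine mul_le_mul_of_nonneg_right ?_ (by positivity)
    norm_cast
    rcases Finset.eq_empty_or_nonempty
      (((Finset.univ : Finset G) ×ˢ T).filter (fun p => p.1 * p.2 * p.1⁻¹ = g)) with h4 | ⟨p₀, hp₀⟩
    · rw [h4, Finset.card_empty]; exact Nat.zero_le _
    · rw [Finset.mem_filter, Finset.mem_product] at hp₀
      have key : ∀ p ∈ ((Finset.univ : Finset G) ×ˢ T).filter
          (fun p => p.1 * p.2 * p.1⁻¹ = g), p₀.1⁻¹ * p.1 ∈
            ((Subgroup.centralizer ({t} : Set G) : Subgroup G) : Set G).toFinset := by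
        intro p hp
        rw [Finset.mem_filter, Finset.mem_product] at hp
        rw [Set.mem_toFinset, SetLike.mem_coe, Subgroup.mem_centralizer_singleton_iff]
        have e1 : (p₀.1⁻¹ * p.1) * p.2 * (p₀.1⁻¹ * p.1)⁻¹ = p₀.2 := by
          have e2 : p.1 * p.2 * p.1⁻¹ = p₀.1 * p₀.2 * p₀.1⁻¹ := by rw [hp.2, hp₀.2]
          calc (p₀.1⁻¹ * p.1) * p.2 * (p₀.1⁻¹ * p.1)⁻¹ = p₀.1⁻¹ * (p.1 * p.2 * p.1⁻¹) * p₀.1 := by
                group
            _ = p₀.2 := by rw [e2]; group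
        have e3 : (p₀.1⁻¹ * p.1) * t * (p₀.1⁻¹ * p.1)⁻¹ = t := by
          apply hTI p₀.2 hp₀.1.2 _ (isConj_iff.2 ⟨_, rfl⟩)
          rw [← e1]
          have e4 := hTt p.2 hp.1.2
          calc (p₀.1⁻¹ * p.1) * t * (p₀.1⁻¹ * p.1)⁻¹ * ((p₀.1⁻¹ * p.1) * p.2 * (p₀.1⁻¹ * p.1)⁻¹)
              = (p₀.1⁻¹ * p.1) * (t * p.2) * (p₀.1⁻¹ * p.1)⁻¹ := by group
            _ = (p₀.1⁻¹ * p.1) * (p.2 * t) * (p₀.1⁻¹ * p.1)⁻¹ := by rw [e4]
            _ = (p₀.1⁻¹ * p.1) * p.2 * (p₀.1⁻¹ * p.1)⁻¹ *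
                ((p₀.1⁻¹ * p.1) * t * (p₀.1⁻¹ * p.1)⁻¹) := by group
        rw [mul_inv_eq_iff_eq_mul] at e3
        exact e3
      have h5 := Finset.card_le_card_of_injOn (fun p : G × G => p₀.1⁻¹ * p.1) key (by
        intro p hp q hq hpq
        rw [Finset.mem_coe, Finset.mem_filter] at hp hq
        have e1 : p.1 = q.1 := mul_left_cancel hpq
        have e2 : p.1 * p.2 * p.1⁻¹ = q.1 * q.2 * q.1⁻¹ := by rw [hp.2, hq.2]
        rw [e1] at e2
        exact Prod.ext e1 (mul_left_cancel (mul_right_cancel e2)))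
      refine h5.trans (le_of_eq ?_)
      rw [Set.toFinset_card, Nat.card_eq_fintype_card]
      rfl
  rw [h1, ← Finset.mul_sum, hnorm] at h2
  have hpos : (0 : ℝ) < Nat.card G := by exact_mod_cast Nat.card_pos
  nlinarith

end Cfsg.Agent.Classification.TypeZ.CongrSigned
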