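import Mathlib

/-!
# Arithmetic of the order formula for a Klein four Sylow 2-subgroup

`n (f₁+1)(f₂+1)(f₃+1) = 8 κ² f₁ f₂ f₃`, `1 + f₁ + f₂ + f₃ = 0`, `fᵢ ≡ 1 (mod 4)`, `κ = m N`,
`n ≡ 1 (mod N)`. Under size and congruence assumptions `n = (1 + 4 μ)(1 + 2 μ)`, `μ = ± κ`.
-/

set_option autoImplicit false

namespace Cfsg.Agent.Classification.TypeZ.FourArith

/-- A proper divisor of an odd number is at most a third of it. -/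
theorem three_mul_abs_le {n d : ℤ} (hn : 0 < n) (hodd : Odd n) (hd : d ∣ n) (h : |d| ≠ n) :
    3 * |d| ≤ n := by
  obtain ⟨k, hk⟩ := (abs_dvd d n).2 hd
  have hd0 : 0 ≤ |d| := abs_nonneg d
  have hdpos : 0 < |d| := by
    rcases hd0.lt_or_eq with h1 | h1
    · exact h1
    · rw [← h1] at hk; omega
  have hkpos : 0 < k := by
    by_contra h1
    have : |d| * k ≤ 0 := mul_nonpos_of_nonneg_of_nonpos hd0 (not_lt.1 h1)
    omega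
  have hk1 : k ≠ 1 := by rintro rfl; rw [mul_one] at hk; exact h hk.symm
  have hk2 : k ≠ 2 := by
    rintro rfl
    rw [hk] at hodd
    exact (Int.not_even_iff_odd.2 hodd) ⟨|d|, by ring⟩
  have hk3 : 3 ≤ k := by omega
  nlinarith

/-- `f`'s with product relation: `y₁ + y₂ + y₃ + n = 8 κ²`. -/
theorem sum_quot {n c f₁ f₂ f₃ y₁ y₂ y₃ : ℤ} (hs : 1 + f₁ + f₂ + f₃ = 0)
    (h : n * ((f₁ + 1) * (f₂ + 1) * (f₃ + 1)) = c * (f₁ * f₂ * f₃))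
    (h1 : f₁ * y₁ = n) (h2 : f₂ * y₂ = n) (h3 : f₃ * y₃ = n) (h0 : f₁ * f₂ * f₃ ≠ 0) :
    n + y₁ + y₂ + y₃ = c := by
  apply mul_right_cancel₀ h0
  have e : n * (f₂ * f₃ + f₁ * f₃ + f₁ * f₂) = (y₁ + y₂ + y₃) * (f₁ * f₂ * f₃) := by
    have e1 : n * (f₂ * f₃) = y₁ * (f₁ * f₂ * f₃) := by rw [← h1]; ring
    have e2 : n * (f₁ * f₃) = y₂ * (f₁ * f₂ * f₃) := by rw [← h2]; ring
    have e3 : n * (f₁ * f₂) = y₃ * (f₁ * f₂ * f₃) := by rw [← h3]; ring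
    linear_combination e1 + e2 + e3
  linear_combination h - e - n * hs

/-- `n μ² = κ² (1 + 2 a μ)(1 + a μ)` gives `κ = μ l`, `n = l² (1 + 2 a μ)(1 + a μ)`. -/
theorem exists_l {n κ a μ : ℤ} (hκ0 : κ ≠ 0)
    (h5 : n * μ ^ 2 = κ ^ 2 * ((1 + 2 * a * μ) * (1 + a * μ))) :
    μ ≠ 0 ∧ ∃ l : ℤ, κ = μ * l ∧ l ≠ 0 ∧ n = l ^ 2 * ((1 + 2 * a * μ) * (1 + a * μ)) := by
  have hμ0 : μ ≠ 0 := by
    rintro rfl
    have : κ ^ 2 = 0 := by linear_combination -h5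
    exact hκ0 (pow_eq_zero_iff two_ne_zero |>.1 this)
  have hcop : IsCoprime (μ ^ 2) ((1 + 2 * a * μ) * (1 + a * μ)) := by
    apply IsCoprime.pow_left
    apply IsCoprime.mul_right
    · exact ⟨-(2 * a), 1, by ring⟩
    · exact ⟨-a, 1, by ring⟩
  have hdvd : μ ^ 2 ∣ κ ^ 2 := hcop.dvd_of_dvd_mul_right (Dvd.intro_left n h5)
  rw [Int.pow_dvd_pow_iff two_ne_zero] at hdvd
  obtain ⟨l, hl⟩ := hdvd
  refine ⟨hμ0, l, hl, ?_, ?_⟩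
  · rintro rfl; exact hκ0 (by rw [hl, mul_zero])
  · have h8 : μ ^ 2 ≠ 0 := pow_ne_zero 2 hμ0
    apply mul_right_cancel₀ h8
    rw [h5, hl]; ring

/-- If `N ∣ κ`, `(κ / N)² ≤ N` and `n ≡ 1 (mod N)`, then `l = ±1`. -/
theorem square_case {n κ m N a μ : ℤ} (hN : 1 < N) (hκ : κ = m * N) (hκ0 : κ ≠ 0)
    (hmN : m ^ 2 ≤ N) (h5 : n * μ ^ 2 = κ ^ 2 * ((1 + 2 * a * μ) * (1 + a * μ)))
    (hn1 : N ∣ n - 1) : (μ = κ ∨ μ = -κ) ∧ n = (1 + 2 * a * μ) * (1 + a * μ) := by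
  obtain ⟨hμ0, l, hl, hl0, h7⟩ := exists_l hκ0 h5
  have hlN : IsCoprime N l := by
    obtain ⟨k, hk⟩ := hn1
    refine ⟨-k, l * ((1 + 2 * a * μ) * (1 + a * μ)), ?_⟩
    linear_combination hk - h7
  have hNμ : N ∣ μ := by
    apply hlN.dvd_of_dvd_mul_right
    rw [← hl, hκ]
    exact Dvd.intro_left m rfl
  obtain ⟨j, hj⟩ := hNμ
  have hl2 : N ∣ l ^ 2 - 1 := by
    obtain ⟨k, hk⟩ := hn1
    refine ⟨k - l ^ 2 * (3 * a * j + 2 * a ^ 2 * j ^ 2 * N), ?_⟩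
    rw [h7, hj] at hk
    linear_combination hk
  have hlm : j * l = m := by
    have hN0 : N ≠ 0 := by omega
    apply mul_left_cancel₀ hN0
    rw [← mul_assoc, ← hj, ← hl, hκ, mul_comm]
  have hj0 : j ≠ 0 := by rintro rfl; exact hμ0 (by rw [hj, mul_zero])
  have hl2le : l ^ 2 ≤ N := by
    have h9 : 1 ≤ j ^ 2 := by
      have := pow_pos (abs_pos.2 hj0) 2
      rw [sq_abs] at this; omega
    have h10 : (j * l) ^ 2 = j ^ 2 * l ^ 2 := by ring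
    rw [hlm] at h10
    nlinarith [sq_nonneg l]
  have hl1 : l ^ 2 = 1 := by
    have h11 : 1 ≤ l ^ 2 := by
      have := pow_pos (abs_pos.2 hl0) 2
      rw [sq_abs] at this; omega
    have h12 : l ^ 2 - 1 = 0 := by
      apply Int.eq_zero_of_dvd_of_nonneg_of_lt (by omega) (by omega) hl2
    omega
  rw [hl1, one_mul] at h7
  refine ⟨?_, h7⟩
  have h13 : (l - 1) * (l + 1) = 0 := by linear_combination hl1
  rcases mul_eq_zero.1 h13 with h | h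
  · left; rw [hl, sub_eq_zero.1 h, mul_one]
  · right
    have : l = -1 := by linarith
    rw [hl, this]; ring

/-- **Order formula, `|S| = 2 a ≥ 8`**: if `N ∣ κ`, `(κ / N)² ≤ N`, `n ≡ 1 (mod N)` then
`f = 1 ± 2 a κ` and `n = f (f + 1) / 2`. -/
theorem main_eight {n κ m N a f : ℤ} (ha : a ≠ 0) (hN : 1 < N) (hκ : κ = m * N) (hκ0 : κ ≠ 0)
    (hmN : m ^ 2 ≤ N) (hf : 2 * a ∣ f - 1)
    (h : n * (f - 1) ^ 2 = 2 * (a * κ) ^ 2 * (f * (f + 1))) (hn1 : N ∣ n - 1) :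
    ∃ μ : ℤ, (μ = κ ∨ μ = -κ) ∧ f = 1 + 2 * a * μ ∧
      n = (1 + 2 * a * μ) * (1 + a * μ) := by
  obtain ⟨μ, hμ⟩ := hf
  have e1 : f = 1 + 2 * a * μ := by linarith
  subst e1
  have h5 : n * μ ^ 2 = κ ^ 2 * ((1 + 2 * a * μ) * (1 + a * μ)) := by
    apply mul_left_cancel₀ (show (4 * a ^ 2) ≠ 0 from
      mul_ne_zero (by norm_num) (pow_ne_zero 2 ha))
    linear_combination h
  obtain ⟨h6, h7⟩ := square_case hN hκ hκ0 hmN h5 hn1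
  exact ⟨μ, h6, rfl, h7⟩

/-- The equal case. -/
theorem equal_case {n κ m N f₁ f₂ : ℤ} (hN : 1 < N) (hκ : κ = m * N)
    (hκ0 : κ ≠ 0)
    (hmN : m ^ 2 ≤ N) (h4 : (4 : ℤ) ∣ f₁ - 1)
    (hs : 1 + f₁ + f₂ + f₂ = 0)
    (h : n * ((f₁ + 1) * (f₂ + 1) * (f₂ + 1)) = (8 * κ * κ) * (f₁ * f₂ * f₂))
    (hn1 : N ∣ n - 1) :
    ∃ μ : ℤ, (μ = κ ∨ μ = -κ) ∧ n = (1 + 4 * μ) * (1 + 2 * μ) := by
  obtain ⟨μ, hμ⟩ := h4
  have e1 : f₁ = 1 + 4 * μ := by linarith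
  have e2 : f₂ = -(1 + 2 * μ) := by linarith
  subst e1
  subst e2
  have h12 : (1 + 2 * μ) ≠ 0 := by omega
  have h5 : n * μ ^ 2 = κ ^ 2 * ((1 + 2 * 2 * μ) * (1 + 2 * μ)) := by
    have h6 : (8 * (1 + 2 * μ)) ≠ 0 := mul_ne_zero (by norm_num) h12
    apply mul_left_cancel₀ h6
    linear_combination h
  obtain ⟨h6, h7⟩ := square_case hN hκ hκ0 hmN h5 hn1
  exact ⟨μ, h6, by rw [h7]; ring⟩

/-- Everything is `≡ 3 (mod 4)`. -/
theorem mod_four {n κ f₁ f₂ f₃ : ℤ} (hκ : Odd κ) (hs : 1 + f₁ + f₂ + f₃ = 0)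
    (h1 : (4 : ℤ) ∣ f₁ - 1) (h2 : (4 : ℤ) ∣ f₂ - 1) (h3 : (4 : ℤ) ∣ f₃ - 1)
    (h : n * ((f₁ + 1) * (f₂ + 1) * (f₃ + 1)) = (8 * κ * κ) * (f₁ * f₂ * f₃)) :
    (4 : ℤ) ∣ n + 1 := by
  obtain ⟨a, ha⟩ := h1
  obtain ⟨b, hb⟩ := h2
  obtain ⟨c, hc⟩ := h3
  obtain ⟨k, hk⟩ := hκ
  obtain rfl : f₁ = 1 + 4 * a := by linarith
  obtain rfl : f₂ = 1 + 4 * b := by linarith
  obtain rfl : c = -1 - a - b := by linarith
  obtain rfl : f₃ = 1 + 4 * (-1 - a - b) := by linarith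
  subst hk
  have h4 : n * ((1 + 2 * a) * (1 + 2 * b) * (1 + 2 * (-1 - a - b))) =
      (2 * k + 1) * (2 * k + 1) * ((1 + 4 * a) * (1 + 4 * b) * (1 + 4 * (-1 - a - b))) := by
    apply mul_left_cancel₀ (show (8 : ℤ) ≠ 0 by norm_num)
    linear_combination h
  have h5 : (((n * ((1 + 2 * a) * (1 + 2 * b) * (1 + 2 * (-1 - a - b))) : ℤ)) : ZMod 4) =
      (((2 * k + 1) * (2 * k + 1) * ((1 + 4 * a) * (1 + 4 * b) * (1 + 4 * (-1 - a - b))) : ℤ)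
        : ZMod 4) := by rw [h4]
  have h6 : ((n + 1 : ℤ) : ZMod 4) = 0 := by
    push_cast at h5 ⊢
    revert h5
    generalize (n : ZMod 4) = n
    generalize (a : ZMod 4) = a
    generalize (b : ZMod 4) = b
    generalize (k : ZMod 4) = k
    revert n a b k
    decide
  exact (ZMod.intCast_zmod_eq_zero_iff_dvd (n + 1) 4).1 h6

/-- The degrees are proper divisors of `n`. -/
theorem abs_ne {n f₁ f₂ f₃ : ℤ} (hn : 3 < n) (h4 : (4 : ℤ) ∣ n + 1)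
    (hs : 1 + f₁ + f₂ + f₃ = 0)
    (h1 : (4 : ℤ) ∣ f₁ - 1) (h2 : (4 : ℤ) ∣ f₂ - 1) (h3 : (4 : ℤ) ∣ f₃ - 1)
    (hd2 : f₂ ∣ n) (hd3 : f₃ ∣ n) : |f₁| ≠ n := by
  intro h
  have hodd : Odd n := by
    obtain ⟨k, hk⟩ := h4
    exact ⟨2 * k - 1, by linarith⟩
  have key : ∀ f : ℤ, (4 : ℤ) ∣ f - 1 → |f| = n → f = -n := by
    intro f hf h
    rcases abs_choice f with h5 | h5
    · exfalso
      rw [h5] at h
      subst h
      omega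
    · omega
  have e1 := key f₁ h1 h
  have hle2 : |f₂| ≤ n := Int.le_of_dvd (by omega) ((abs_dvd f₂ n).2 hd2)
  have hle3 : |f₃| ≤ n := Int.le_of_dvd (by omega) ((abs_dvd f₃ n).2 hd3)
  have h2' := abs_le.1 hle2
  have h3' := abs_le.1 hle3
  by_cases h5 : |f₂| = n
  · have := key f₂ h2 h5
    omega
  · have h5' := three_mul_abs_le (by omega) hodd hd2 h5
    by_cases h6 : |f₃| = n
    · have := key f₃ h3 h6
      omega
    · have h6' := three_mul_abs_le (by omega) hodd hd3 h6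
      have := le_abs_self f₂
      have := le_abs_self f₃
      omega

/-- `|U| ≤ |U X|` for `X ≠ 0`. -/
theorem abs_le_mul {U X m D : ℤ} (hX : X ≠ 0) (h : U * X = m ^ 2 - D) :
    |U| ≤ m ^ 2 + |D| := by
  have h1 : |U| * |X| ≤ m ^ 2 + |D| := by
    rw [← abs_mul, h]
    calc |m ^ 2 - D| ≤ |m ^ 2| + |D| := abs_sub _ _
      _ = m ^ 2 + |D| := by rw [abs_of_nonneg (sq_nonneg m)]
  have h2 : 1 ≤ |X| := Int.one_le_abs hX
  nlinarith [abs_nonneg U]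

/-- The reduced system. -/
theorem reduced {N m U₁ U₂ U₃ X₁ X₂ X₃ : ℤ} (hN : 25 ≤ N) (hm : 0 < m)
    (hmN : (2 * m - 1) ^ 2 ≤ N) (hU1 : U₁ ≠ 0) (hU2 : U₂ ≠ 0) (hU3 : U₃ ≠ 0)
    (hX1 : X₁ ≠ 0) (hX2 : X₂ ≠ 0) (hX3 : X₃ ≠ 0)
    (h2 : 4 * N * (m ^ 2 - U₂ * X₂) = X₁ + 2 * X₃ - U₂)
    (h3 : 4 * N * (m ^ 2 - U₃ * X₃) = X₁ + 2 * X₂ - U₃)
    (h1 : 2 * N * (m ^ 2 - U₁ * X₁) = U₁ + X₁ + X₂ + X₃)
    (hU : 2 * U₁ + U₂ + U₃ = 0) :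
    U₁ = X₁ ∧ (X₁ = m ∨ X₁ = -m) := by
  have hN0 : (0 : ℤ) < N := by omega
  obtain ⟨D₂, hD2⟩ : ∃ D, D = m ^ 2 - U₂ * X₂ := ⟨_, rfl⟩
  obtain ⟨D₃, hD3⟩ : ∃ D, D = m ^ 2 - U₃ * X₃ := ⟨_, rfl⟩
  have hD1 : m ^ 2 - U₁ * X₁ = D₂ + D₃ := by
    rw [hD2, hD3]
    apply mul_left_cancel₀ (show (4 * N) ≠ 0 by omega)
    linear_combination 2 * h1 - h2 - h3 + hU
  rw [← hD2] at h2
  rw [← hD3] at h3
  -- bounds
  obtain ⟨E, hE2, hE3, hE⟩ : ∃ E : ℤ, |D₂| ≤ E ∧ |D₃| ≤ E ∧ (E = |D₂| ∨ E = |D₃|) := by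
    rcases le_total |D₂| |D₃| with h | h
    · exact ⟨|D₃|, h, le_refl _, Or.inr rfl⟩
    · exact ⟨|D₂|, le_refl _, h, Or.inl rfl⟩
  have bX1 : |X₁| ≤ m ^ 2 + 2 * E := by
    have := abs_le_mul (U := X₁) (X := U₁) (m := m) (D := D₂ + D₃) hU1 (by rw [← hD1]; ring)
    have h5 := abs_add_le D₂ D₃
    linarith
  have bX2 : |X₂| ≤ m ^ 2 + E := by
    have := abs_le_mul (U := X₂) (X := U₂) (m := m) (D := D₂) hU2 (by rw [hD2]; ring)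
    linarith
  have bX3 : |X₃| ≤ m ^ 2 + E := by
    have := abs_le_mul (U := X₃) (X := U₃) (m := m) (D := D₃) hU3 (by rw [hD3]; ring)
    linarith
  have bU2 : |U₂| ≤ m ^ 2 + E := by
    have := abs_le_mul (U := U₂) (X := X₂) (m := m) (D := D₂) hX2 (by rw [hD2]; ring)
    linarith
  have bU3 : |U₃| ≤ m ^ 2 + E := by
    have := abs_le_mul (U := U₃) (X := X₃) (m := m) (D := D₃) hX3 (by rw [hD3]; ring)
    linarith
  have c2 : 4 * N * |D₂| ≤ 4 * m ^ 2 + 5 * E := by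
    have e1 : 4 * N * |D₂| = |X₁ + 2 * X₃ - U₂| := by
      rw [← h2, abs_mul, abs_of_pos (show (0 : ℤ) < 4 * N by omega)]
    rw [e1, abs_le]
    rw [abs_le] at bX1 bX3 bU2
    constructor <;> linarith [bX1.1, bX1.2, bX3.1, bX3.2, bU2.1, bU2.2]
  have c3 : 4 * N * |D₃| ≤ 4 * m ^ 2 + 5 * E := by
    have e1 : 4 * N * |D₃| = |X₁ + 2 * X₂ - U₃| := by
      rw [← h3, abs_mul, abs_of_pos (show (0 : ℤ) < 4 * N by omega)]
    rw [e1, abs_le]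
    rw [abs_le] at bX1 bX2 bU3
    constructor <;> linarith [bX1.1, bX1.2, bX2.1, bX2.2, bU3.1, bU3.2]
  have hEnn : 0 ≤ E := le_trans (abs_nonneg _) hE2
  have c : 4 * N * E ≤ 4 * m ^ 2 + 5 * E := by
    rcases hE with h | h
    · rw [h] at c2 ⊢; exact c2
    · rw [h] at c3 ⊢; exact c3
  have hbig : 4 * m ^ 2 < 4 * N - 5 := by
    rcases (show m = 1 ∨ 2 ≤ m by omega) with h | h
    · subst h; linarith
    · nlinarith
  have hE0 : E = 0 := by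
    by_contra h
    have : 1 ≤ E := by omega
    nlinarith
  have hD20 : D₂ = 0 := abs_eq_zero.1 (le_antisymm (by rw [hE0] at hE2; exact hE2) (abs_nonneg _))
  have hD30 : D₃ = 0 := abs_eq_zero.1 (le_antisymm (by rw [hE0] at hE3; exact hE3) (abs_nonneg _))
  rw [hD20] at hD2 h2 hD1
  rw [hD30] at hD3 h3 hD1
  have e1 : X₂ = X₃ := by
    have : X₁ * (X₂ - X₃) = 0 := by
      have hu2 : U₂ = X₁ + 2 * X₃ := by linarith
      have hu3 : U₃ = X₁ + 2 * X₂ := by linarith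
      rw [hu2] at hD2
      rw [hu3] at hD3
      linear_combination hD2 - hD3
    rcases mul_eq_zero.1 this with h | h
    · exact absurd h hX1
    · linarith
  subst e1
  have hu : U₂ = X₁ + 2 * X₂ := by linarith
  have hu1 : U₁ = -U₂ := by linarith
  have e2 : X₂ = -X₁ := by
    apply mul_left_cancel₀ hU2
    rw [hu1] at hD1
    linear_combination hD1 + hD2
  rw [e2] at hu
  have e3 : U₁ = X₁ := by linarith
  refine ⟨e3, ?_⟩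
  rw [e3] at hD1
  have h13 : (X₁ - m) * (X₁ + m) = 0 := by linear_combination -hD1
  rcases mul_eq_zero.1 h13 with h | h
  · left; linarith
  · right; linarith

/-- The case `f₁ ≡ 1`, `f₂ ≡ f₃ ≡ -1 (mod N)`. -/
theorem labelled {n κ m N f₁ f₂ f₃ : ℤ} (hN : 25 ≤ N) (hNodd : Odd N) (hm : 0 < m)
    (hκodd : Odd κ) (hκ : κ = m * N) (hmN : (2 * m - 1) ^ 2 ≤ N) (hn : 0 < n)
    (h41 : (4 : ℤ) ∣ f₁ - 1) (h42 : (4 : ℤ) ∣ f₂ - 1) (h43 : (4 : ℤ) ∣ f₃ - 1)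
    (hf1 : f₁ ≠ 1) (hs : 1 + f₁ + f₂ + f₃ = 0)
    (h : n * ((f₁ + 1) * (f₂ + 1) * (f₃ + 1)) = (8 * κ * κ) * (f₁ * f₂ * f₃))
    (hn1 : N ∣ n - 1) (hd1 : f₁ ∣ n) (hd2 : f₂ ∣ n) (hd3 : f₃ ∣ n)
    (hN1 : N ∣ f₁ - 1) (hN2 : N ∣ f₂ + 1) (hN3 : N ∣ f₃ + 1) :
    ∃ μ : ℤ, (μ = κ ∨ μ = -κ) ∧ n = (1 + 4 * μ) * (1 + 2 * μ) := by
  have h4n := mod_four hκodd hs h41 h42 h43 h
  have hn3 : 3 < n := by
    obtain ⟨k, hk⟩ := hn1
    obtain ⟨j, hj⟩ := h4n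
    have hk0 : 0 < k := by
      by_contra h0
      have : N * k ≤ 0 := mul_nonpos_of_nonneg_of_nonpos (by omega) (not_lt.1 h0)
      omega
    nlinarith
  have hn0 : n ≠ 0 := by omega
  have hcop4 : IsCoprime (4 : ℤ) N := by
    obtain ⟨k, hk⟩ := hNodd
    exact ⟨-k * (k + 1), N, by rw [hk]; ring⟩
  have hcop2 : IsCoprime (2 : ℤ) N := by
    obtain ⟨k, hk⟩ := hNodd
    exact ⟨-k, 1, by rw [hk]; ring⟩
  have a2 := abs_ne hn3 h4n (show 1 + f₂ + f₁ + f₃ = 0 by linarith) h42 h41 h43 hd1 hd3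
  have a3 := abs_ne hn3 h4n (show 1 + f₃ + f₁ + f₂ = 0 by linarith) h43 h41 h42 hd1 hd2
  obtain ⟨y₁, hy1⟩ := hd1
  obtain ⟨y₂, hy2⟩ := hd2
  obtain ⟨y₃, hy3⟩ := hd3
  have h0 : f₁ * f₂ * f₃ ≠ 0 := by
    refine mul_ne_zero (mul_ne_zero ?_ ?_) ?_ <;> rintro rfl <;> omega
  have hsum := sum_quot hs h hy1.symm hy2.symm hy3.symm h0
  have cy1 : (2 : ℤ) ∣ y₁ - 1 := by
    have : (4 : ℤ) ∣ y₁ + 1 := by
      have e : y₁ + 1 = (n + 1) - (f₁ - 1) * y₁ := by rw [hy1]; ring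
      rw [e]; exact dvd_sub h4n (h41.mul_right _)
    omega
  have cy2 : (4 : ℤ) ∣ y₂ + 1 := by
    have e : y₂ + 1 = (n + 1) - (f₂ - 1) * y₂ := by rw [hy2]; ring
    rw [e]; exact dvd_sub h4n (h42.mul_right _)
  have cy3 : (4 : ℤ) ∣ y₃ + 1 := by
    have e : y₃ + 1 = (n + 1) - (f₃ - 1) * y₃ := by rw [hy3]; ring
    rw [e]; exact dvd_sub h4n (h43.mul_right _)
  have dy1 : N ∣ y₁ - 1 := by
    have e : y₁ - 1 = (n - 1) - (f₁ - 1) * y₁ := by rw [hy1]; ring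
    rw [e]; exact dvd_sub hn1 (hN1.mul_right _)
  have dy2 : N ∣ y₂ + 1 := by
    have e : y₂ + 1 = (f₂ + 1) * y₂ - (n - 1) := by rw [hy2]; ring
    rw [e]; exact dvd_sub (hN2.mul_right _) hn1
  have dy3 : N ∣ y₃ + 1 := by
    have e : y₃ + 1 = (f₃ + 1) * y₃ - (n - 1) := by rw [hy3]; ring
    rw [e]; exact dvd_sub (hN3.mul_right _) hn1
  obtain ⟨U₁, hU1⟩ := hcop4.mul_dvd h41 hN1
  obtain ⟨U₂, hU2⟩ := hcop2.mul_dvd (show (2 : ℤ) ∣ f₂ + 1 by omega) hN2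
  obtain ⟨U₃, hU3⟩ := hcop2.mul_dvd (show (2 : ℤ) ∣ f₃ + 1 by omega) hN3
  obtain ⟨X₁, hX1⟩ := hcop2.mul_dvd cy1 dy1
  obtain ⟨X₂, hX2⟩ := hcop4.mul_dvd cy2 dy2
  obtain ⟨X₃, hX3⟩ := hcop4.mul_dvd cy3 dy3
  have hN0 : N ≠ 0 := by omega
  have eU1 : f₁ = 1 + 4 * N * U₁ := by linarith
  have eU2 : f₂ = -1 + 2 * N * U₂ := by linarith
  have eU3 : f₃ = -1 + 2 * N * U₃ := by linarith
  have eX1 : y₁ = 1 + 2 * N * X₁ := by linarith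
  have eX2 : y₂ = -1 + 4 * N * X₂ := by linarith
  have eX3 : y₃ = -1 + 4 * N * X₃ := by linarith
  have nU1 : U₁ ≠ 0 := by rintro rfl; exact hf1 (by rw [eU1]; ring)
  have nU2 : U₂ ≠ 0 := by
    rintro rfl
    have : f₂ = -1 := by rw [eU2]; ring
    omega
  have nU3 : U₃ ≠ 0 := by
    rintro rfl
    have : f₃ = -1 := by rw [eU3]; ring
    omega
  have nX1 : X₁ ≠ 0 := by
    rintro rfl
    have e : y₁ = 1 := by rw [eX1]; ring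
    rw [e, mul_one] at hy1
    omega
  have nX2 : X₂ ≠ 0 := by
    rintro rfl
    have e : y₂ = -1 := by rw [eX2]; ring
    apply a2
    have : f₂ = -n := by rw [hy2, e]; ring
    rw [this, abs_neg, abs_of_pos hn]
  have nX3 : X₃ ≠ 0 := by
    rintro rfl
    have e : y₃ = -1 := by rw [eX3]; ring
    apply a3
    have : f₃ = -n := by rw [hy3, e]; ring
    rw [this, abs_neg, abs_of_pos hn]
  have hU : 2 * U₁ + U₂ + U₃ = 0 := by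
    apply mul_left_cancel₀ (show (2 * N) ≠ 0 by omega)
    rw [eU1, eU2, eU3] at hs
    linear_combination hs
  have r1 : 2 * N * (m ^ 2 - U₁ * X₁) = U₁ + X₁ + X₂ + X₃ := by
    apply mul_left_cancel₀ (show (4 * N) ≠ 0 by omega)
    rw [hκ, hy1, eU1, eX1, eX2, eX3] at hsum
    linear_combination -hsum
  have r2 : 4 * N * (m ^ 2 - U₂ * X₂) = X₁ + 2 * X₃ - U₂ := by
    apply mul_left_cancel₀ (show (2 * N) ≠ 0 by omega)
    rw [hκ, hy2, eU2, eX1, eX2, eX3] at hsum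
    linear_combination -hsum
  have r3 : 4 * N * (m ^ 2 - U₃ * X₃) = X₁ + 2 * X₂ - U₃ := by
    apply mul_left_cancel₀ (show (2 * N) ≠ 0 by omega)
    rw [hκ, hy3, eU3, eX1, eX2, eX3] at hsum
    linear_combination -hsum
  obtain ⟨h5, h6⟩ := reduced hN hm hmN nU1 nU2 nU3 nX1 nX2 nX3 r2 r3 r1 hU
  refine ⟨N * X₁, ?_, ?_⟩
  · rcases h6 with h6 | h6
    · left; rw [hκ, h6]; ring
    · right; rw [hκ, h6]; ring
  · rw [hy1, eU1, eX1, h5]; ring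

/-- **Order formula, four-group case.** -/
theorem main {n κ m N f₁ f₂ f₃ : ℤ} (hN : 25 ≤ N) (hNodd : Odd N) (hm : 0 < m)
    (hκodd : Odd κ) (hκ : κ = m * N) (hmN : (2 * m - 1) ^ 2 ≤ N) (hn : 0 < n)
    (h41 : (4 : ℤ) ∣ f₁ - 1) (h42 : (4 : ℤ) ∣ f₂ - 1) (h43 : (4 : ℤ) ∣ f₃ - 1)
    (hf1 : f₁ ≠ 1) (hf2 : f₂ ≠ 1) (hf3 : f₃ ≠ 1) (hs : 1 + f₁ + f₂ + f₃ = 0)
    (h : n * ((f₁ + 1) * (f₂ + 1) * (f₃ + 1)) = (8 * κ * κ) * (f₁ * f₂ * f₃))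
    (hn1 : N ∣ n - 1) (hd1 : f₁ ∣ n) (hd2 : f₂ ∣ n) (hd3 : f₃ ∣ n)
    (hpm : f₁ = f₂ ∨ f₁ = f₃ ∨ f₂ = f₃ ∨ ((N ∣ f₁ - 1 ∨ N ∣ f₁ + 1) ∧
      (N ∣ f₂ - 1 ∨ N ∣ f₂ + 1) ∧ (N ∣ f₃ - 1 ∨ N ∣ f₃ + 1))) :
    ∃ μ : ℤ, (μ = κ ∨ μ = -κ) ∧ n = (1 + 4 * μ) * (1 + 2 * μ) := by
  have hκ0 : κ ≠ 0 := by rintro rfl; simp at hκodd
  have hm2 : m ^ 2 ≤ N := by nlinarith
  have hsmall : ∀ a : ℤ, N ∣ a → a ≠ 0 → N ≤ |a| := fun a ha h0 =>
    Int.le_of_dvd (abs_pos.2 h0) ((dvd_abs N a).2 ha)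
  rcases hpm with h5 | h5 | h5 | ⟨c1, c2, c3⟩
  · subst h5
    exact equal_case (by omega) hκ hκ0 hm2 h43 (show 1 + f₃ + f₁ + f₁ = 0 by linarith)
      (by linear_combination h) hn1
  · subst h5
    exact equal_case (by omega) hκ hκ0 hm2 h42 (show 1 + f₂ + f₁ + f₁ = 0 by linarith)
      (by linear_combination h) hn1
  · subst h5
    exact equal_case (by omega) hκ hκ0 hm2 h41 (show 1 + f₁ + f₂ + f₂ = 0 by linarith)
      (by linear_combination h) hn1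
  · rcases c1 with c1 | c1 <;> rcases c2 with c2 | c2 <;> rcases c3 with c3 | c3
    · have := hsmall (-4) (by
        have e : (-4 : ℤ) = (f₁ - 1) + (f₂ - 1) + (f₃ - 1) := by linarith
        rw [e]; exact dvd_add (dvd_add c1 c2) c3) (by norm_num)
      norm_num at this; omega
    · have := hsmall (-2) (by
        have e : (-2 : ℤ) = (f₁ - 1) + (f₂ - 1) + (f₃ + 1) := by linarith
        rw [e]; exact dvd_add (dvd_add c1 c2) c3) (by norm_num)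
      norm_num at this; omega
    · have := hsmall (-2) (by
        have e : (-2 : ℤ) = (f₁ - 1) + (f₂ + 1) + (f₃ - 1) := by linarith
        rw [e]; exact dvd_add (dvd_add c1 c2) c3) (by norm_num)
      norm_num at this; omega
    · exact labelled hN hNodd hm hκodd hκ hmN hn h41 h42 h43 hf1 hs h hn1 hd1 hd2 hd3 c1 c2 c3
    · have := hsmall (-2) (by
        have e : (-2 : ℤ) = (f₁ + 1) + (f₂ - 1) + (f₃ - 1) := by linarith
        rw [e]; exact dvd_add (dvd_add c1 c2) c3) (by norm_num)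
      norm_num at this; omega
    · exact labelled hN hNodd hm hκodd hκ hmN hn h42 h41 h43 hf2 (by linarith)
        (by linear_combination h) hn1 hd2 hd1 hd3 c2 c1 c3
    · exact labelled hN hNodd hm hκodd hκ hmN hn h43 h41 h42 hf3 (by linarith)
        (by linear_combination h) hn1 hd3 hd1 hd2 c3 c1 c2
    · have := hsmall 2 (by
        have e : (2 : ℤ) = (f₁ + 1) + (f₂ + 1) + (f₃ + 1) := by linarith
        rw [e]; exact dvd_add (dvd_add c1 c2) c3) (by norm_num)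
      norm_num at this; omega

end Cfsg.Agent.Classification.TypeZ.FourArith
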