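import Mathlib
import Cfsg.Prelude.Def_Characters
import Cfsg.Prelude.Def_Blocks
import Cfsg.Prelude.Def_Local
import Cfsg.Agent.Characters.Core
import Cfsg.Agent.Characters.Linear
import Cfsg.Agent.Characters.GaloisIrr
import Cfsg.Agent.Classification.BGDefs
import Cfsg.Agent.Classification.BGBasic
import Cfsg.Agent.Classification.BGIsometry
import Cfsg.Agent.Classification.BGOrder
import Cfsg.Agent.Classification.BGSplit
import Cfsg.Agent.Classification.BGBlockB0
import Cfsg.Agent.Classification.BGFour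
import Cfsg.Agent.Blocks.ExistsModular
import Cfsg.Agent.Blocks.Basic
import Cfsg.Agent.S0942
import Cfsg.Agent.S0948

/-!
# The characters of the principal 2-block for a Klein four Sylow 2-subgroup

`Data h X f`: the three signed irreducible characters `X i ≠ 1` of the principal 2-block, with
degrees `f i`. They exist; if the degrees are distinct they are integer valued.
-/

set_option autoImplicit false
set_option linter.unusedSectionVars false

namespace Cfsg.Agent.Classification.TypeZ.FourChars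

open DihedralGroup Cfsg Cfsg.Agent.Classification.BGDefs Cfsg.Agent.Classification.BGBasic
  Cfsg.Agent.Classification.BGOrder Cfsg.Agent.Classification.BGSplit
  Cfsg.Agent.Classification.BGBlockB0 Cfsg.Agent.Characters Cfsg.Agent.Classification.BGFour

universe u

variable {G : Type u} [Group G] [Fintype G] {t : G}
  {π : (Subgroup.centralizer ({t} : Set G)) →* DihedralGroup 2}

/-- The non-principal signed characters of the principal block. -/
structure Data (h : BGHyp t 2 π) (X : Fin 3 → G → ℂ) (f : Fin 3 → ℤ) : Prop where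
  s : ∀ i, SignedIrr (X i)
  ortho : ∀ i j, i ≠ j → classInner (X i) (X j) = 0
  ortho_one : ∀ i, classInner (X i) 1 = 0
  one : ∀ i, X i 1 = f i
  four : ∀ i, (4 : ℤ) ∣ f i - 1
  val : ∀ i, ∀ x : Subgroup.centralizer ({t} : Set G), π x = r 1 → X i x = 1
  odd : ∀ g, Odd (orderOf g) → 1 + X 0 g + X 1 g + X 2 g = 0
  order : ((Subgroup.centralizer ({t} : Set G)).index : ℤ) * ((f 0 + 1) * (f 1 + 1) * (f 2 + 1)) =
    (8 * (kcount (two_dvd h) π 0 : ℤ) * (kcount (two_dvd h) π 1 : ℤ)) * (f 0 * f 1 * f 2)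

/-- The characters exist. -/
theorem exists_data (h : BGHyp t 2 π) (P : Sylow 2 G) (hP : IsKleinFour (P : Subgroup G)) :
    ∃ X f, Data h X f := by
  classical
  have : Fact (Nat.Prime 2) := ⟨Nat.prime_two⟩
  obtain ⟨M, hM⟩ := Blocks.ExistsModular.exists_isPModular Nat.prime_two
  have hone : ∀ s u : G, orderOf s = 2 → orderOf u = 2 → IsConj s u := fun s u hs hu =>
    (h.one_class s hs).symm.trans (h.one_class u hu)
  obtain ⟨ζ₂, ζ₃, ζ₄, ε, hε, n2, n3, n23, n24, n34, hB, hval, hd2, hd3, hd4, hreg⟩ :=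
    S0948.result M hM P hP hone
  have hεε : (ε : ℂ) * ε = 1 := by rcases hε with rfl | rfl <;> norm_num
  have hεε' : ε * ε = 1 := by rcases hε with rfl | rfl <;> norm_num
  have hB2 : ζ₂ ∈ Cfsg.principalBlock M G := by rw [hB]; exact Or.inr (Or.inl rfl)
  have hB3 : ζ₃ ∈ Cfsg.principalBlock M G := by rw [hB]; exact Or.inr (Or.inr (Or.inl rfl))
  have hB4 : ζ₄ ∈ Cfsg.principalBlock M G := by rw [hB]; exact Or.inr (Or.inr (Or.inr rfl))
  have htval := hval t h.orderOf_t
  have hpow : ∃ k : ℕ, orderOf t = 2 ^ k := ⟨1, by rw [h.orderOf_t, pow_one]⟩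
  have hv : ∀ x : Subgroup.centralizer ({t} : Set G), π x = r 1 →
      (ζ₂ : G → ℂ) x = 1 ∧ (ζ₃ : G → ℂ) x = ε ∧ (ζ₄ : G → ℂ) x = -1 := by
    intro x hx
    obtain ⟨u, hu, hxu⟩ := exists_mul h hx
    have hcore := mem_core h hu
    have e2 := S0942.result 2 M hM t hpow u hcore ζ₂ hB2
    have e3 := S0942.result 2 M hM t hpow u hcore ζ₃ hB3
    have e4 := S0942.result 2 M hM t hpow u hcore ζ₄ hB4
    rw [hxu, e2, e3, e4]
    exact htval
  -- the induced function
  have hind : indFun (Subgroup.centralizer ({t} : Set G)) (fun x => bmu (π x)) =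
      fun g => 1 + (ζ₂ : G → ℂ) g + (ε : ℂ) * (ζ₃ : G → ℂ) g - (ζ₄ : G → ℂ) g := by
    refine indFun_eq h.orderOf_t h.one_class _ ?_ (BGIsometry.supp_bmu h) _ ?_ hreg ?_
    · exact BGIsometry.isClassFunction_comp π
        (BGIsometry.isClassFunction_of_generalized (BGIsometry.isGeneralized_bmu (two_dvd h)))
    · intro g y
      have e2 := Core.isIrr_isClassFunction ζ₂.2 g y
      have e3 := Core.isIrr_isClassFunction ζ₃.2 g y
      have e4 := Core.isIrr_isClassFunction ζ₄.2 g y
      simp only [e2, e3, e4]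
    · intro x hx
      obtain ⟨j, hj, hxj⟩ := rot_of_mem_zpowers h hx
      have hj1 : j = 1 := eq_one_of_ne_zero j hj
      subst hj1
      obtain ⟨e2, e3, e4⟩ := hv x hxj
      rw [hxj, e2, e3, e4, bmu_r]
      have e5 : e 2 (((2 / 2 : ℕ) : ZMod 2) * 1) = -1 := by
        rw [mul_one]; exact e_half (by norm_num)
      rw [e5]
      linear_combination hεε
  have key := pair_formula h bmu bmu_one bmu_sr (fun p => if p = 0 then 0 else 2 * ((2 : ℕ) : ℂ))
    (sum_bmu_parity (two_dvd h)) (Finset.univ : Finset (Fin 4)) ![1, 1, (ε : ℂ), -1]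
    ![1, (ζ₂ : G → ℂ), (ζ₃ : G → ℂ), (ζ₄ : G → ℂ)]
    (by
      intro j _
      fin_cases j
      · exact signedIrr_one
      · exact Or.inl ζ₂.2
      · exact Or.inl ζ₃.2
      · exact Or.inl ζ₄.2)
    (by
      rw [hind]
      funext g
      simp [Fin.sum_univ_four]
      ring)
  have hζ2 := Blocks.Basic.irr_one_eq_charDegree ζ₂.2
  have hζ3 := Blocks.Basic.irr_one_eq_charDegree ζ₃.2
  have hζ4 := Blocks.Basic.irr_one_eq_charDegree ζ₄.2
  have hn2 : (Cfsg.charDegree (ζ₂ : G → ℂ) : ℂ) ≠ 0 := by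
    rw [← hζ2]; exact Core.isIrr_apply_one_ne_zero ζ₂.2
  have hn3 : (Cfsg.charDegree (ζ₃ : G → ℂ) : ℂ) ≠ 0 := by
    rw [← hζ3]; exact Core.isIrr_apply_one_ne_zero ζ₃.2
  have hn4 : (Cfsg.charDegree (ζ₄ : G → ℂ) : ℂ) ≠ 0 := by
    rw [← hζ4]; exact Core.isIrr_apply_one_ne_zero ζ₄.2
  have hsum := hreg 1 (by rw [orderOf_one]; exact odd_one)
  rw [hζ2, hζ3, hζ4] at hsum
  simp only [Fin.sum_univ_four, Matrix.cons_val_zero, Matrix.cons_val_one, Matrix.cons_val,
    Pi.one_apply, hζ2, hζ3, hζ4, htval.1, htval.2.1, htval.2.2] at key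
  -- `ε ζ₃` is signed
  have hs3 : SignedIrr (fun g => (ε : ℂ) * (ζ₃ : G → ℂ) g) := by
    rcases hε with rfl | rfl
    · left
      have : (fun g => ((1 : ℤ) : ℂ) * (ζ₃ : G → ℂ) g) = (ζ₃ : G → ℂ) := by funext g; simp
      rw [this]; exact ζ₃.2
    · right
      have : -(fun g => ((-1 : ℤ) : ℂ) * (ζ₃ : G → ℂ) g) = (ζ₃ : G → ℂ) := by
        funext g; simp
      rw [this]; exact ζ₃.2
  have hs4 : SignedIrr (-(ζ₄ : G → ℂ)) := Or.inr (by rw [neg_neg]; exact ζ₄.2)
  have hne : ∀ {a b : IrrCharacter G}, a ≠ b → classInner (a : G → ℂ) b = 0 := fun {a b} hab =>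
    Core.classInner_irr_ne a.2 b.2 fun h => hab (Subtype.ext h)
  have hnone : ∀ {a : IrrCharacter G}, (a : G → ℂ) ≠ 1 → classInner (a : G → ℂ) 1 = 0 :=
    fun {a} hab => Core.classInner_irr_ne a.2 Core.isIrr_one hab
  have n4 : (ζ₄ : G → ℂ) ≠ 1 := by
    intro h4
    have := htval.2.2
    rw [h4, Pi.one_apply] at this
    norm_num at this
  have hsmul : ∀ (φ : G → ℂ), classInner (fun g => (ε : ℂ) * (ζ₃ : G → ℂ) g) φ =
      ε * classInner (ζ₃ : G → ℂ) φ := by
    intro φ
    rcases hε with rfl | rfl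
    · simp
    · have : (fun g => ((-1 : ℤ) : ℂ) * (ζ₃ : G → ℂ) g) = -(ζ₃ : G → ℂ) := by funext g; simp
      rw [this, Core.classInner_neg_left]
      simp
  have i23 : classInner (ζ₂ : G → ℂ) (fun g => (ε : ℂ) * (ζ₃ : G → ℂ) g) = 0 := by
    apply inner_symm_zero
    rw [hsmul, hne n23.symm, mul_zero]
  have i32 : classInner (fun g => (ε : ℂ) * (ζ₃ : G → ℂ) g) (ζ₂ : G → ℂ) = 0 := inner_symm_zero i23
  have i24 : classInner (ζ₂ : G → ℂ) (-(ζ₄ : G → ℂ)) = 0 := by
    rw [Core.classInner_neg_right, hne n24, neg_zero]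
  have i42 : classInner (-(ζ₄ : G → ℂ)) (ζ₂ : G → ℂ) = 0 := inner_symm_zero i24
  have i34 : classInner (fun g => (ε : ℂ) * (ζ₃ : G → ℂ) g) (-(ζ₄ : G → ℂ)) = 0 := by
    rw [Core.classInner_neg_right, hsmul, hne n34, mul_zero, neg_zero]
  have i43 : classInner (-(ζ₄ : G → ℂ)) (fun g => (ε : ℂ) * (ζ₃ : G → ℂ) g) = 0 :=
    inner_symm_zero i34
  set a := Cfsg.charDegree (ζ₂ : G → ℂ) with ha
  set b := Cfsg.charDegree (ζ₃ : G → ℂ) with hb
  set c := Cfsg.charDegree (ζ₄ : G → ℂ) with hc
  refine ⟨![(ζ₂ : G → ℂ), fun g => (ε : ℂ) * (ζ₃ : G → ℂ) g, -(ζ₄ : G → ℂ)],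
    ![a, ε * b, -c], ⟨?_, ?_, ?_, ?_, ?_, ?_, ?_, ?_⟩⟩
  · intro i
    fin_cases i
    · exact Or.inl ζ₂.2
    · exact hs3
    · exact hs4
  · intro i j hij
    fin_cases i <;> fin_cases j <;> first | exact absurd rfl hij | skip
    · exact i23
    · exact i24
    · exact i32
    · exact i34
    · exact i42
    · exact i43
  · intro i
    fin_cases i
    · exact hnone n2
    · show classInner (fun g => (ε : ℂ) * (ζ₃ : G → ℂ) g) 1 = 0
      rw [hsmul, hnone n3, mul_zero]
    · show classInner (-(ζ₄ : G → ℂ)) 1 = 0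
      rw [Core.classInner_neg_left, hnone n4, neg_zero]
  · intro i
    fin_cases i
    · show (ζ₂ : G → ℂ) 1 = ((a : ℤ) : ℂ)
      rw [hζ2]; norm_cast
    · show (ε : ℂ) * (ζ₃ : G → ℂ) 1 = ((ε * b : ℤ) : ℂ)
      rw [hζ3]; push_cast; rfl
    · show -(ζ₄ : G → ℂ) 1 = ((-c : ℤ) : ℂ)
      rw [hζ4]; push_cast; rfl
  · intro i
    fin_cases i
    · exact hd2
    · obtain ⟨k, hk⟩ := hd3
      exact ⟨ε * k, by show ε * b - 1 = _; linear_combination ε * hk + hεε'⟩
    · obtain ⟨k, hk⟩ := hd4
      exact ⟨-k, by show -(c : ℤ) - 1 = _; linear_combination -hk⟩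
  · intro i x hx
    obtain ⟨e2, e3, e4⟩ := hv x hx
    fin_cases i
    · exact e2
    · show (ε : ℂ) * (ζ₃ : G → ℂ) x = 1
      rw [e3, hεε]
    · show -(ζ₄ : G → ℂ) x = 1
      rw [e4, neg_neg]
  · intro g hg
    have := hreg g hg
    show 1 + (ζ₂ : G → ℂ) g + (ε : ℂ) * (ζ₃ : G → ℂ) g + -(ζ₄ : G → ℂ) g = 0
    linear_combination this
  · have h5 : ((Subgroup.centralizer ({t} : Set G)).index : ℂ) *
        (((a : ℂ) + 1) * (ε * b + 1) * (-(c : ℂ) + 1)) =
        (8 * (kcount (two_dvd h) π 0 : ℂ) * (kcount (two_dvd h) π 1 : ℂ)) *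
          ((a : ℂ) * (ε * b) * (-(c : ℂ))) := by
      have hB0 : (ε : ℂ) * (b : ℂ) ≠ 0 :=
        mul_ne_zero (by rintro h0; rw [h0, zero_mul] at hεε; exact zero_ne_one hεε) hn3
      have e1 : (ε : ℂ) * ((ε : ℂ) ^ 2 / (b : ℂ)) = 1 / ((ε : ℂ) * b) := by
        have e2 : (ε : ℂ) ^ 2 = 1 := by rw [sq]; exact hεε
        rw [e2, mul_one_div, div_eq_div_iff hn3 hB0]
        linear_combination (b : ℂ) * hεε
      rw [e1] at key
      have e3 : (c : ℂ) = 1 + a + ε * b := by linear_combination -hsum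
      generalize (ε : ℂ) * (b : ℂ) = B at hB0 key e3 ⊢
      rw [if_pos trivial, if_neg one_ne_zero_two] at key
      have e4 : ((Subgroup.centralizer ({t} : Set G)).index : ℂ) *
          (1 + 1 / (a : ℂ) + 1 / B - 1 / (c : ℂ)) =
          8 * (kcount (two_dvd h) π 0 : ℂ) * (kcount (two_dvd h) π 1 : ℂ) := by
        push_cast at key
        linear_combination key / 2
      rw [← e4]
      field_simp
      rw [e3]
      ring
    show ((Subgroup.centralizer ({t} : Set G)).index : ℤ) *
      (((a : ℤ) + 1) * (ε * b + 1) * (-(c : ℤ) + 1)) = (8 * (kcount (two_dvd h) π 0 : ℤ) *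
        (kcount (two_dvd h) π 1 : ℤ)) * ((a : ℤ) * (ε * b) * (-(c : ℤ)))
    exact_mod_cast h5

variable {h : BGHyp t 2 π} {X : Fin 3 → G → ℂ} {f : Fin 3 → ℤ}

/-- In a simple group the degrees are not one. -/
theorem Data.f_ne_one [IsSimpleGroup G] (H : Data h X f) (i : Fin 3) : f i ≠ 1 := by
  intro hf
  have h1 : X i 1 = 1 := by rw [H.one i, hf, Int.cast_one]
  obtain ⟨k, hk0, hk, hpos, -⟩ := signed_one (X i) (H.s i)
  have hk1 : k = 1 := by
    rw [h1] at hk
    exact_mod_cast hk.symm
  have hirr := hpos (by omega)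
  obtain ⟨φ, hφ⟩ := Linear.exists_hom_of_isCharacter (Core.isIrr_isCharacter hirr) h1
  have htt : X i t = 1 := by
    have := H.val i (tt t) (by rw [map_tt h]; rfl)
    exact this
  have hker : φ.ker = ⊤ := by
    refine (Subgroup.Normal.eq_bot_or_eq_top (inferInstance : φ.ker.Normal)).resolve_left ?_
    intro hbot
    have hmem : t ∈ φ.ker := by
      rw [MonoidHom.mem_ker]
      apply Units.ext
      have := congrFun hφ t
      rw [htt] at this
      exact this.symm
    rw [hbot, Subgroup.mem_bot] at hmem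
    exact t_ne_one h hmem
  have hX : X i = 1 := by
    rw [hφ]
    funext g
    have : g ∈ φ.ker := by rw [hker]; exact Subgroup.mem_top g
    rw [MonoidHom.mem_ker] at this
    rw [this]; simp
  have := H.ortho_one i
  rw [hX, Core.classInner_irr_self Core.isIrr_one] at this
  exact one_ne_zero this

/-- The sum is rational valued: `0` on elements of odd order, `4` on the others. -/
theorem Data.sum_eq (H : Data h X f) (g : G) :
    1 + X 0 g + X 1 g + X 2 g = 0 ∨ 1 + X 0 g + X 1 g + X 2 g = 4 := by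
  rcases Nat.even_or_odd (orderOf g) with heven | hodd
  · right
    obtain ⟨x, hx⟩ := BGIsometry.exists_conj_of_even h.one_class heven
    have hmem := BGIsometry.mem_centralizer_of_mem_zpowers hx
    obtain ⟨j, hj, hxj⟩ := rot_of_mem_zpowers h (x := ⟨_, hmem⟩) hx
    have hj1 : j = 1 := eq_one_of_ne_zero j hj
    subst hj1
    have hcl : ∀ i, X i g = 1 := by
      intro i
      have h1 := isClassFunction_signed (H.s i)
      rw [← h1 g x]
      exact H.val i ⟨_, hmem⟩ hxj
    rw [hcl, hcl, hcl]; norm_num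
  · left; exact H.odd g hodd

/-- Galois conjugate of a signed character. -/
theorem signed_map (σ : ℂ ≃+* ℂ) {Y : G → ℂ} (hY : SignedIrr Y) :
    SignedIrr (fun g => σ (Y g)) := by
  rcases hY with h | h
  · exact Or.inl (GaloisIrr.isIrr_map σ h)
  · right
    have := GaloisIrr.isIrr_map σ h
    have e : (fun g => σ ((-Y) g)) = -(fun g => σ (Y g)) := by
      funext g; simp
    rwa [e] at this

/-- If the degrees are distinct the characters are rational valued. -/
theorem Data.galois (H : Data h X f) (hf : Function.Injective f) (σ : ℂ ≃+* ℂ) (i : Fin 3)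
    (g : G) : σ (X i g) = X i g := by
  classical
  have hne : ∀ a b : Fin 3, a ≠ b → X a ≠ X b := fun a b hab =>
    ne_of_inner_zero (H.s b) (H.ortho a b hab)
  have hne' : ∀ a b : Fin 3, a ≠ b → X a ≠ -X b := fun a b hab =>
    ne_neg_of_inner_zero (H.s b) (H.ortho a b hab)
  have h1ne : ∀ a, X a ≠ 1 := fun a => ne_of_inner_zero signedIrr_one (H.ortho_one a)
  have h1ne' : ∀ a, X a ≠ -1 := fun a => ne_neg_of_inner_zero signedIrr_one (H.ortho_one a)
  let Y : Fin 3 → G → ℂ := fun a g => σ (X a g)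
  have hYs : ∀ a, SignedIrr (Y a) := fun a => signed_map σ (H.s a)
  -- orthonormality of the conjugates
  have hYne : ∀ a b : Fin 3, a ≠ b → classInner (Y b) (Y a) = 0 := by
    intro a b hab
    rcases signed_inner (hYs b) (hYs a) with h0 | h0 | h0
    · exact h0
    · exfalso
      refine hne b a hab.symm (funext fun g => σ.injective (congrFun h0 g))
    · exfalso
      refine hne' b a hab.symm (funext fun g => σ.injective ?_)
      have := congrFun h0 g
      simp only [Pi.neg_apply, map_neg] at this ⊢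
      exact this
  have hY1 : ∀ a, classInner (1 : G → ℂ) (Y a) = 0 := by
    intro a
    rcases signed_inner signedIrr_one (hYs a) with h0 | h0 | h0
    · exact h0
    · exfalso
      refine h1ne a (funext fun g => σ.injective ?_)
      have := congrFun h0 g
      rw [Pi.one_apply, map_one]
      exact this.symm
    · exfalso
      refine h1ne' a (funext fun g => σ.injective ?_)
      have := congrFun h0 g
      simp only [Pi.neg_apply, Pi.one_apply, map_neg, map_one] at this ⊢
      rw [this, neg_neg]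
  -- the sums agree
  have hsum : ∀ g, X 0 g + X 1 g + X 2 g = Y 0 g + Y 1 g + Y 2 g := by
    intro g
    have e1 : σ (1 + X 0 g + X 1 g + X 2 g) = 1 + X 0 g + X 1 g + X 2 g := by
      rcases H.sum_eq g with h0 | h0
      · rw [h0, map_zero]
      · rw [h0]; exact map_ofNat σ 4
    rw [map_add, map_add, map_add, map_one] at e1
    show X 0 g + X 1 g + X 2 g = σ (X 0 g) + σ (X 1 g) + σ (X 2 g)
    linear_combination -e1
  have hsum' : X 0 + X 1 + X 2 = Y 0 + Y 1 + Y 2 := funext hsum
  -- some `X j` equals `Y i`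
  have hex : ∃ j, X j = Y i := by
    by_contra hcon
    push Not at hcon
    have hval : ∀ j, classInner (X j) (Y i) = 0 ∨ classInner (X j) (Y i) = -1 := by
      intro j
      rcases signed_inner (H.s j) (hYs i) with h0 | h0 | h0
      · exact Or.inl h0
      · exact absurd h0 (hcon j)
      · right
        rw [h0, Core.classInner_neg_left, signed_self (hYs i)]
    have hYY : classInner (Y 0 + Y 1 + Y 2) (Y i) = 1 := by
      rw [Core.classInner_add_left, Core.classInner_add_left]
      fin_cases i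
      · show classInner (Y 0) (Y 0) + classInner (Y 1) (Y 0) + classInner (Y 2) (Y 0) = 1
        rw [signed_self (hYs 0), hYne 0 1 (by decide), hYne 0 2 (by decide)]; norm_num
      · show classInner (Y 0) (Y 1) + classInner (Y 1) (Y 1) + classInner (Y 2) (Y 1) = 1
        rw [signed_self (hYs 1), hYne 1 0 (by decide), hYne 1 2 (by decide)]; norm_num
      · show classInner (Y 0) (Y 2) + classInner (Y 1) (Y 2) + classInner (Y 2) (Y 2) = 1
        rw [signed_self (hYs 2), hYne 2 0 (by decide), hYne 2 1 (by decide)]; norm_num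
    rw [← hsum', Core.classInner_add_left, Core.classInner_add_left] at hYY
    rcases hval 0 with h0 | h0 <;> rcases hval 1 with h1 | h1 <;> rcases hval 2 with h2 | h2 <;>
      rw [h0, h1, h2] at hYY <;> norm_num at hYY
  obtain ⟨j, hj⟩ := hex
  have hji : j = i := by
    apply hf
    have e1 := congrFun hj 1
    have e2 : Y i 1 = f i := by
      show σ (X i 1) = f i
      rw [H.one i, map_intCast]
    rw [H.one j, e2] at e1
    exact_mod_cast e1
  subst hji
  exact (congrFun hj g).symm

/-- If the degrees are distinct the characters are integer valued. -/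
theorem Data.exists_int (H : Data h X f) (hf : Function.Injective f) (i : Fin 3) (g : G) :
    ∃ k : ℤ, X i g = k := by
  have hint : IsIntegral ℤ (X i g) := by
    rcases H.s i with h1 | h1
    · exact GaloisBasic.isIntegral_apply (Core.isIrr_isCharacter h1) g
    · have := GaloisBasic.isIntegral_apply (Core.isIrr_isCharacter h1) g
      rw [Pi.neg_apply] at this
      have h2 := this.neg
      rwa [neg_neg] at h2
  refine GaloisBasic.exists_int_of_isIntegral hint
    (GaloisBasic.exists_rat_of_forall_ringEquiv ?_ fun σ => H.galois hf σ i g)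
  exact hint.tower_top

end Cfsg.Agent.Classification.TypeZ.FourChars
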