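import Mathlib
import Cfsg.Agent.Classification.TypeZ.FourArith
import Cfsg.Agent.Classification.TypeZ.FourChars
import Cfsg.Agent.Classification.TypeZ.CongrSigned

/-!
# Type Z, `|S| = 4`: the index of `C(t)`

`G` simple with a Klein four Sylow 2-subgroup. `F, T ≤ C(t)` commuting elementwise, `T` of odd
order; all `F`-orbits on `t ^ G - {t}` have length divisible by `N`; `t` is the only conjugate of
`t` commuting with an element of `T#`; `κ = m N` the number of involutions of `C(t)` over each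
reflection. If `m` is small compared with `N` then `|G : C(t)| = (1 + 4 μ)(1 + 2 μ)`, `μ = ± κ`.
-/

set_option autoImplicit false
set_option linter.unusedSectionVars false

namespace Cfsg.Agent.Classification.TypeZ.FourMain

open DihedralGroup Cfsg Cfsg.Agent.Classification.BGDefs Cfsg.Agent.Classification.BGBasic
  Cfsg.Agent.Classification.BGOrder Cfsg.Agent.Classification.BGSplit
  Cfsg.Agent.Classification.TypeZ.CongrSigned Cfsg.Agent.Classification.TypeZ.FourChars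

universe u

/-- `q` an odd prime power dividing `f² - 1`: `f ≡ ±1 (mod q)`. -/
theorem dvd_sub_or_add {q : ℕ} (hq : IsPrimePow q) (hodd : Odd q) {f : ℤ}
    (h : (q : ℤ) ∣ f ^ 2 - 1) : (q : ℤ) ∣ f - 1 ∨ (q : ℤ) ∣ f + 1 := by
  obtain ⟨p, k, hp, hk, rfl⟩ := (isPrimePow_nat_iff q).1 hq
  have hp2 : p ≠ 2 := by
    rintro rfl
    exact (Nat.not_even_iff_odd.2 hodd) ((Nat.even_pow.2 ⟨even_two, by omega⟩))
  have hpZ : Prime (p : ℤ) := Nat.prime_iff_prime_int.1 hp
  have h' : (p : ℤ) ^ k ∣ (f - 1) * (f + 1) := by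
    have : (f - 1) * (f + 1) = f ^ 2 - 1 := by ring
    rw [this]; exact_mod_cast h
  by_cases h1 : (p : ℤ) ∣ f - 1
  · have h2 : ¬ (p : ℤ) ∣ f + 1 := by
      intro h2
      have h3 : (p : ℤ) ∣ 2 := by
        have := dvd_sub h2 h1
        ring_nf at this
        exact this
      have h4 : p ∣ 2 := by exact_mod_cast h3
      exact hp2 ((Nat.prime_dvd_prime_iff_eq hp Nat.prime_two).1 h4)
    left
    push_cast
    exact hpZ.pow_dvd_of_dvd_mul_right k h2 h'
  · right
    push_cast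
    exact hpZ.pow_dvd_of_dvd_mul_left k h1 h'

/-- `k ≡ ±1 (mod q)` and `|k| < q - 1`: `k = ±1`. -/
theorem eq_of_small {q : ℤ} {k : ℤ} (h : q ∣ k - 1 ∨ q ∣ k + 1) (hk : |k| < q - 1) :
    k = 1 ∨ k = -1 := by
  have hk' := abs_lt.1 hk
  rcases h with ⟨j, hj⟩ | ⟨j, hj⟩
  · left
    have : j = 0 := by
      by_contra hj0
      rcases lt_or_gt_of_ne hj0 with h1 | h1
      · have : q * j ≤ q * (-1) := mul_le_mul_of_nonneg_left (by omega) (by omega)
        omega
      · have : q * 1 ≤ q * j := mul_le_mul_of_nonneg_left (by omega) (by omega)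
        omega
    rw [this] at hj; omega
  · right
    have : j = 0 := by
      by_contra hj0
      rcases lt_or_gt_of_ne hj0 with h1 | h1
      · have : q * j ≤ q * (-1) := mul_le_mul_of_nonneg_left (by omega) (by omega)
        omega
      · have : q * 1 ≤ q * j := mul_le_mul_of_nonneg_left (by omega) (by omega)
        omega
    rw [this] at hj; omega

variable {G : Type u} [Group G] [Fintype G] {t : G}
  {π : (Subgroup.centralizer ({t} : Set G)) →* DihedralGroup 2}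

/-- Some element of `T#` has a small value. -/
theorem exists_small {X : G → ℂ} (hX : SignedIrr X) (T : Subgroup G)
    (hTt : ∀ τ ∈ T, t * τ = τ * t)
    (hTI : ∀ τ ∈ T, τ ≠ 1 → ∀ s, IsConj t s → s * τ = τ * s → s = t) {B : ℕ}
    (hB : Nat.card (Subgroup.centralizer ({t} : Set G)) < (Nat.card T - 1) * B ^ 2) :
    ∃ τ ∈ T, τ ≠ 1 ∧ ‖X τ‖ < B := by
  classical
  by_contra hcon
  push Not at hcon
  have h1 := ti_bound hX ((T : Set G).toFinset.erase 1)
    (fun τ hτ => hTt τ (by simpa using (Finset.mem_erase.1 hτ).2))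
    (fun τ hτ s hs hc => hTI τ (by simpa using (Finset.mem_erase.1 hτ).2)
      (Finset.mem_erase.1 hτ).1 s hs hc)
  have h2 : ∑ τ ∈ (T : Set G).toFinset.erase 1, ((B : ℝ) ^ 2) ≤
      ∑ τ ∈ (T : Set G).toFinset.erase 1, ‖X τ‖ ^ 2 := by
    refine Finset.sum_le_sum fun τ hτ => ?_
    have h3 := hcon τ (by simpa using (Finset.mem_erase.1 hτ).2) (Finset.mem_erase.1 hτ).1
    exact pow_le_pow_left₀ (Nat.cast_nonneg B) h3 2
  rw [Finset.sum_const, Finset.card_erase_of_mem (by simp [T.one_mem]), Set.toFinset_card,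
    nsmul_eq_mul] at h2
  have h4 : Fintype.card (T : Set G) = Nat.card T := by
    rw [Nat.card_eq_fintype_card]
    rfl
  rw [h4] at h2
  have h5 : (((Nat.card T - 1) * B ^ 2 : ℕ) : ℝ) ≤
      ((Nat.card (Subgroup.centralizer ({t} : Set G)) : ℕ) : ℝ) := by
    push_cast
    exact h2.trans h1
  have h6 : (Nat.card T - 1) * B ^ 2 ≤ Nat.card (Subgroup.centralizer ({t} : Set G)) := by
    exact_mod_cast h5
  omega

/-- **Main theorem**, general form: `N` is a prime power, or `|C(t)| < (|T| - 1)(q - 1)²` for some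
prime power `q ∣ N`. -/
theorem index_eq_of_or [IsSimpleGroup G] (h : BGHyp t 2 π) (P : Sylow 2 G)
    (hP : IsKleinFour (P : Subgroup G)) (F T : Subgroup G) (hFt : ∀ a ∈ F, a * t = t * a)
    (hFT : ∀ a ∈ F, ∀ τ ∈ T, a * τ = τ * a)
    (hTK : ∀ τ ∈ T, ∃ k : Subgroup.centralizer ({t} : Set G), (k : G) = τ ∧ π k = 1)
    (hTI : ∀ τ ∈ T, τ ≠ 1 → ∀ s, IsConj t s → s * τ = τ * s → s = t)
    {N m : ℕ} (hN : OrbitDvd t F N)
    (hk0 : kcount (two_dvd h) π 0 = m * N) (hk1 : kcount (two_dvd h) π 1 = m * N)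
    (hodd : Odd (m * N)) (hN25 : 25 ≤ N) (hmN : (2 * m - 1) ^ 2 ≤ N)
    (hqq : IsPrimePow N ∨ ∃ q, IsPrimePow q ∧ q ∣ N ∧
      Nat.card (Subgroup.centralizer ({t} : Set G)) < (Nat.card T - 1) * (q - 1) ^ 2) :
    ∃ μ : ℤ, (μ = (m * N : ℤ) ∨ μ = -(m * N : ℤ)) ∧
      ((Subgroup.centralizer ({t} : Set G)).index : ℤ) = (1 + 4 * μ) * (1 + 2 * μ) := by
  classical
  obtain ⟨X, f, H⟩ := exists_data h P hP
  have hN0 : N ≠ 0 := by omega
  have hNodd : Odd N := (Nat.odd_mul.1 hodd).2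
  have hmodd : Odd m := (Nat.odd_mul.1 hodd).1
  have hm0 : 0 < m := hmodd.pos
  have htt := t_mul_t h
  have hXt : ∀ i, X i t = 1 := fun i => H.val i (tt t) (by rw [map_tt h]; rfl)
  have hTt : ∀ τ ∈ T, t * τ = τ * t := by
    intro τ hτ
    obtain ⟨k, rfl, -⟩ := hTK τ hτ
    exact (Subgroup.mem_centralizer_singleton_iff.1 k.2).symm
  have hXtτ : ∀ i, ∀ τ ∈ T, X i (t * τ) = 1 := by
    intro i τ hτ
    obtain ⟨k, rfl, hk⟩ := hTK τ hτ
    have := H.val i (tt t * k) (by rw [map_mul, hk, mul_one, map_tt h]; rfl)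
    exact this
  have hsum : 1 + f 0 + f 1 + f 2 = 0 := by
    have h1 := H.odd 1 (by rw [orderOf_one]; exact odd_one)
    rw [H.one, H.one, H.one] at h1
    exact_mod_cast h1
  have hdvd : ∀ i, f i ∣ ((Subgroup.centralizer ({t} : Set G)).index : ℤ) := by
    intro i
    obtain ⟨y, hy, -⟩ := degree_congr (H.s i) (H.one i) (hXt i) htt hFt hN hN0
    exact ⟨y, hy⟩
  have hpm : Function.Injective f → ∀ i, (N : ℤ) ∣ f i - 1 ∨ (N : ℤ) ∣ f i + 1 := by
    intro hinj i
    rcases hqq with hNpp | ⟨q, hq, hqN, hbound⟩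
    · exact dvd_sub_or_add hNpp hNodd (sq_congr (H.s i) (H.one i) (hXt i) htt hFt hN hN0)
    have hqodd : Odd q := by
      obtain ⟨k, hk⟩ := hqN
      rw [hk] at hNodd
      exact (Nat.odd_mul.1 hNodd).1
    obtain ⟨τ, hτ, hτ1, hsmall⟩ := exists_small (H.s i) T hTt hTI hbound
    obtain ⟨k, hk⟩ := H.exists_int hinj i τ
    have hkf := apply_congr (H.s i) (H.one i) (hXt i) htt hFt hN hN0
      (fun a ha => hFT a ha τ hτ) (hXtτ i τ hτ) hk
    have hq1 := dvd_sub_or_add hq hqodd ((Int.natCast_dvd_natCast.2 hqN).trans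
      (sq_congr (H.s i) (H.one i) (hXt i) htt hFt hN hN0))
    have hqk : (q : ℤ) ∣ k - f i := (Int.natCast_dvd_natCast.2 hqN).trans hkf
    have hq1' : (q : ℤ) ∣ k - 1 ∨ (q : ℤ) ∣ k + 1 := by
      rcases hq1 with h1 | h1
      · left
        have : k - 1 = (k - f i) + (f i - 1) := by ring
        rw [this]; exact dvd_add hqk h1
      · right
        have : k + 1 = (k - f i) + (f i + 1) := by ring
        rw [this]; exact dvd_add hqk h1
    have hkabs : |k| < (q : ℤ) - 1 := by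
      rw [hk] at hsmall
      have h2 : ‖(k : ℂ)‖ = ((|k| : ℤ) : ℝ) := by
        rw [Complex.norm_intCast]; norm_cast
      rw [h2] at hsmall
      have h3 : |k| < ((q - 1 : ℕ) : ℤ) := by exact_mod_cast hsmall
      have hq2 : 1 ≤ q := hq.one_lt.le
      omega
    rcases eq_of_small hq1' hkabs with h2 | h2
    · left
      rw [h2] at hkf
      have : f i - 1 = -(1 - f i) := by ring
      rw [this]; exact hkf.neg_right
    · right
      rw [h2] at hkf
      have : f i + 1 = -(-1 - f i) := by ring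
      rw [this]; exact hkf.neg_right
  have hcases : f 0 = f 1 ∨ f 0 = f 2 ∨ f 1 = f 2 ∨ (((N : ℤ) ∣ f 0 - 1 ∨ (N : ℤ) ∣ f 0 + 1) ∧
      ((N : ℤ) ∣ f 1 - 1 ∨ (N : ℤ) ∣ f 1 + 1) ∧ ((N : ℤ) ∣ f 2 - 1 ∨ (N : ℤ) ∣ f 2 + 1)) := by
    by_cases h01 : f 0 = f 1
    · exact Or.inl h01
    by_cases h02 : f 0 = f 2
    · exact Or.inr (Or.inl h02)
    by_cases h12 : f 1 = f 2
    · exact Or.inr (Or.inr (Or.inl h12))
    have hinj : Function.Injective f := by
      intro a b hab
      fin_cases a <;> fin_cases b <;> first | rfl | skip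
      · exact absurd hab h01
      · exact absurd hab h02
      · exact absurd hab.symm h01
      · exact absurd hab h12
      · exact absurd hab.symm h02
      · exact absurd hab.symm h12
    exact Or.inr (Or.inr (Or.inr ⟨hpm hinj 0, hpm hinj 1, hpm hinj 2⟩))
  have horder := H.order
  rw [hk0, hk1] at horder
  have hmNZ : (2 * (m : ℤ) - 1) ^ 2 ≤ N := by
    have h1 : ((2 * m - 1 : ℕ) : ℤ) = 2 * (m : ℤ) - 1 := by omega
    rw [← h1]; exact_mod_cast hmN
  refine FourArith.main (κ := (m * N : ℤ)) (m := m) (N := N) (f₁ := f 0) (f₂ := f 1) (f₃ := f 2)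
    (by exact_mod_cast hN25) (by exact_mod_cast hNodd) (by exact_mod_cast hm0) ?_ rfl hmNZ
    (by exact_mod_cast Nat.pos_of_ne_zero Subgroup.index_ne_zero_of_finite)
    (H.four 0) (H.four 1) (H.four 2) (H.f_ne_one 0) (H.f_ne_one 1) (H.f_ne_one 2) hsum ?_
    (index_congr hFt hN hN0) (hdvd 0) (hdvd 1) (hdvd 2) hcases
  · have := (Int.odd_coe_nat (m * N)).2 hodd
    push_cast at this
    exact this
  · push_cast at horder
    exact horder

/-- **Main theorem.** -/
theorem index_eq [IsSimpleGroup G] (h : BGHyp t 2 π) (P : Sylow 2 G)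
    (hP : IsKleinFour (P : Subgroup G)) (F T : Subgroup G) (hFt : ∀ a ∈ F, a * t = t * a)
    (hFT : ∀ a ∈ F, ∀ τ ∈ T, a * τ = τ * a)
    (hTK : ∀ τ ∈ T, ∃ k : Subgroup.centralizer ({t} : Set G), (k : G) = τ ∧ π k = 1)
    (hTI : ∀ τ ∈ T, τ ≠ 1 → ∀ s, IsConj t s → s * τ = τ * s → s = t)
    {N m q : ℕ} (hN : OrbitDvd t F N)
    (hk0 : kcount (two_dvd h) π 0 = m * N) (hk1 : kcount (two_dvd h) π 1 = m * N)
    (hodd : Odd (m * N)) (hN25 : 25 ≤ N) (hmN : (2 * m - 1) ^ 2 ≤ N) (hq : IsPrimePow q)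
    (hqN : q ∣ N)
    (hbound : Nat.card (Subgroup.centralizer ({t} : Set G)) < (Nat.card T - 1) * (q - 1) ^ 2) :
    ∃ μ : ℤ, (μ = (m * N : ℤ) ∨ μ = -(m * N : ℤ)) ∧
      ((Subgroup.centralizer ({t} : Set G)).index : ℤ) = (1 + 4 * μ) * (1 + 2 * μ) :=
  index_eq_of_or h P hP F T hFt hFT hTK hTI hN hk0 hk1 hodd hN25 hmN (Or.inr ⟨q, hq, hqN, hbound⟩)

end Cfsg.Agent.Classification.TypeZ.FourMain
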