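import Mathlib
import Cfsg.Agent.Lib.PSL2Odd
import Cfsg.Agent.Classification.TypeZ.Base
import Cfsg.Agent.Classification.TypeZ.Bridge

/-!
# Type Z of the Gorenstein–Walter theorem: the torus `T = K ∩ L`
-/

set_option autoImplicit false

namespace Cfsg.Agent.Classification.TypeZ.Torus

open Subgroup Cfsg
open Cfsg.Agent.Classification.TypeB.Basic Cfsg.Agent.Classification.TypeB.Core
open Cfsg.Agent.OddOrderLocal Cfsg.Agent.OddOrderLocal.PiCoreOf
open Cfsg.Agent.Classification.TypeZ.Bender Cfsg.Agent.Classification.TypeZ.Comp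
open Cfsg.Agent.Classification.TypeZ.Base
open Cfsg.Agent.Classification.TypeZ.Refl

universe u

section psl

variable {G : Type u} [Group G] {t u c : G} {L : Subgroup G}

theorem comm_of_comm (hL : IsPsl L) (ht : IsInv t) (htL : t ∈ L) (hc : c ∈ L)
    (hct : c * t = t * c) (hc1 : c ≠ 1) (ho : Odd (orderOf c)) {y : G} (hy : y ∈ L)
    (hyc : y * c = c * y) : y * t = t * y := by
  obtain ⟨F, i1, i2, hodd, -, ⟨e⟩⟩ := hL
  have h1 := Cfsg.Agent.Lib.PSL2Odd.comm_of_comm (two_ne_zero hodd) (a := e ⟨t, htL⟩)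
    (c := e ⟨c, hc⟩) (y := e ⟨y, hy⟩)
    (fun hh => ht.2 (congrArg Subtype.val ((map_eq_one_iff e e.injective).1 hh)))
    (by
      rw [← map_mul]
      have : (⟨t, htL⟩ * ⟨t, htL⟩ : L) = 1 := Subtype.ext ht.1
      rw [this, map_one])
    (by
      rw [← map_mul, ← map_mul]
      congr 1
      exact Subtype.ext hct)
    (fun hh => hc1 (congrArg Subtype.val ((map_eq_one_iff e e.injective).1 hh)))
    (by
      rw [MulEquiv.orderOf_eq, Subgroup.orderOf_mk]
      exact ho)
    (by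
      rw [← map_mul, ← map_mul]
      congr 1
      exact Subtype.ext hyc)
  rw [← map_mul, ← map_mul] at h1
  exact congrArg Subtype.val (e.injective h1)

/-- `t` is the only involution of `L` commuting with `c`. -/
theorem eq_of_comm (hL : IsPsl L) (ht : IsInv t) (htL : t ∈ L) (hu : IsInv u) (huL : u ∈ L)
    (hc : c ∈ L) (hct : c * t = t * c) (hcu : c * u = u * c) (hc1 : c ≠ 1)
    (ho : Odd (orderOf c)) : u = t := by
  by_contra hne
  apply hc1
  have h1 := comm_of_comm hL ht htL hc hct hc1 ho huL hcu.symm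
  exact hL.eq_one_of_odd ht hu h1.symm hne htL huL hc hct hcu ho

theorem isCyclic_of_odd (hL : IsPsl L) (ht : IsInv t) (htL : t ∈ L) {D : Subgroup G}
    (hD : D ≤ L) (hDt : D ≤ centralizer ({t} : Set G)) (ho : Odd (Nat.card D)) : IsCyclic D := by
  obtain ⟨F, i1, i2, hodd, -, ⟨e⟩⟩ := hL
  set E : Subgroup (Matrix.ProjectiveSpecialLinearGroup (Fin 2) F) :=
    (D.subgroupOf L).map e.toMonoidHom with hE
  have hcard : Nat.card E = Nat.card D := by
    rw [hE, card_map_of_injective e.injective, Nat.card_congr (subgroupOfEquivOfLe hD).toEquiv]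
  have h1 : IsCyclic E := by
    apply Cfsg.Agent.Lib.PSL2Odd.isCyclic_of_odd (two_ne_zero hodd) (a := e ⟨t, htL⟩)
    · exact fun hh => ht.2 (congrArg Subtype.val ((map_eq_one_iff e e.injective).1 hh))
    · rw [← map_mul]
      have : (⟨t, htL⟩ * ⟨t, htL⟩ : L) = 1 := Subtype.ext ht.1
      rw [this, map_one]
    · rintro _ ⟨d, hd, rfl⟩
      show e d * e ⟨t, htL⟩ = e ⟨t, htL⟩ * e d
      rw [← map_mul, ← map_mul]
      congr 1
      exact Subtype.ext (mem_centralizer_singleton_iff.1 (hDt hd))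
    · rw [hcard]; exact ho
  have h2 : IsCyclic (D.subgroupOf L) := by
    let f : (D.subgroupOf L) ≃* E := (D.subgroupOf L).equivMapOfInjective e.toMonoidHom e.injective
    exact isCyclic_of_surjective f.symm.toMonoidHom f.symm.surjective
  exact isCyclic_of_surjective (subgroupOfEquivOfLe hD).toMonoidHom
    (subgroupOfEquivOfLe hD).surjective

end psl

section data

variable {G : Type u} [Group G] [Finite G] {t u : G} {L : Subgroup G}

theorem isCyclic_inf (h : ZHyp G t) (b : Data t u L) : IsCyclic (Kc t ⊓ L : Subgroup G) :=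
  isCyclic_of_odd b.psl h.inv b.mem_t inf_le_right (inf_le_left.trans (Kc_le t))
    (odd_of_le inf_le_left (odd_Kc t))

theorem inf_inf_eq_bot (h : ZHyp G t) (b : Data t u L) :
    Kc t ⊓ L ⊓ centralizer ({u} : Set G) = ⊥ := by
  rw [eq_bot_iff]
  intro c hc
  obtain ⟨h1, h2⟩ := mem_inf.1 hc
  obtain ⟨h3, h4⟩ := mem_inf.1 h1
  rw [mem_bot]
  exact b.psl.eq_one_of_odd h.inv b.inv_u b.comm b.ne b.mem_t b.mem_u h4
    (mem_centralizer_singleton_iff.1 (Kc_le t h3)) (mem_centralizer_singleton_iff.1 h2)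
    (odd_orderOf_of_mem (odd_Kc t) h3)

theorem inf_ne_bot (h : ZHyp G t) (b : Data t u L) : Kc t ⊓ L ≠ ⊥ := by
  obtain ⟨y, h1, h2, h3, h4⟩ := b.odd_elt
  intro hbot
  apply h4
  rw [← mem_bot, ← hbot]
  exact mem_inf.2 ⟨(mem_Kc_iff h.sub h.inv).2 ⟨h2, h3⟩, h1⟩

theorem three_le_card (h : ZHyp G t) (b : Data t u L) : 3 ≤ Nat.card (Kc t ⊓ L : Subgroup G) := by
  have h1 : Odd (Nat.card (Kc t ⊓ L : Subgroup G)) := odd_of_le inf_le_left (odd_Kc t)
  have h2 : Nat.card (Kc t ⊓ L : Subgroup G) ≠ 1 :=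
    fun hh => inf_ne_bot h b (Subgroup.card_eq_one.1 hh)
  obtain ⟨m, hm⟩ := h1
  omega

theorem mem_normalizer_u (b : Data t u L) : u ∈ normalizer (Kc t : Set G) :=
  normalizer_Kc_le t (mem_centralizer_singleton_iff.2 b.comm.symm)

theorem reflData (h : ZHyp G t) (b : Data t u L) (hnot : ¬ Kc t ≤ normalizer (L : Set G)) :
    ReflData (Kc t) (normalizer (L : Set G)) (Kc t ⊓ L) u :=
  Cfsg.Agent.Classification.TypeZ.Bridge.reflData_of (odd_Kc t) (h.ft _ (odd_Kc t)) b.inv_u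
    (mem_normalizer_u b) b.mem_u (isCyclic_inf h b) (inf_inf_eq_bot h b)
    (fun x hx hxu l hl => (mem_centralizer_iff.1 (b.mem_centralizer hx hxu)) l hl)
    (fun x hx hx1 hxu k hk hku => by
      have hkF : k ∈ normalizer (fittingOf (Kc t) : Set G) :=
        NilpotentHall.normalizer_le_normalizer_fittingOf _ (le_normalizer hk)
      exact b.mem_normalizer hx hxu hx1 ((mem_normalizer_iff.1 hkF x).1 hx) hku)
    hnot

theorem fitting_inf_ne_bot (b : Data t u L) :
    fittingOf (Kc t) ⊓ centralizer ({u} : Set G) ≠ ⊥ := by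
  obtain ⟨y, h1, h2, h3⟩ := b.ex
  intro hbot
  apply h3
  rw [← mem_bot, ← hbot]
  exact mem_inf.2 ⟨h1, mem_centralizer_singleton_iff.2 h2⟩

/-- A prime `p` with `C_{O_p(K)}(u) ≠ 1`. -/
theorem exists_prime (b : Data t u L) : ∃ p : ℕ, p.Prime ∧ ∃ x ∈ piCoreOf {p} (Kc t),
    x * u = u * x ∧ x ≠ 1 := by
  obtain ⟨y, h1, h2, h3⟩ := b.ex
  obtain ⟨p, hp, hpy⟩ := Nat.exists_prime_and_dvd
    (fun hh => h3 (orderOf_eq_one_iff.1 hh) : orderOf y ≠ 1)
  have hord : orderOf (y ^ (orderOf y / p)) = p :=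
    orderOf_pow_orderOf_div (orderOf_pos y).ne' hpy
  refine ⟨p, hp, y ^ (orderOf y / p), ?_, ?_, ?_⟩
  · apply mem_core_of_pow (pow_mem h1 _) hp (n := 1)
    rw [pow_one]
    nth_rw 2 [← hord]
    exact pow_orderOf_eq_one _
  · exact (((show Commute u y from h2.symm).pow_right _).eq).symm
  · intro hh
    rw [hh, orderOf_one] at hord
    exact hp.one_lt.ne hord

end data

end Cfsg.Agent.Classification.TypeZ.Torus
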