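import Mathlib
import Cfsg.Agent.Classification.TypeZ.Torus
import Cfsg.Agent.Classification.TypeZ.Count

/-!
# Type Z of the Gorenstein–Walter theorem: COUNT

Two different conjugates of the component `L` share at most one involution; hence
`1 + |L : C_L(t)| (|K : K ∩ N(L)| - 1) ≤ |G : N(L)|`.
-/

set_option autoImplicit false

namespace Cfsg.Agent.Classification.TypeZ.PairCount

open Subgroup Cfsg
open Cfsg.Agent.Classification.TypeB.Basic Cfsg.Agent.Classification.TypeB.Core
open Cfsg.Agent.OddOrderLocal Cfsg.Agent.OddOrderLocal.PiCoreOf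
open Cfsg.Agent.Classification.TypeZ.Bender Cfsg.Agent.Classification.TypeZ.Comp
open Cfsg.Agent.Classification.TypeZ.Base Cfsg.Agent.Classification.TypeZ.Torus

universe u

variable {G : Type u} [Group G] [Finite G] {t u : G} {L : Subgroup G}

/-- In a finite `p`-group a proper subgroup is properly contained in its normaliser. -/
theorem exists_normalizer_gt {p : ℕ} [Fact p.Prime] {Q X : Subgroup G} (hQ : IsPGroup p Q)
    (hXQ : X ≤ Q) (hne : X ≠ Q) : ∃ w ∈ Q, w ∉ X ∧ w ∈ normalizer (X : Set G) := by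
  have hnil : Group.IsNilpotent Q := hQ.isNilpotent
  have h1 : X.subgroupOf Q < ⊤ := by
    rw [lt_top_iff_ne_top]
    intro hh
    exact hne (le_antisymm hXQ (subgroupOf_eq_top.1 hh))
  have h2 := Group.normalizerCondition_of_isNilpotent (G := Q) _ h1
  obtain ⟨w, hw, hw'⟩ := SetLike.exists_of_lt h2
  refine ⟨w, w.2, fun hh => hw' (mem_subgroupOf.2 hh), ?_⟩
  apply mem_normalizer_of_conj
  intro x hx
  have h3 := (mem_normalizer_iff.1 hw ⟨x, hXQ hx⟩).1 (mem_subgroupOf.2 hx)
  exact mem_subgroupOf.1 h3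

/-- Two different `K`-conjugates of `L` share only the involution `t`. -/
theorem eq_of_mem (h : ZHyp G t) (b : Data t u L) {y : G} (hy : y ∈ Kc t)
    (hyL : y ∉ normalizer (L : Set G)) {s : G} (hs : IsInv s) (hsL : s ∈ L)
    (hsy : y⁻¹ * s * y ∈ L) : s = t := by
  obtain ⟨p, hp, x, hxP, hxu, hx1⟩ := exists_prime b
  have := Fact.mk hp
  set K := Kc t with hK
  set P := piCoreOf {p} K with hP
  have hPg : IsPGroup p P := FitCores.isPGroup_piCoreOf hp _
  have hPF : P ≤ fittingOf K := FitCores.piCoreOf_singleton_le_fittingOf hp _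
  set X := P ⊓ centralizer ({u} : Set G) with hX
  have hxX : x ∈ X := mem_inf.2 ⟨hxP, mem_centralizer_singleton_iff.2 hxu⟩
  have hyP : y ∈ normalizer (P : Set G) := le_normalizer_piCoreOf _ _ hy
  -- `Q = ⟨X, X^y⟩`
  set X' := X.map (MulAut.conj y).toMonoidHom with hX'
  have hX'P : X' ≤ P := by
    rintro _ ⟨z, hz, rfl⟩
    exact (mem_normalizer_iff.1 hyP z).1 (mem_inf.1 hz).1
  set Q := X ⊔ X' with hQ
  have hQP : Q ≤ P := sup_le inf_le_left hX'P
  have hQg : IsPGroup p Q := hPg.to_le hQP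
  have hXQ : X ≤ Q := le_sup_left
  have hne : X ≠ Q := by
    intro hh
    apply hyL
    have h1 : y * x * y⁻¹ ∈ X := by
      rw [hh]
      exact (le_sup_right (a := X)) ⟨x, hxX, rfl⟩
    obtain ⟨h2, h3⟩ := mem_inf.1 h1
    exact b.mem_normalizer (hPF hxP) hxu hx1 (hPF h2) (mem_centralizer_singleton_iff.1 h3)
  obtain ⟨w, hwQ, hwX, hwN⟩ := exists_normalizer_gt hQg hXQ hne
  have hX1 : X ≠ ⊥ := by
    intro hh
    rw [hh, mem_bot] at hxX
    exact hx1 hxX
  have hwL : w ∈ normalizer (L : Set G) :=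
    b.normalizer_le (inf_le_left.trans hPF) inf_le_right hX1 hwN
  -- decompose `w`
  set D := P ⊓ normalizer (L : Set G) with hD
  have huP : u ∈ normalizer (P : Set G) := by
    have h1 : u ∈ normalizer (K : Set G) := mem_normalizer_u b
    exact normalizer_le_normalizer_piCoreOf _ _ h1
  have huL : u ∈ normalizer (L : Set G) := le_normalizer b.mem_u
  have huD : u ∈ normalizer (D : Set G) := by
    apply mem_normalizer_of_conj
    intro z hz
    obtain ⟨h1, h2⟩ := mem_inf.1 hz
    exact mem_inf.2 ⟨(mem_normalizer_iff.1 huP z).1 h1, mul_mem (mul_mem huL h2) (inv_mem huL)⟩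
  have hPodd : Odd (Nat.card P) := odd_of_le (piCoreOf_le _ _) (odd_Kc t)
  have hDodd : Odd (Nat.card D) := odd_of_le inf_le_left hPodd
  obtain ⟨a, ha, d, hd, hwad⟩ := Lib.CoprimeCommutator.exists_commutator_mul_fixed_of_isPGroup 2
    (zpowers u) D b.inv_u.isPGroup (by rwa [zpowers_le]) (not_two_dvd hDodd) w
    (mem_inf.2 ⟨hQP hwQ, hwL⟩)
  rw [centralizer_zpowers] at hd
  have hdX : d ∈ X := mem_inf.2 ⟨(mem_inf.1 (mem_inf.1 hd).1).1, (mem_inf.1 hd).2⟩
  have haPL : a ∈ L ⊓ P :=
    Excl.commutator_subset_inf b.mem_u (inf_le_right : D ≤ _) (inf_le_left : D ≤ P) huP ha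
  have haQ : a ∈ Q := by
    have h1 : a = w * d⁻¹ := by rw [hwad]; group
    rw [h1]
    exact mul_mem hwQ (inv_mem (hXQ hdX))
  have ha1 : a ≠ 1 := by
    rintro rfl
    apply hwX
    rw [hwad, one_mul]
    exact hdX
  -- `s` centralises `Q`
  have hsQ : Q ≤ centralizer ({s} : Set G) := by
    apply sup_le
    · intro z hz
      obtain ⟨h1, h2⟩ := mem_inf.1 hz
      rw [mem_centralizer_singleton_iff]
      exact ((mem_centralizer_iff.1 (b.mem_centralizer (hPF h1)
        (mem_centralizer_singleton_iff.1 h2))) s hsL).symm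
    · rintro _ ⟨z, hz, rfl⟩
      obtain ⟨h1, h2⟩ := mem_inf.1 hz
      have h3 := (mem_centralizer_iff.1 (b.mem_centralizer (hPF h1)
        (mem_centralizer_singleton_iff.1 h2))) _ hsy
      rw [mem_centralizer_singleton_iff]
      show y * z * y⁻¹ * s = s * (y * z * y⁻¹)
      calc y * z * y⁻¹ * s = y * (z * (y⁻¹ * s * y)) * y⁻¹ := by group
        _ = y * ((y⁻¹ * s * y) * z) * y⁻¹ := by rw [h3]
        _ = _ := by group
  have has : a * s = s * a := mem_centralizer_singleton_iff.1 (hsQ haQ)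
  obtain ⟨haL, haP⟩ := mem_inf.1 haPL
  have hat : a * t = t * a :=
    mem_centralizer_singleton_iff.1 (Kc_le t (piCoreOf_le _ _ haP))
  exact eq_of_comm b.psl h.inv b.mem_t hs hsL haL hat has ha1 (odd_orderOf_of_mem hPodd haP)

/-- **COUNT (A)** -/
theorem one_add_le (h : ZHyp G t) (b : Data t u L) :
    1 + (centralizer ({t} : Set G)).relIndex L *
      ((normalizer (L : Set G)).relIndex (Kc t) - 1) ≤ (normalizer (L : Set G)).index := by
  classical
  set M := normalizer (L : Set G) with hM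
  set A := L ⧸ (centralizer ({t} : Set G)).subgroupOf L with hA
  set B := {c : Kc t ⧸ M.subgroupOf (Kc t) // c ≠ ((1 : Kc t) : Kc t ⧸ M.subgroupOf (Kc t))} with hB
  have : Finite A := inferInstance
  have : Finite B := inferInstance
  let φ : Option (A × B) → G ⧸ M := fun o => match o with
    | none => ((1 : G) : G ⧸ M)
    | some (a, c) => (((a.out : L) : G) * ((c.1.out : Kc t) : G) : G)
  have hcout : ∀ c : B, ((c.1.out : Kc t) : G) ∉ M := by
    intro c hc
    apply c.2
    rw [← QuotientGroup.out_eq' c.1, QuotientGroup.eq]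
    simpa [mem_subgroupOf] using hc
  have hLM : L ≤ M := le_normalizer
  have hφ : Function.Injective φ := by
    -- key computation
    have hnone : ∀ (a : A) (c : B), φ none ≠ φ (some (a, c)) := by
      intro a c hh
      have h1 : ((1 : G) : G ⧸ M) = (((a.out : L) : G) * ((c.1.out : Kc t) : G) : G) := hh
      rw [QuotientGroup.eq, inv_one, one_mul] at h1
      apply hcout c
      have h2 := mul_mem (inv_mem (hLM (a.out).2)) h1
      rwa [inv_mul_cancel_left] at h2
    have hsome : ∀ (a a' : A) (c c' : B), φ (some (a, c)) = φ (some (a', c')) →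
        (a, c) = (a', c') := by
      intro a a' c c' hh
      have h1 : ((((a.out : L) : G) * ((c.1.out : Kc t) : G) : G) : G ⧸ M) =
        (((a'.out : L) : G) * ((c'.1.out : Kc t) : G) : G) := hh
      rw [QuotientGroup.eq] at h1
      set l := ((a.out : L) : G) with hl
      set l' := ((a'.out : L) : G) with hl'
      set y := ((c.1.out : Kc t) : G) with hy
      set y' := ((c'.1.out : Kc t) : G) with hy'
      have hlL : l ∈ L := (a.out).2
      have hl'L : l' ∈ L := (a'.out).2
      have hyK : y ∈ Kc t := (c.1.out).2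
      have hy'K : y' ∈ Kc t := (c'.1.out).2
      have hy't : y' * t = t * y' := mem_centralizer_singleton_iff.1 (Kc_le t hy'K)
      -- the involution `s'' = l⁻¹ l' t l'⁻¹ l`
      set s := l⁻¹ * (l' * t * l'⁻¹) * l with hs
      have hsL : s ∈ L := mul_mem (mul_mem (inv_mem hlL)
        (mul_mem (mul_mem hl'L b.mem_t) (inv_mem hl'L))) hlL
      have hsinv : IsInv s := by
        have h3 := (h.inv.conj l').conj l⁻¹
        rwa [inv_inv] at h3
      have hsy : y⁻¹ * s * y ∈ L := by
        -- `(l y)⁻¹ (l' y') ∈ M` maps `t ∈ L` to `y⁻¹ s y`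
        have h3 := (mem_normalizer_iff.1 h1 t).1 b.mem_t
        have h4 : (l * y)⁻¹ * (l' * y') * t * ((l * y)⁻¹ * (l' * y'))⁻¹ = y⁻¹ * s * y := by
          have h5 : y' * t * y'⁻¹ = t := by rw [hy't]; group
          calc (l * y)⁻¹ * (l' * y') * t * ((l * y)⁻¹ * (l' * y'))⁻¹
              = y⁻¹ * l⁻¹ * l' * (y' * t * y'⁻¹) * l'⁻¹ * l * y := by group
            _ = y⁻¹ * s * y := by rw [h5, hs]; group
        rwa [h4] at h3
      have hst : s = t := eq_of_mem h b hyK (hcout c) hsinv hsL hsy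
      -- hence `a = a'`
      have haa : a = a' := by
        rw [← QuotientGroup.out_eq' a, ← QuotientGroup.out_eq' a', QuotientGroup.eq,
          mem_subgroupOf, mem_centralizer_singleton_iff]
        show l⁻¹ * l' * t = t * (l⁻¹ * l')
        calc l⁻¹ * l' * t = s * (l⁻¹ * l') := by rw [hs]; group
          _ = _ := by rw [hst]
      subst haa
      have hll : l = l' := rfl
      have h6 : y⁻¹ * y' ∈ M := by
        have h7 : (l * y)⁻¹ * (l' * y') = y⁻¹ * y' := by rw [← hll]; group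
        rwa [h7] at h1
      have hcc : c = c' := by
        apply Subtype.ext
        rw [← QuotientGroup.out_eq' c.1, ← QuotientGroup.out_eq' c'.1, QuotientGroup.eq,
          mem_subgroupOf]
        exact h6
      rw [hcc]
    intro o o' hoo
    rcases o with _ | ⟨a, c⟩ <;> rcases o' with _ | ⟨a', c'⟩
    · rfl
    · exact absurd hoo (hnone a' c')
    · exact absurd hoo.symm (hnone a c)
    · rw [hsome a a' c c' hoo]
  have hfin : Finite (G ⧸ M) := inferInstance
  have h1 := Nat.card_le_card_of_injective φ hφ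
  have hcardB : Nat.card B = M.relIndex (Kc t) - 1 := by
    have h2 : Nat.card {c : Kc t ⧸ M.subgroupOf (Kc t) //
        c = ((1 : Kc t) : Kc t ⧸ M.subgroupOf (Kc t))} +
        Nat.card {c : Kc t ⧸ M.subgroupOf (Kc t) //
        ¬ c = ((1 : Kc t) : Kc t ⧸ M.subgroupOf (Kc t))} = Nat.card (Kc t ⧸ M.subgroupOf (Kc t)) := by
      have := Fintype.ofFinite (Kc t ⧸ M.subgroupOf (Kc t))
      rw [← Nat.card_sum]
      exact Nat.card_congr (Equiv.sumCompl _)
    have h3 : Nat.card {c : Kc t ⧸ M.subgroupOf (Kc t) //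
        c = ((1 : Kc t) : Kc t ⧸ M.subgroupOf (Kc t))} = 1 := by
      rw [Nat.card_eq_one_iff_unique]
      exact ⟨⟨fun a b => Subtype.ext (a.2.trans b.2.symm)⟩, ⟨⟨_, rfl⟩⟩⟩
    have h4 : M.relIndex (Kc t) = Nat.card (Kc t ⧸ M.subgroupOf (Kc t)) := rfl
    rw [h4, ← h2, h3, Nat.add_sub_cancel_left]
  have hcardA : Nat.card A = (centralizer ({t} : Set G)).relIndex L := rfl
  rw [Finite.card_option, Nat.card_prod, hcardA, hcardB] at h1
  have h5 : Nat.card (G ⧸ M) = M.index := rfl
  rw [h5] at h1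
  omega

/-- `C(t)` does not normalise `L`. -/
theorem not_centralizer_le (h : ZHyp G t) (b : Data t u L) :
    ¬ centralizer ({t} : Set G) ≤ normalizer (L : Set G) := by
  intro hle
  have := h.simple
  obtain ⟨l, hl, hlt⟩ : ∃ l ∈ L, l * t ≠ t * l := by
    by_contra hcon
    push Not at hcon
    exact b.not_le_centralizer h (fun l hl => mem_centralizer_singleton_iff.2 (hcon l hl))
  have htop := h.eq_top_of_lt hle (le_normalizer hl) hlt
  have hn : L.Normal := normalizer_eq_top_iff.1 htop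
  rcases hn.eq_bot_or_eq_top with h1 | h1
  · have := b.mem_t
    rw [h1, mem_bot] at this
    exact h.inv.2 this
  · obtain ⟨y, hy, hyu, hy1⟩ := b.ex
    have h2 := b.mem_centralizer hy hyu
    rw [h1] at h2
    have h3 : y ∈ center G := by
      rw [mem_center_iff]
      intro g
      exact (mem_centralizer_iff.1 h2) g (mem_top g)
    rcases (inferInstance : (center G).Normal).eq_bot_or_eq_top with h4 | h4
    · rw [h4, mem_bot] at h3
      exact hy1 h3
    · apply h.nonab
      rw [isMulCommutative_iff]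
      intro a c
      have ha : a ∈ center G := by rw [h4]; exact mem_top a
      exact ((mem_center_iff.1 ha) c).symm

theorem not_le (h : ZHyp G t) (b : Data t u L) {S : Subgroup G} (hSL : S ≤ L)
    (hH : centralizer ({t} : Set G) ≤ Kc t ⊔ S) : ¬ Kc t ≤ normalizer (L : Set G) := fun hle =>
  not_centralizer_le h b (hH.trans (sup_le hle (hSL.trans le_normalizer)))

/-- The arithmetic of COUNT. -/
theorem arith {σ a k l m q e n N M : ℤ} (hσ : 4 ≤ σ) (ha : 3 ≤ a) (hk : 3 ≤ k) (hka : k ≤ a)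
    (he : e = 1 ∨ e = -1) (hT : a * σ = q - e) (hl : 0 < l) (hκ : k * a = l * |m|)
    (hn : 2 * n = l ^ 2 * ((1 + σ * m) * (2 + σ * m))) (hN : 2 * N = q * (q + e))
    (hM : M * (q * (q + e)) = 2 * (n * k)) (hle : 1 + N * (k - 1) ≤ M) : False := by
  -- `2 n ≤ κ² (1 + σ) (2 + σ)`
  have hκpos : 0 < k * a := by positivity
  have hm1 : 1 ≤ |m| := by
    by_contra hcon
    push Not at hcon
    have h0 : |m| = 0 := le_antisymm (by omega) (abs_nonneg m)
    rw [h0, mul_zero] at hκ
    omega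
  have hbound : (1 + σ * m) * (2 + σ * m) ≤ |m| ^ 2 * ((1 + σ) * (2 + σ)) := by
    rcases abs_cases m with ⟨h1, h2⟩ | ⟨h1, h2⟩
    · rw [h1] at hm1 ⊢
      have e1 : 0 ≤ (m - 1) * (m + 1) := mul_nonneg (by linarith) (by linarith)
      have e2 : 0 ≤ σ * m * (m - 1) :=
        mul_nonneg (mul_nonneg (by linarith) (by linarith)) (by linarith)
      have e3 : m ^ 2 * ((1 + σ) * (2 + σ)) - (1 + σ * m) * (2 + σ * m) =
        2 * ((m - 1) * (m + 1)) + 3 * (σ * m * (m - 1)) := by ring
      linarith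
    · rw [h1] at hm1 ⊢
      have e1 : 0 ≤ (-m - 1) * (-m + 1) := mul_nonneg (by linarith) (by linarith)
      have e2 : 0 ≤ σ * (-m) * (-m + 1) :=
        mul_nonneg (mul_nonneg (by linarith) (by linarith)) (by linarith)
      have e3 : (-m) ^ 2 * ((1 + σ) * (2 + σ)) - (1 + σ * m) * (2 + σ * m) =
        2 * ((-m - 1) * (-m + 1)) + 3 * (σ * (-m) * (-m + 1)) := by ring
      linarith
  have h2n : 2 * n ≤ (k * a) ^ 2 * ((1 + σ) * (2 + σ)) := by
    rw [hn, hκ, mul_pow, mul_assoc]
    exact mul_le_mul_of_nonneg_left hbound (by positivity)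
  -- `N` is large
  have hNle : a ^ 2 * (σ * (σ - 1)) ≤ 2 * N := by
    rw [hN]
    have hq : q = a * σ + e := by linarith
    rw [hq]
    have e1 : 0 ≤ a * σ := mul_nonneg (by linarith) (by linarith)
    have e2 : 0 ≤ a * σ * (a - 3) := mul_nonneg e1 (by linarith)
    have e4 : 0 ≤ a * σ * a := mul_nonneg e1 (by linarith)
    rcases he with rfl | rfl
    · have e3 : (a * σ + 1) * (a * σ + 1 + 1) - a ^ 2 * (σ * (σ - 1)) =
        a * σ * a + 3 * (a * σ) + 2 := by ring
      linarith
    · have e3 : (a * σ + -1) * (a * σ + -1 + -1) - a ^ 2 * (σ * (σ - 1)) =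
        a * σ * (a - 3) + 2 := by ring
      linarith
  have hNpos : 0 < N := by
    have : 0 < a ^ 2 * (σ * (σ - 1)) := by
      have : 0 < σ - 1 := by linarith
      positivity
    linarith
  -- `n k = M N ≥ N (1 + N (k - 1))`
  have h1 : M * N = n * k := by
    rw [← hN] at hM
    linarith
  have h2 : N * (1 + N * (k - 1)) ≤ n * k := by
    rw [← h1, mul_comm M N]
    exact mul_le_mul_of_nonneg_left hle hNpos.le
  -- main inequality
  have h3 : 2 * (n * k) ≤ k * ((k * a) ^ 2 * ((1 + σ) * (2 + σ))) := by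
    have e1 := mul_le_mul_of_nonneg_left h2n (by linarith : (0 : ℤ) ≤ k)
    linarith
  have h4 : 2 * N ^ 2 * (k - 1) < k * ((k * a) ^ 2 * ((1 + σ) * (2 + σ))) := by
    have e1 : 2 * (N * (1 + N * (k - 1))) = 2 * N + 2 * N ^ 2 * (k - 1) := by ring
    linarith
  have h5 : 2 * k ≤ 3 * (k - 1) := by linarith
  set W := (k * a) ^ 2 * ((1 + σ) * (2 + σ)) with hW
  have hWpos : 0 < W := by rw [hW]; positivity
  have h6 : 4 * N ^ 2 * (k - 1) < 3 * (k - 1) * W := by
    have e1 := mul_le_mul_of_nonneg_right h5 hWpos.le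
    linarith
  have h7 : (2 * N) ^ 2 < 3 * W := by
    have hk1 : 0 < k - 1 := by linarith
    have e1 : (2 * N) ^ 2 * (k - 1) < 3 * W * (k - 1) := by
      have e2 : (2 * N) ^ 2 * (k - 1) = 4 * N ^ 2 * (k - 1) := by ring
      have e3 : 3 * W * (k - 1) = 3 * (k - 1) * W := by ring
      rw [e2, e3]
      exact h6
    exact lt_of_mul_lt_mul_right e1 hk1.le
  have h8 : W ≤ a ^ 4 * ((1 + σ) * (2 + σ)) := by
    rw [hW]
    apply mul_le_mul_of_nonneg_right _ (by positivity)
    have h9 : k * a ≤ a ^ 2 := by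
      rw [sq]
      exact mul_le_mul_of_nonneg_right hka (by linarith)
    calc (k * a) ^ 2 ≤ (a ^ 2) ^ 2 := pow_le_pow_left₀ hκpos.le h9 2
      _ = a ^ 4 := by ring
  have h9 : (a ^ 2 * (σ * (σ - 1))) ^ 2 ≤ (2 * N) ^ 2 :=
    pow_le_pow_left₀ (by have : 0 ≤ σ - 1 := by linarith
                         positivity) hNle 2
  have h10 : a ^ 4 * (σ * (σ - 1)) ^ 2 < a ^ 4 * (3 * ((1 + σ) * (2 + σ))) := by
    calc a ^ 4 * (σ * (σ - 1)) ^ 2 = (a ^ 2 * (σ * (σ - 1))) ^ 2 := by ring
      _ ≤ (2 * N) ^ 2 := h9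
      _ < 3 * W := h7
      _ ≤ 3 * (a ^ 4 * ((1 + σ) * (2 + σ))) := by linarith
      _ = _ := by ring
  have h11 : (σ * (σ - 1)) ^ 2 < 3 * ((1 + σ) * (2 + σ)) :=
    lt_of_mul_lt_mul_left h10 (by positivity)
  have h12 : σ * 3 ≤ σ * (σ - 1) := mul_le_mul_of_nonneg_left (by linarith) (by linarith)
  have h13 : (σ * 3) ^ 2 ≤ (σ * (σ - 1)) ^ 2 := pow_le_pow_left₀ (by linarith) h12 2
  have h14 : 0 ≤ (σ - 4) * σ := mul_nonneg (by linarith) (by linarith)
  have h15 : (σ * 3) ^ 2 - 3 * ((1 + σ) * (2 + σ)) = 6 * ((σ - 4) * σ) + 15 * (σ - 4) + 54 := by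
    ring
  linarith

open Cfsg.Agent.Classification.TypeZ.Count in
/-- **COUNT**: `|T| + 1 < |K : K ∩ N(L)|`. -/
theorem lt (h : ZHyp G t) (b : Data t u L) {q : ℕ} {e : ℤ} (hp : PslComp t u L q e)
    {S : Subgroup G} (hS2 : IsPGroup 2 S) (hidx : Odd S.index)
    (hS : S ≤ centralizer ({t} : Set G)) (hSL : S ≤ L)
    (hcard : Nat.card (centralizer ({t} : Set G)) = Nat.card (Kc t) * Nat.card S)
    (hH : centralizer ({t} : Set G) ≤ Kc t ⊔ S) (h4 : 4 ≤ Nat.card S) {l m : ℤ} (hl : 0 < l)
    (hκ : ((centralizer ({u} : Set G)).relIndex (Kc t) : ℤ) = l * |m|)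
    (hn : 2 * ((centralizer ({t} : Set G)).index : ℤ) =
      l ^ 2 * ((1 + Nat.card S * m) * (2 + Nat.card S * m))) :
    Nat.card (Kc t ⊓ L : Subgroup G) + 1 < (normalizer (L : Set G)).relIndex (Kc t) := by
  set M := normalizer (L : Set G) with hM
  set k := M.relIndex (Kc t) with hk
  set a := Nat.card (Kc t ⊓ L : Subgroup G) with ha
  by_contra hcon
  push Not at hcon
  have hKn := normalizer_Kc_le t
  have ha3 := three_le_card h b
  have haodd : Odd a := odd_of_le inf_le_left (odd_Kc t)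
  have hkodd : Odd k := by
    have h1 : k ∣ Nat.card (Kc t) := relIndex_dvd_card _ _
    exact (odd_Kc t).of_dvd_nat h1
  have hk1 : k ≠ 1 := by
    intro hh
    exact not_le h b hSL hH (relIndex_eq_one.1 hh)
  have hk3 : 3 ≤ k := by
    obtain ⟨r, hr⟩ := hkodd
    omega
  have hka : k ≤ a := by
    obtain ⟨r, hr⟩ := hkodd
    obtain ⟨s, hs⟩ := haodd
    omega
  have hmul : k * a = (centralizer ({u} : Set G)).relIndex (Kc t) := by
    apply relIndex_mul_card (odd_Kc t) b.inv_u (mem_normalizer_u b) b.mem_u le_normalizer le_rfl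
      b.inf_centralizer_le (inf_inf_eq_bot h b)
  have hT := hp.card_mul_card (odd_Kc t) (Kc_le t) hKn hS2 hidx hS hcard (hSL.trans le_normalizer)
  rw [inf_eq_left.2 hSL] at hT
  have hidxf := hp.index_formula (odd_Kc t) (Kc_le t) hKn (M := M) le_normalizer le_rfl hS hH
    (hSL.trans le_normalizer) b.inf_centralizer_le
  have hN := hp.two_mul_relIndex
  have hle := one_add_le h b
  have hapos : (0 : ℤ) < a := by exact_mod_cast (by omega : 0 < a)
  have hkpos : 1 ≤ k := by omega
  refine arith (σ := Nat.card S) (a := a) (k := k) (l := l) (m := m) (q := q) (e := e)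
    (n := (centralizer ({t} : Set G)).index) (N := (centralizer ({t} : Set G)).relIndex L)
    (M := M.index) (by exact_mod_cast h4) (by exact_mod_cast ha3) (by exact_mod_cast hk3)
    (by exact_mod_cast hka) hp.e_eq hT hl ?_ hn hN ?_ ?_
  · rw [← hκ, ← hmul]; push_cast; ring
  · rw [← hmul] at hidxf
    have h5 : (M.index : ℤ) * (q * (q + e)) * a =
        2 * ((centralizer ({t} : Set G)).index * k) * a := by
      rw [hidxf]; push_cast; ring
    exact mul_right_cancel₀ hapos.ne' h5
  · have h6 : ((k - 1 : ℕ) : ℤ) = (k : ℤ) - 1 := by push_cast [hkpos]; ring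
    rw [← h6]
    exact_mod_cast hle

end Cfsg.Agent.Classification.TypeZ.PairCount
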