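import Mathlib
import Cfsg.Agent.Lib.AutSL2Out

/-!
# Automorphisms of `PSL(2, F)` whose square is an inner involution

`exists_gl`: such an automorphism is induced by `GL(2, F)` if `|F|` is not a square;
`fixes_of_square`: it fixes the elements of odd order commuting with the involution.
-/

set_option autoImplicit false

namespace Cfsg.Agent.Classification.TypeZ.SectionMat

open Matrix Cfsg.Agent.Lib.SL2Mat Cfsg.Agent.Lib.AutSL2 Cfsg.Agent.Lib.AutSL2Out

section mat

variable {F : Type*} [Field F]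

/-- Two matrices commuting with a nonscalar `2 × 2` matrix commute. -/
theorem commute_of_nonscalar {A B C : Matrix (Fin 2) (Fin 2) F} (hB : A * B = B * A)
    (hC : A * C = C * A) (hA : A 0 1 ≠ 0 ∨ A 1 0 ≠ 0 ∨ A 0 0 - A 1 1 ≠ 0) : B * C = C * B := by
  have e : ∀ (M N : Matrix (Fin 2) (Fin 2) F) (i j : Fin 2),
      (M * N) i j = M i 0 * N 0 j + M i 1 * N 1 j := fun M N i j => by
    rw [Matrix.mul_apply, Fin.sum_univ_two]
  have b00 := congrFun (congrFun hB 0) 0
  have b01 := congrFun (congrFun hB 0) 1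
  have b10 := congrFun (congrFun hB 1) 0
  have c00 := congrFun (congrFun hC 0) 0
  have c01 := congrFun (congrFun hC 0) 1
  have c10 := congrFun (congrFun hC 1) 0
  rw [e, e] at b00 b01 b10 c00 c01 c10
  -- cross products
  have hb1 : A 0 1 * B 1 0 = A 1 0 * B 0 1 := by linear_combination b00
  have hb2 : A 0 1 * (B 0 0 - B 1 1) = (A 0 0 - A 1 1) * B 0 1 := by linear_combination -b01
  have hb3 : A 1 0 * (B 0 0 - B 1 1) = (A 0 0 - A 1 1) * B 1 0 := by linear_combination b10
  have hc1 : A 0 1 * C 1 0 = A 1 0 * C 0 1 := by linear_combination c00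
  have hc2 : A 0 1 * (C 0 0 - C 1 1) = (A 0 0 - A 1 1) * C 0 1 := by linear_combination -c01
  have hc3 : A 1 0 * (C 0 0 - C 1 1) = (A 0 0 - A 1 1) * C 1 0 := by linear_combination c10
  have key : B 0 1 * C 1 0 = C 0 1 * B 1 0 ∧ B 0 1 * (C 0 0 - C 1 1) = C 0 1 * (B 0 0 - B 1 1) ∧
      B 1 0 * (C 0 0 - C 1 1) = C 1 0 * (B 0 0 - B 1 1) := by
    rcases hA with h | h | h
    · refine ⟨mul_left_cancel₀ h ?_, mul_left_cancel₀ h ?_, mul_left_cancel₀ h ?_⟩
      · linear_combination B 0 1 * hc1 - C 0 1 * hb1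
      · linear_combination B 0 1 * hc2 - C 0 1 * hb2
      · linear_combination B 1 0 * hc2 - (B 0 0 - B 1 1) * hc1 - C 0 1 * hb3
    · refine ⟨mul_left_cancel₀ h ?_, mul_left_cancel₀ h ?_, mul_left_cancel₀ h ?_⟩
      · linear_combination B 1 0 * hc1 - C 1 0 * hb1
      · linear_combination B 0 1 * hc3 + (B 0 0 - B 1 1) * hc1 - C 1 0 * hb2
      · linear_combination B 1 0 * hc3 - C 1 0 * hb3
    · refine ⟨mul_left_cancel₀ h ?_, mul_left_cancel₀ h ?_, mul_left_cancel₀ h ?_⟩
      · linear_combination (B 0 0 - B 1 1) * hc1 - C 1 0 * hb2 + C 0 1 * hb3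
      · linear_combination (B 0 0 - B 1 1) * hc2 - (C 0 0 - C 1 1) * hb2
      · linear_combination (B 0 0 - B 1 1) * hc3 - (C 0 0 - C 1 1) * hb3
  obtain ⟨k1, k2, k3⟩ := key
  ext i j
  rw [e, e]
  fin_cases i <;> fin_cases j
  · show B 0 0 * C 0 0 + B 0 1 * C 1 0 = C 0 0 * B 0 0 + C 0 1 * B 1 0
    linear_combination k1
  · show B 0 0 * C 0 1 + B 0 1 * C 1 1 = C 0 0 * B 0 1 + C 0 1 * B 1 1
    linear_combination -k2
  · show B 1 0 * C 0 0 + B 1 1 * C 1 0 = C 1 0 * B 0 0 + C 1 1 * B 1 0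
    linear_combination k3
  · show B 1 0 * C 0 1 + B 1 1 * C 1 1 = C 1 0 * B 0 1 + C 1 1 * B 1 1
    linear_combination -k1

theorem mul_ent (M N : Matrix (Fin 2) (Fin 2) F) (i j : Fin 2) :
    (M * N) i j = M i 0 * N 0 j + M i 1 * N 1 j := by
  rw [Matrix.mul_apply, Fin.sum_univ_two]

/-- A matrix commuting with the elementary matrices is scalar. -/
theorem eq_smul_of_commute {A : Matrix (Fin 2) (Fin 2) F}
    (h1 : A * (up (1 : F)).1 = (up (1 : F)).1 * A) (h2 : A * (lo (1 : F)).1 = (lo (1 : F)).1 * A) :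
    A = A 0 0 • (1 : Matrix (Fin 2) (Fin 2) F) := by
  have u00 : (up (1 : F)).1 0 0 = 1 := rfl
  have u01 : (up (1 : F)).1 0 1 = 1 := rfl
  have u10 : (up (1 : F)).1 1 0 = 0 := rfl
  have u11 : (up (1 : F)).1 1 1 = 1 := rfl
  have l00 : (lo (1 : F)).1 0 0 = 1 := rfl
  have l01 : (lo (1 : F)).1 0 1 = 0 := rfl
  have l10 : (lo (1 : F)).1 1 0 = 1 := rfl
  have l11 : (lo (1 : F)).1 1 1 = 1 := rfl
  have a00 := congrFun (congrFun h1 0) 0
  have a01 := congrFun (congrFun h1 0) 1
  have b00 := congrFun (congrFun h2 0) 0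
  rw [mul_ent, mul_ent] at a00 a01 b00
  rw [u00, u10, u01] at a00
  rw [u01, u11, u00] at a01
  rw [l00, l10, l01] at b00
  have c1 : A 1 0 = 0 := by linear_combination -a00
  have c2 : A 0 1 = 0 := by linear_combination b00
  have c3 : A 1 1 = A 0 0 := by linear_combination -a01
  ext i j
  fin_cases i <;> fin_cases j <;> simp [c1, c2, c3]

end mat

section field

variable {F : Type*} [Field F]

/-- A finite field of odd characteristic with a nontrivial automorphism of order two has square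
order. -/
theorem exists_sq_of_involution (h2 : (2 : F) ≠ 0) (σ : F ≃+* F) (hσ : ∀ c, σ (σ c) = c)
    (hne : σ ≠ 1) : ∃ k : ℕ, Nat.card F = k * k := by
  obtain ⟨c, hc⟩ : ∃ c, σ c ≠ c := by
    by_contra h
    push Not at h
    exact hne (RingEquiv.ext h)
  set d := c - σ c with hd
  have hd0 : d ≠ 0 := sub_ne_zero.2 (Ne.symm hc)
  have hσd : σ d = -d := by rw [hd, map_sub, hσ]; ring
  let K := {x : F // σ x = x}
  refine ⟨Nat.card K, ?_⟩
  rw [← Nat.card_prod]
  symm
  apply Nat.card_congr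
  refine Equiv.ofBijective (fun p : K × K => (p.1 : F) + d * p.2) ⟨?_, ?_⟩
  · rintro ⟨⟨x, hx⟩, ⟨y, hy⟩⟩ ⟨⟨x', hx'⟩, ⟨y', hy'⟩⟩ h
    have h1 : x + d * y = x' + d * y' := h
    have h3 := congrArg σ h1
    rw [map_add, map_mul, map_add, map_mul, hx, hx', hy, hy', hσd] at h3
    have h4 : 2 * x = 2 * x' := by linear_combination h1 + h3
    have h5 : x = x' := mul_left_cancel₀ h2 h4
    have h6 : d * y = d * y' := by rw [h5] at h1; exact add_left_cancel h1
    have h7 : y = y' := mul_left_cancel₀ hd0 h6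
    subst h5 h7
    rfl
  · intro z
    have h2' : σ (2 : F) = 2 := map_ofNat σ 2
    refine ⟨(⟨(z + σ z) / 2, ?_⟩, ⟨(z - σ z) / (2 * d), ?_⟩), ?_⟩
    · rw [map_div₀, map_add, hσ, h2', add_comm]
    · rw [map_div₀, map_sub, map_mul, hσ, h2', hσd]
      field_simp
      ring
    · show (z + σ z) / 2 + d * ((z - σ z) / (2 * d)) = z
      field_simp
      ring

end field

section aut

variable {F : Type*} [Field F]

theorem trace_conjGL (g : GL (Fin 2) F) (X : SpecialLinearGroup (Fin 2) F) :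
    (conjGL g X).1.trace = X.1.trace := by
  rw [conjGL_val, Matrix.trace_mul_comm, ← Matrix.mul_assoc, inv_val_mul_val, Matrix.one_mul]

theorem trace_fieldAut (σ : F ≃+* F) (X : SpecialLinearGroup (Fin 2) F) :
    (fieldAut σ X).1.trace = σ X.1.trace := by
  rw [Matrix.trace_fin_two, Matrix.trace_fin_two, map_add]
  rfl

/-- Central elements of `SL(2, F)`. -/
theorem exists_sign {z : SpecialLinearGroup (Fin 2) F}
    (hz : z ∈ Subgroup.center (SpecialLinearGroup (Fin 2) F)) :
    ∃ r : F, (r = 1 ∨ r = -1) ∧ ∀ Y : Matrix (Fin 2) (Fin 2) F, z.1 * Y = r • Y := by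
  obtain ⟨r, hr, hrz⟩ := Matrix.SpecialLinearGroup.mem_center_iff.1 hz
  refine ⟨r, ?_, fun Y => ?_⟩
  · rw [Fintype.card_fin, sq] at hr
    exact mul_self_eq_one_iff.1 hr
  · have h1 : z.1 = Matrix.scalar (Fin 2) r := hrz.symm
    rw [h1, Matrix.scalar_apply, ← Matrix.smul_one_eq_diagonal, Matrix.smul_mul, Matrix.one_mul]

theorem exists_of_eq {L : Type*} [Group L] {π : SpecialLinearGroup (Fin 2) F →* L}
    (hk : π.ker = Subgroup.center (SpecialLinearGroup (Fin 2) F))
    {X Y : SpecialLinearGroup (Fin 2) F} (h : π X = π Y) :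
    ∃ r : F, (r = 1 ∨ r = -1) ∧ X.1 = r • Y.1 := by
  have h1 : X * Y⁻¹ ∈ Subgroup.center (SpecialLinearGroup (Fin 2) F) := by
    rw [← hk, MonoidHom.mem_ker, map_mul, map_inv, h, mul_inv_cancel]
  obtain ⟨r, hr, hrz⟩ := exists_sign h1
  refine ⟨r, hr, ?_⟩
  rw [← hrz, ← Matrix.SpecialLinearGroup.coe_mul, inv_mul_cancel_right]

/-- Lifts of commuting elements of `PSL(2, F)`, one of them of odd order, commute. -/
theorem commute_lift (h2 : (2 : F) ≠ 0) {L : Type*} [Group L]
    {π : SpecialLinearGroup (Fin 2) F →* L}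
    (hk : π.ker = Subgroup.center (SpecialLinearGroup (Fin 2) F))
    {X T : SpecialLinearGroup (Fin 2) F} (hx : Odd (orderOf (π X)))
    (hxt : π X * π T = π T * π X) : T.1 * X.1 = X.1 * T.1 := by
  obtain ⟨r, hr, hrX⟩ := exists_of_eq hk (X := X * T) (Y := T * X)
    (by rw [map_mul, map_mul, hxt])
  rcases hr with rfl | rfl
  · rw [one_smul] at hrX
    exact hrX.symm
  · exfalso
    -- `X ^ n T = - T X ^ n` for odd `n`
    have e1 : X.1 * T.1 = -(T.1 * X.1) := by
      have : X.1 * T.1 = (-1 : F) • (T.1 * X.1) := hrX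
      rw [this, neg_one_smul]
    have e2 : ∀ n : ℕ, X.1 ^ (2 * n + 1) * T.1 = -(T.1 * X.1 ^ (2 * n + 1)) := by
      intro n
      induction n with
      | zero => simpa using e1
      | succ n ih =>
        have e3 : X.1 ^ (2 * (n + 1) + 1) = X.1 * X.1 * X.1 ^ (2 * n + 1) := by
          rw [show 2 * (n + 1) + 1 = 1 + 1 + (2 * n + 1) by ring, pow_add, pow_add, pow_one]
        rw [e3, Matrix.mul_assoc, ih, Matrix.mul_neg, Matrix.mul_assoc X.1 X.1,
          ← Matrix.mul_assoc X.1 T.1, e1, Matrix.neg_mul, Matrix.mul_neg,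
          Matrix.mul_assoc T.1 X.1, ← Matrix.mul_assoc X.1 T.1, e1, Matrix.neg_mul, neg_neg,
          Matrix.mul_assoc T.1, Matrix.mul_assoc X.1 X.1]
    obtain ⟨n, hn⟩ := hx
    have e3 : X ^ (2 * n + 1) ∈ Subgroup.center (SpecialLinearGroup (Fin 2) F) := by
      rw [← hk, MonoidHom.mem_ker, map_pow, ← hn, pow_orderOf_eq_one]
    have e4 : (X ^ (2 * n + 1)).1 = X.1 ^ (2 * n + 1) := by
      rw [Matrix.SpecialLinearGroup.coe_pow]
    have e5 : X.1 ^ (2 * n + 1) * T.1 = T.1 * X.1 ^ (2 * n + 1) := by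
      have := congrArg Subtype.val (Subgroup.mem_center_iff.1 e3 T)
      rw [Matrix.SpecialLinearGroup.coe_mul, Matrix.SpecialLinearGroup.coe_mul, e4] at this
      exact this.symm
    have e6 := e2 n
    rw [e5] at e6
    have e7 : (2 : F) • (T.1 * X.1 ^ (2 * n + 1)) = 0 := by
      rw [two_smul]
      nth_rewrite 1 [e6]
      exact neg_add_cancel _
    have e8 : T.1 * X.1 ^ (2 * n + 1) = 0 := by
      rcases smul_eq_zero.1 e7 with h | h
      · exact absurd h h2
      · exact h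
    have e9 : (T * X ^ (2 * n + 1)).1.det = 0 := by
      rw [Matrix.SpecialLinearGroup.coe_mul, e4, e8]
      simp
    rw [(T * X ^ (2 * n + 1)).2] at e9
    exact one_ne_zero e9

/-- Lifts of nontrivial elements are not scalar. -/
theorem nonscalar {L : Type*} [Group L] {π : SpecialLinearGroup (Fin 2) F →* L}
    (hk : π.ker = Subgroup.center (SpecialLinearGroup (Fin 2) F))
    {T : SpecialLinearGroup (Fin 2) F} (ht1 : π T ≠ 1) :
    T.1 0 1 ≠ 0 ∨ T.1 1 0 ≠ 0 ∨ T.1 0 0 - T.1 1 1 ≠ 0 := by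
  by_contra hcon
  push Not at hcon
  obtain ⟨h01, h10, hd⟩ := hcon
  apply ht1
  rw [← MonoidHom.mem_ker, hk, Matrix.SpecialLinearGroup.mem_center_iff]
  refine ⟨T.1 0 0, ?_, ?_⟩
  · have h3 := det_eq T
    have h4 : ent T 0 0 = T.1 0 0 := rfl
    have h5 : ent T 1 1 = T.1 1 1 := rfl
    have h6 : ent T 0 1 = T.1 0 1 := rfl
    rw [h4, h5, h6, h01] at h3
    rw [Fintype.card_fin]
    linear_combination h3 + T.1 0 0 * hd
  · ext i j
    fin_cases i <;> fin_cases j
    · simp
    · simp [h01]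
    · simp [h10]
    · simp; linear_combination hd

/-- In `PSL(2, F)` the centraliser of a nontrivial element of odd order is abelian. -/
theorem commute_of_commute (h2 : (2 : F) ≠ 0) {L : Type*} [Group L]
    (π : SpecialLinearGroup (Fin 2) F →* L) (hπ : Function.Surjective π)
    (hk : π.ker = Subgroup.center (SpecialLinearGroup (Fin 2) F)) {m x y : L}
    (hm : Odd (orderOf m)) (hm1 : m ≠ 1) (hx : m * x = x * m) (hy : m * y = y * m) :
    x * y = y * x := by
  obtain ⟨M, rfl⟩ := hπ m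
  obtain ⟨X, rfl⟩ := hπ x
  obtain ⟨Y, rfl⟩ := hπ y
  have h3 := commute_of_nonscalar (commute_lift h2 hk hm hx).symm (commute_lift h2 hk hm hy).symm
    (nonscalar hk hm1)
  rw [← map_mul, ← map_mul]
  congr 1
  exact Subtype.ext h3

variable [Finite F]

theorem exists_gl (h2 : (2 : F) ≠ 0) {L : Type*} [Group L]
    (π : SpecialLinearGroup (Fin 2) F →* L) (hπ : Function.Surjective π)
    (hk : π.ker = Subgroup.center (SpecialLinearGroup (Fin 2) F)) (α : MulAut L) (t : L)
    (hα : ∀ x, α (α x) = t * x * t⁻¹)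
    (hsq : (∃ s : L, ∀ x, α x = s * x * s⁻¹) ∨ ∀ k : ℕ, Nat.card F ≠ k * k) :
    ∃ g : GL (Fin 2) F, ∀ X, α (π X) = π (conjGL g X) := by
  rcases hsq with ⟨s, hs⟩ | hsq
  · obtain ⟨S, rfl⟩ := hπ s
    refine ⟨Matrix.SpecialLinearGroup.toGL S, fun X => ?_⟩
    rw [conjGL_toGL, hs, map_mul, map_mul, map_inv]
  obtain ⟨g, σ, hg⟩ := exists_gl_ringEquiv π hπ hk.le α
  by_cases h1 : σ = 1
  · refine ⟨g, fun X => ?_⟩
    rw [hg, h1, map_one, MulAut.one_apply]
  exfalso
  obtain ⟨T, rfl⟩ := hπ t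
  have key : ∀ c : F, σ (σ c) = c ∨ σ (σ c) = -c := by
    intro c
    set X : SpecialLinearGroup (Fin 2) F := mk c (-1) 1 0 (by ring) with hX
    have e1 : X.1.trace = c := by
      rw [Matrix.trace_fin_two]
      show c + 0 = c
      ring
    have e2 : π (conjGL g (fieldAut σ (conjGL g (fieldAut σ X)))) = π (T * X * T⁻¹) := by
      rw [← hg, ← hg, hα, map_mul, map_mul, map_inv]
    obtain ⟨r, hr, hrX⟩ := exists_of_eq hk e2
    have e3 := congrArg Matrix.trace hrX
    rw [trace_conjGL, trace_fieldAut, trace_conjGL, trace_fieldAut, Matrix.trace_smul, e1,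
      ← conjGL_toGL, trace_conjGL, e1, smul_eq_mul] at e3
    rcases hr with rfl | rfl
    · left; rw [e3, one_mul]
    · right; rw [e3]; ring
  have hσ : ∀ c, σ (σ c) = c := by
    intro c
    rcases key c with h | h
    · exact h
    have h3 : σ (σ (c + 1)) = -c + 1 := by rw [map_add, map_add, h, map_one, map_one]
    rcases key (c + 1) with h4 | h4
    · have h5 : 2 * c = 0 := by rw [h3] at h4; linear_combination -h4
      have h6 : c = 0 := (mul_eq_zero.1 h5).resolve_left h2
      rw [h6, map_zero, map_zero]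
    · exfalso
      apply h2
      rw [h3] at h4
      linear_combination h4
  obtain ⟨k, hk'⟩ := exists_sq_of_involution h2 σ hσ h1
  exact hsq k hk'

/-- An automorphism of `PSL(2, F)` whose square is conjugation by an involution `t` fixes the
elements of odd order commuting with `t`. -/
theorem fixes_of_square (h2 : (2 : F) ≠ 0) {L : Type*} [Group L]
    (π : SpecialLinearGroup (Fin 2) F →* L) (hπ : Function.Surjective π)
    (hk : π.ker = Subgroup.center (SpecialLinearGroup (Fin 2) F)) (α : MulAut L) (t : L)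
    (ht1 : t ≠ 1) (hα : ∀ x, α (α x) = t * x * t⁻¹)
    (hsq : (∃ s : L, ∀ x, α x = s * x * s⁻¹) ∨ ∀ k : ℕ, Nat.card F ≠ k * k) (x : L)
    (hx : Odd (orderOf x)) (hxt : x * t = t * x) : α x = x := by
  obtain ⟨g, hg⟩ := exists_gl h2 π hπ hk α t hα hsq
  obtain ⟨T, rfl⟩ := hπ t
  obtain ⟨X, rfl⟩ := hπ x
  -- `T` is not scalar
  have hT := nonscalar hk ht1
  -- `g * g = T * k` with `k` scalar
  set k : GL (Fin 2) F := (Matrix.SpecialLinearGroup.toGL T)⁻¹ * (g * g) with hkdef
  have hkX : ∀ Y : SpecialLinearGroup (Fin 2) F, ∃ r : F, (r = 1 ∨ r = -1) ∧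
      (conjGL k Y).1 = r • Y.1 := by
    intro Y
    apply exists_of_eq hk
    have e1 : π (conjGL (g * g) Y) = π (T * Y * T⁻¹) := by
      rw [map_mul conjGL, MulAut.mul_apply, ← hg, ← hg, hα, map_mul, map_mul, map_inv]
    have e2 : conjGL k Y = T⁻¹ * conjGL (g * g) Y * T := by
      rw [hkdef, map_mul conjGL, MulAut.mul_apply, map_inv]
      have e3 : conjGL (Matrix.SpecialLinearGroup.toGL T) (T⁻¹ * conjGL (g * g) Y * T) =
          conjGL (g * g) Y := by
        rw [conjGL_toGL]; group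
      rw [← e3, MulAut.inv_apply_self, e3]
    rw [e2, map_mul, map_mul, e1, map_inv, map_mul, map_mul, map_inv]
    group
  have hkc : ∀ Y : SpecialLinearGroup (Fin 2) F, Y.1.trace ≠ 0 → k.1 * Y.1 = Y.1 * k.1 := by
    intro Y hY
    obtain ⟨r, -, hr⟩ := hkX Y
    have e1 := congrArg Matrix.trace hr
    rw [trace_conjGL, Matrix.trace_smul, smul_eq_mul] at e1
    have e2 : r = 1 := by
      have : (1 - r) * Y.1.trace = 0 := by linear_combination e1
      rcases mul_eq_zero.1 this with h | h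
      · linear_combination -h
      · exact absurd h hY
    rw [e2, one_smul, conjGL_val] at hr
    calc k.1 * Y.1 = k.1 * Y.1 * (k⁻¹.1 * k.1) := by rw [inv_val_mul_val, Matrix.mul_one]
      _ = k.1 * Y.1 * k⁻¹.1 * k.1 := by simp only [Matrix.mul_assoc]
      _ = Y.1 * k.1 := by rw [hr]
  have hks : k.1 = k.1 0 0 • (1 : Matrix (Fin 2) (Fin 2) F) := by
    have t1 : (up (1 : F)).1.trace = 2 := by
      rw [Matrix.trace_fin_two]
      show (1 : F) + 1 = 2
      ring
    have t2 : (lo (1 : F)).1.trace = 2 := by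
      rw [Matrix.trace_fin_two]
      show (1 : F) + 1 = 2
      ring
    exact eq_smul_of_commute (hkc _ (by rw [t1]; exact h2)) (hkc _ (by rw [t2]; exact h2))
  have hk0 : k.1 0 0 ≠ 0 := by
    intro h
    rw [h, zero_smul] at hks
    have := inv_val_mul_val k
    rw [hks, Matrix.mul_zero] at this
    exact zero_ne_one this
  have hgT : T.1 * g.1 = g.1 * T.1 := by
    have e1 : g.1 * g.1 = T.1 * k.1 := by
      have : g * g = Matrix.SpecialLinearGroup.toGL T * k := by rw [hkdef]; group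
      exact congrArg Units.val this
    rw [hks, Matrix.mul_smul, Matrix.mul_one] at e1
    have e2 : (k.1 0 0) • (T.1 * g.1) = (k.1 0 0) • (g.1 * T.1) := by
      rw [← Matrix.smul_mul, ← Matrix.mul_smul, ← e1, Matrix.mul_assoc]
    exact smul_right_injective _ hk0 e2
  -- `X` and `T` commute
  have hXT : T.1 * X.1 = X.1 * T.1 := commute_lift h2 hk hx hxt
  -- hence `g` and `X` commute
  have hgX : g.1 * X.1 = X.1 * g.1 := commute_of_nonscalar hgT hXT hT
  rw [hg]
  congr 1
  apply Subtype.ext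
  rw [conjGL_val, hgX, Matrix.mul_assoc]
  have : g.1 * g⁻¹.1 = 1 := by rw [← Units.val_mul, mul_inv_cancel, Units.val_one]
  rw [this, Matrix.mul_one]

end aut

end Cfsg.Agent.Classification.TypeZ.SectionMat
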