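import Mathlib
import Cfsg.Agent.Classification.TypeZ.Base
import Cfsg.Agent.Classification.TypeZ.SectionMat
import Cfsg.Agent.Classification.TypeZ.Refl
import Cfsg.Agent.Classification.TypeZ.Count
import Cfsg.Agent.Classification.TypeZ.EndNum
import Cfsg.Agent.Classification.TypeZ.FourMain

/-!
# Type Z of the Gorenstein–Walter theorem: [COUNT]

* `pair`: two different conjugates of the component `L` have at most one common involution;
* `count`: `1 + |L : C_L(t)| (|H : H ⊓ M| - 1) ≤ |G : M|`, `M = N(L)`.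
-/

set_option autoImplicit false

namespace Cfsg.Agent.Classification.TypeZ.PairCountB

open Subgroup Cfsg
open Cfsg.Agent.Classification.TypeB.Basic Cfsg.Agent.Classification.TypeB.Core
open Cfsg.Agent.OddOrderLocal Cfsg.Agent.OddOrderLocal.PiCoreOf
open Cfsg.Agent.Classification.DihedralCentral Cfsg.Agent.Classification.TransferSign
open Cfsg.Agent.Classification.TypeZ.Bender Cfsg.Agent.Classification.TypeZ.Base

universe u

section psl

variable {G : Type*} [Group G] {L : Subgroup G}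

/-- In `PSL(2, q)` the centraliser of a nontrivial element of odd order is abelian. -/
theorem commute_of_odd (hL : IsPsl L) {m x y : G} (hm : m ∈ L) (hx : x ∈ L) (hy : y ∈ L)
    (ho : Odd (orderOf m)) (hm1 : m ≠ 1) (hmx : m * x = x * m) (hmy : m * y = y * m) :
    x * y = y * x := by
  obtain ⟨F, i1, i2, hodd, -, ⟨e⟩⟩ := hL
  let pr : Matrix.SpecialLinearGroup (Fin 2) F →* Matrix.ProjectiveSpecialLinearGroup (Fin 2) F :=
    QuotientGroup.mk' _
  let π : Matrix.SpecialLinearGroup (Fin 2) F →* L := e.symm.toMonoidHom.comp pr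
  have hπ : Function.Surjective π := e.symm.surjective.comp (QuotientGroup.mk'_surjective _)
  have hk : π.ker = center (Matrix.SpecialLinearGroup (Fin 2) F) := by
    have h1 : π.ker = pr.ker := MonoidHom.ker_mulEquiv_comp pr e.symm
    rw [h1]
    exact QuotientGroup.ker_mk' _
  have h := SectionMat.commute_of_commute (two_ne_zero hodd) π hπ hk (m := ⟨m, hm⟩)
    (x := ⟨x, hx⟩) (y := ⟨y, hy⟩) (by rwa [Subgroup.orderOf_mk])
    (fun h1 => hm1 (congrArg Subtype.val h1)) (Subtype.ext hmx) (Subtype.ext hmy)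
  exact congrArg Subtype.val h

/-- An involution of `L` commuting with `m ≠ 1`, `m ∈ C_L(t)` of odd order, is `t`. -/
theorem eq_of_odd (hL : IsPsl L) {m t v : G} (hm : m ∈ L) (htL : t ∈ L) (hvL : v ∈ L)
    (ht : IsInv t) (hv : IsInv v) (ho : Odd (orderOf m)) (hm1 : m ≠ 1) (hmt : m * t = t * m)
    (hmv : m * v = v * m) : v = t := by
  by_contra hne
  exact hm1 (hL.eq_one_of_odd ht hv (commute_of_odd hL hm htL hvL ho hm1 hmt hmv) hne htL hvL
    hm hmt hmv ho)

end psl

section pair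

variable {G : Type u} [Group G] [Finite G] {t u : G} {L : Subgroup G}

/-- **Two different conjugates of `L` have at most one common involution.** -/
theorem pair (h : ZHyp G t) (b : Data t u L) {y : G} (hy : y ∈ centralizer ({t} : Set G))
    (hyL : y ∉ normalizer (L : Set G)) {v : G} (hv : IsInv v) (hvL : v ∈ L)
    (hvL' : y⁻¹ * v * y ∈ L) : v = t := by
  obtain ⟨x₀, hx₀, hx₀u, hx₀1⟩ := b.ex
  -- a prime `p`
  obtain ⟨p, hp, hpx⟩ := Nat.exists_prime_and_dvd (fun h1 => hx₀1 (orderOf_eq_one_iff.1 h1))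
  have := Fact.mk hp
  set P := piCoreOf {p} (Kc t) with hPdef
  have hPp : IsPGroup p P := FitCores.isPGroup_piCoreOf hp _
  have hPF : P ≤ fittingOf (Kc t) := FitCores.piCoreOf_singleton_le_fittingOf hp _
  have hPK : P ≤ Kc t := piCoreOf_le _ _
  have hPodd : Odd (Nat.card P) := odd_of_le hPK (odd_Kc t)
  have hPn : centralizer ({t} : Set G) ≤ normalizer (P : Set G) :=
    (normalizer_Kc_le t).trans (normalizer_le_normalizer_piCoreOf _ _)
  obtain ⟨c, hc⟩ := hpx
  have hc0 : c ≠ 0 := by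
    rintro rfl
    rw [mul_zero] at hc
    exact (orderOf_pos x₀).ne' hc
  set x := x₀ ^ c with hx
  have hxo : orderOf x = p := by
    rw [hx, orderOf_pow_of_dvd hc0 (Dvd.intro_left p hc.symm), hc, Nat.mul_div_left _
      (Nat.pos_of_ne_zero hc0)]
  have hx1 : x ≠ 1 := by
    intro h1
    rw [h1, orderOf_one] at hxo
    exact hp.one_lt.ne hxo
  have hxP : x ∈ P := mem_core_of_pow (pow_mem hx₀ c) hp (n := 1)
    (by rw [pow_one, ← hxo, pow_orderOf_eq_one])
  have hxu : x * u = u * x := ((show Commute x₀ u from hx₀u).pow_left c)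
  set X := P ⊓ centralizer ({u} : Set G) with hXdef
  have hxX : x ∈ X := ⟨hxP, mem_centralizer_singleton_iff.2 hxu⟩
  have hX1 : X ≠ ⊥ := fun h1 => hx1 (by rw [h1] at hxX; exact mem_bot.1 hxX)
  have hXn : normalizer (X : Set G) ≤ normalizer (L : Set G) :=
    b.normalizer_le (inf_le_left.trans hPF) inf_le_right hX1
  have hXL : ∀ a ∈ X, ∀ l ∈ L, a * l = l * a := by
    intro a ha l hl
    have h1 := b.mem_centralizer (hPF ha.1) (mem_centralizer_singleton_iff.1 ha.2)
    exact ((mem_centralizer_iff.1 h1) l hl).symm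
  -- `Q = ⟨X, y X y⁻¹⟩`
  set X' := X.map (MulAut.conj y).toMonoidHom with hX'
  set Q := X ⊔ X' with hQ
  have hX'P : X' ≤ P := by
    rintro _ ⟨a, ha, rfl⟩
    exact conj_mem_of_mem_normalizer (hPn hy) ha.1
  have hQP : Q ≤ P := sup_le inf_le_left hX'P
  have hQX : ¬ Q ≤ X := by
    intro h1
    apply hyL
    apply hXn
    apply mem_normalizer_of_conj
    intro a ha
    exact h1 (le_sup_right (α := Subgroup G) ⟨a, ha, rfl⟩)
  obtain ⟨w, hwQ, hwX, hwn⟩ := Refl.exists_mem_normalizer (hPp.to_le hQP) le_sup_left hQX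
  -- `v` centralises `Q`
  have hvQ : Q ≤ centralizer ({v} : Set G) := by
    refine sup_le ?_ ?_
    · intro a ha
      rw [mem_centralizer_singleton_iff]
      exact hXL a ha v hvL
    · rintro _ ⟨a, ha, rfl⟩
      rw [mem_centralizer_singleton_iff]
      have h1 := hXL a ha _ hvL'
      show y * a * y⁻¹ * v = v * (y * a * y⁻¹)
      calc y * a * y⁻¹ * v = y * (a * (y⁻¹ * v * y)) * y⁻¹ := by group
        _ = y * ((y⁻¹ * v * y) * a) * y⁻¹ := by rw [h1]
        _ = _ := by group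
  -- decompose `w`
  set W := P ⊓ normalizer (L : Set G) with hW
  have huP : u ∈ normalizer (P : Set G) := hPn (by
    rw [mem_centralizer_singleton_iff]; exact b.comm.symm)
  have huL : u ∈ normalizer (L : Set G) := Subgroup.le_normalizer b.mem_u
  have huW : u ∈ normalizer (W : Set G) := by
    apply mem_normalizer_of_conj
    rintro a ⟨ha1, ha2⟩
    exact ⟨conj_mem_of_mem_normalizer huP ha1, (normalizer (L : Set G)).mul_mem
      ((normalizer (L : Set G)).mul_mem huL ha2) ((normalizer (L : Set G)).inv_mem huL)⟩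
  have hWodd : Odd (Nat.card W) := odd_of_le inf_le_left hPodd
  obtain ⟨m, hm, d, hd, hmd⟩ := Lib.CoprimeCommutator.exists_commutator_mul_fixed_of_isPGroup 2
    (zpowers u) W b.inv_u.isPGroup (by rwa [zpowers_le]) (not_two_dvd hWodd) w
    ⟨hQP hwQ, hXn hwn⟩
  rw [centralizer_zpowers] at hd
  have hcommL : ⁅W, zpowers u⁆ ≤ L := by
    refine commutator_le.2 fun a ha z hz => ?_
    have hzL : z ∈ L := (zpowers_le.2 b.mem_u) hz
    rw [commutatorElement_def]
    exact L.mul_mem (conj_mem_of_mem_normalizer ha.2 hzL) (inv_mem hzL)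
  have hmL : m ∈ L := hcommL hm
  have hmW : m ∈ W := comm_le huW hm
  have hdX : d ∈ X := ⟨hd.1.1, hd.2⟩
  have hm1 : m ≠ 1 := by
    rintro rfl
    apply hwX
    rw [hmd, one_mul]
    exact hdX
  have hvw : w * v = v * w := mem_centralizer_singleton_iff.1 (hvQ hwQ)
  have hvd : d * v = v * d := hXL d hdX v hvL
  have hvm : m * v = v * m := by
    have h1 : m = w * d⁻¹ := by rw [hmd]; group
    have h2 : d⁻¹ * v = v * d⁻¹ := by
      rw [inv_mul_eq_iff_eq_mul, ← mul_assoc, hvd, mul_assoc, mul_inv_cancel, mul_one]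
    rw [h1, mul_assoc, h2, ← mul_assoc, hvw, mul_assoc]
  have hmt : m * t = t * m := mem_centralizer_singleton_iff.1 (Kc_le t (hPK hmW.1))
  exact eq_of_odd b.psl hmL b.mem_t hvL h.inv hv (odd_orderOf_of_mem hPodd hmW.1) hm1 hmt hvm

end pair

section count

variable {G : Type*} [Group G] [Finite G] {t : G} {L M : Subgroup G}

/-- Counting the conjugates of `L` meeting `L` in an involution. -/
theorem count (hLM : L ≤ M) (hM : M ≤ normalizer (L : Set G)) (ht : t ∈ L)
    (hpair : ∀ y ∈ centralizer ({t} : Set G), y ∉ M → ∀ l ∈ L, y⁻¹ * (l * t * l⁻¹) * y ∈ L →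
      l * t * l⁻¹ = t) :
    1 + (centralizer ({t} : Set G)).relIndex L * (M.relIndex (centralizer ({t} : Set G)) - 1) ≤
      M.index := by
  classical
  set H := centralizer ({t} : Set G) with hH
  let A := L ⧸ H.subgroupOf L
  let B := {b : H ⧸ M.subgroupOf H // b ≠ ((1 : H) : H ⧸ M.subgroupOf H)}
  have hA : Nat.card A = H.relIndex L := rfl
  have hB : Nat.card B = M.relIndex H - 1 := by
    have h1 : Nat.card B = Nat.card {b : H ⧸ M.subgroupOf H // ¬ b = ((1 : H) : H ⧸ M.subgroupOf H)} :=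
      rfl
    have _ := Fintype.ofFinite (H ⧸ M.subgroupOf H)
    rw [h1, Nat.card_eq_fintype_card, Fintype.card_subtype_compl, Fintype.card_subtype_eq,
      ← Nat.card_eq_fintype_card]
    rfl
  rw [← hA, ← hB, ← Nat.card_prod, add_comm, ← Finite.card_option]
  have hbM : ∀ b : B, ((b : H ⧸ M.subgroupOf H).out : G) ∉ M := by
    intro b hb
    apply b.2
    have h1 : (((b : H ⧸ M.subgroupOf H).out : H) : H ⧸ M.subgroupOf H) = b :=
      QuotientGroup.out_eq' _
    rw [← h1, eq_comm, QuotientGroup.eq, inv_one, one_mul, mem_subgroupOf]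
    exact hb
  let φ : Option (A × B) → G ⧸ M := fun x => x.elim ((1 : G) : G ⧸ M)
    (fun p => (((p.1.out : L) : G) * (((p.2 : H ⧸ M.subgroupOf H).out : H) : G) : G))
  have hφ : Function.Injective φ := by
    have hne : ∀ p : A × B, φ (some p) ≠ φ none := by
      rintro ⟨a, b⟩ h1
      have h2 : (((a.out : L) : G) * (((b : H ⧸ M.subgroupOf H).out : H) : G) : G ⧸ M) =
          ((1 : G) : G ⧸ M) := h1
      rw [eq_comm, QuotientGroup.eq, inv_one, one_mul] at h2
      exact hbM b ((M.mul_mem_cancel_left (hLM a.out.2)).1 h2)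
    rintro (_ | ⟨a, b⟩) (_ | ⟨a', b'⟩) h1
    · rfl
    · exact absurd h1.symm (hne _)
    · exact absurd h1 (hne _)
    · have h2 : (((a.out : L) : G) * (((b : H ⧸ M.subgroupOf H).out : H) : G) : G ⧸ M) =
          (((a'.out : L) : G) * (((b' : H ⧸ M.subgroupOf H).out : H) : G) : G) := h1
      rw [QuotientGroup.eq] at h2
      set α : G := ((a.out : L) : G) with hα
      set α' : G := ((a'.out : L) : G) with hα'
      set β : G := (((b : H ⧸ M.subgroupOf H).out : H) : G) with hβ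
      set β' : G := (((b' : H ⧸ M.subgroupOf H).out : H) : G) with hβ'
      have hαL : α ∈ L := a.out.2
      have hαL' : α' ∈ L := a'.out.2
      have hβH : β ∈ H := (b : H ⧸ M.subgroupOf H).out.2
      have hβH' : β' ∈ H := (b' : H ⧸ M.subgroupOf H).out.2
      have hβt : β' * t = t * β' := mem_centralizer_singleton_iff.1 hβH'
      have h3 : β⁻¹ * ((α⁻¹ * α') * t * (α⁻¹ * α')⁻¹) * β ∈ L := by
        have h4 : β⁻¹ * ((α⁻¹ * α') * t * (α⁻¹ * α')⁻¹) * β =
            ((α * β)⁻¹ * (α' * β')) * t * ((α * β)⁻¹ * (α' * β'))⁻¹ := by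
          calc β⁻¹ * ((α⁻¹ * α') * t * (α⁻¹ * α')⁻¹) * β
              = β⁻¹ * α⁻¹ * α' * (t * β') * β'⁻¹ * α'⁻¹ * α * β := by group
            _ = β⁻¹ * α⁻¹ * α' * (β' * t) * β'⁻¹ * α'⁻¹ * α * β := by rw [hβt]
            _ = _ := by group
        rw [h4]
        exact conj_mem_of_mem_normalizer (hM h2) ht
      have h5 := hpair β hβH (hbM b) (α⁻¹ * α') (L.mul_mem (L.inv_mem hαL) hαL') h3
      have h6 : α⁻¹ * α' ∈ H := by
        rw [hH, mem_centralizer_singleton_iff]
        exact mul_inv_eq_iff_eq_mul.1 h5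
      have h7 : a = a' := by
        rw [← QuotientGroup.out_eq' a, ← QuotientGroup.out_eq' a', QuotientGroup.eq,
          mem_subgroupOf]
        exact h6
      subst h7
      have h8 : b = b' := by
        apply Subtype.ext
        rw [← QuotientGroup.out_eq' (b : H ⧸ M.subgroupOf H),
          ← QuotientGroup.out_eq' (b' : H ⧸ M.subgroupOf H), QuotientGroup.eq, mem_subgroupOf]
        have h9 : (α * β)⁻¹ * (α' * β') = β⁻¹ * β' := by
          have : α = α' := rfl
          rw [← this]; group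
        rw [h9] at h2
        exact h2
      subst h8
      rfl
  exact Nat.card_le_card_of_injective φ hφ

end count

section arith

/-- The final inequality, `s = |S|`, `a = |T|`, `k = |K : K ∩ M|`, `N = |G : M|`, `i = |G : C(t)|`. -/
theorem arith {s a k N i q e : ℤ} (hs : 4 ≤ s) (ha : 3 ≤ a) (hk : 3 ≤ k) (hka : k ≤ a)
    (he : e = 1 ∨ e = -1) (hq : a * s = q - e) (h1 : N * (q * (q + e)) = 2 * (i * k))
    (h2 : 2 + q * (q + e) * (k - 1) ≤ 2 * N) (h3 : 2 * i ≤ (k * a) ^ 2 * ((s + 1) * (s + 2))) :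
    False := by
  set Q := q * (q + e) with hQ
  have hqe : q = a * s + e := by linarith
  -- lower bound for `Q`
  have hP : s * (s - 1) * a ^ 2 ≤ Q := by
    have h4 : Q = a ^ 2 * s ^ 2 + 3 * (a * s) * e + 2 * e ^ 2 := by
      rw [hQ, hqe]; ring
    have h5 : e ^ 2 = 1 := by rcases he with rfl | rfl <;> norm_num
    have h6 : a * s * 3 ≤ a * s * a := mul_le_mul_of_nonneg_left ha (by positivity)
    have h7 : -(3 * (a * s)) ≤ 3 * (a * s) * e := by
      rcases he with rfl | rfl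
      · have : 0 ≤ a * s := by positivity
        linarith
      · linarith
    rw [h4, h5]
    nlinarith
  have hQ0 : 0 < Q := by
    refine lt_of_lt_of_le ?_ hP
    have : 0 < s - 1 := by linarith
    positivity
  -- upper bound
  have h4 : Q ^ 2 * (k - 1) < 2 * (2 * (i * k)) := by
    rw [← h1]
    nlinarith
  have h5 : 2 * (2 * (i * k)) ≤ 2 * k ^ 3 * a ^ 2 * ((s + 1) * (s + 2)) := by
    have : 2 * (2 * (i * k)) = 2 * k * (2 * i) := by ring
    rw [this]
    calc 2 * k * (2 * i) ≤ 2 * k * ((k * a) ^ 2 * ((s + 1) * (s + 2))) :=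
          mul_le_mul_of_nonneg_left h3 (by linarith)
      _ = _ := by ring
  have h6 : 2 * k ^ 3 * a ^ 2 ≤ 3 * (k - 1) * a ^ 4 := by
    have h7 : k ^ 2 ≤ a ^ 2 := by nlinarith
    have h8 : 2 * k ≤ 3 * (k - 1) := by linarith
    calc 2 * k ^ 3 * a ^ 2 = (2 * k) * (k ^ 2 * a ^ 2) := by ring
      _ ≤ (3 * (k - 1)) * (k ^ 2 * a ^ 2) := mul_le_mul_of_nonneg_right h8 (by positivity)
      _ ≤ (3 * (k - 1)) * (a ^ 2 * a ^ 2) :=
          mul_le_mul_of_nonneg_left (mul_le_mul_of_nonneg_right h7 (by positivity)) (by linarith)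
      _ = _ := by ring
  have h7 : Q ^ 2 * (k - 1) < (3 * a ^ 4 * ((s + 1) * (s + 2))) * (k - 1) := by
    calc Q ^ 2 * (k - 1) < 2 * (2 * (i * k)) := h4
      _ ≤ 2 * k ^ 3 * a ^ 2 * ((s + 1) * (s + 2)) := h5
      _ ≤ 3 * (k - 1) * a ^ 4 * ((s + 1) * (s + 2)) :=
          mul_le_mul_of_nonneg_right h6 (by positivity)
      _ = _ := by ring
  have h8 : Q ^ 2 < 3 * a ^ 4 * ((s + 1) * (s + 2)) := lt_of_mul_lt_mul_right h7 (by linarith)
  have h9 : (s * (s - 1) * a ^ 2) ^ 2 ≤ Q ^ 2 :=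
    pow_le_pow_left₀ (mul_nonneg (mul_nonneg (by linarith) (by linarith)) (sq_nonneg a)) hP 2
  have h10 : a ^ 4 * (s ^ 2 * (s - 1) ^ 2) < a ^ 4 * (3 * ((s + 1) * (s + 2))) := by
    calc a ^ 4 * (s ^ 2 * (s - 1) ^ 2) = (s * (s - 1) * a ^ 2) ^ 2 := by ring
      _ ≤ Q ^ 2 := h9
      _ < _ := h8
      _ = _ := by ring
  have h11 : s ^ 2 * (s - 1) ^ 2 < 3 * ((s + 1) * (s + 2)) :=
    lt_of_mul_lt_mul_left h10 (by positivity)
  have h12 : 9 * s ^ 2 ≤ s ^ 2 * (s - 1) ^ 2 := by
    have : 9 ≤ (s - 1) ^ 2 := by nlinarith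
    nlinarith [sq_nonneg s]
  nlinarith

/-- The bound for the index, `|S| = 4`. -/
theorem bound_four {i κ f₁ f₂ f₃ : ℤ} (_hi : 0 < i)
    (h41 : (4 : ℤ) ∣ f₁ - 1) (h42 : (4 : ℤ) ∣ f₂ - 1) (h43 : (4 : ℤ) ∣ f₃ - 1)
    (hf1 : f₁ ≠ 1) (hf2 : f₂ ≠ 1) (hf3 : f₃ ≠ 1) (hs : 1 + f₁ + f₂ + f₃ = 0)
    (h : i * ((f₁ + 1) * (f₂ + 1) * (f₃ + 1)) = (8 * κ * κ) * (f₁ * f₂ * f₃)) :
    i ≤ 15 * κ ^ 2 := by
  -- two negative, one positive
  have two : ∀ a b : ℤ, 3 ≤ a → 3 ≤ b →
      8 * (a * b * (a + b - 1)) ≤ 15 * ((a - 1) * (b - 1) * (a + b)) := by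
    intro a b ha hb
    obtain ⟨x, rfl⟩ : ∃ x, a = 3 + x := ⟨a - 3, by ring⟩
    obtain ⟨y, rfl⟩ : ∃ y, b = 3 + y := ⟨b - 3, by ring⟩
    have hx : 0 ≤ x := by linarith
    have hy : 0 ≤ y := by linarith
    have hxy : 0 ≤ x * y := mul_nonneg hx hy
    have h3 : 0 ≤ (x * y) * (x + y) := mul_nonneg hxy (by linarith)
    nlinarith [sq_nonneg (x + y)]
  have one : ∀ b c : ℤ, 5 ≤ b → 5 ≤ c →
      8 * ((1 + b + c) * b * c) ≤ 15 * ((b + c) * (b + 1) * (c + 1)) := by
    intro b c hb hc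
    have hb0 : 0 ≤ b := by linarith
    have hc0 : 0 ≤ c := by linarith
    have h1 : b * c ≤ (b + 1) * (c + 1) := by nlinarith
    have h2 : 8 * (1 + b + c) ≤ 15 * (b + c) := by linarith
    calc 8 * ((1 + b + c) * b * c) = (8 * (1 + b + c)) * (b * c) := by ring
      _ ≤ (15 * (b + c)) * (b * c) := mul_le_mul_of_nonneg_right h2 (mul_nonneg hb0 hc0)
      _ ≤ (15 * (b + c)) * ((b + 1) * (c + 1)) := mul_le_mul_of_nonneg_left h1 (by linarith)
      _ = _ := by ring
  have key : ∀ P R : ℤ, 0 < P → 8 * R ≤ 15 * P → i * P = (8 * κ * κ) * R → i ≤ 15 * κ ^ 2 := by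
    intro P R hP hRP hiP
    have h1 : i * P ≤ (15 * κ ^ 2) * P := by
      calc i * P = κ ^ 2 * (8 * R) := by rw [hiP]; ring
        _ ≤ κ ^ 2 * (15 * P) := mul_le_mul_of_nonneg_left hRP (sq_nonneg κ)
        _ = _ := by ring
    exact le_of_mul_le_mul_right h1 hP
  have c : ∀ f : ℤ, (4 : ℤ) ∣ f - 1 → f ≠ 1 → f ≤ -3 ∨ 5 ≤ f := by
    intro f hf hf1
    obtain ⟨k, hk⟩ := hf
    rcases lt_trichotomy k 0 with h1 | h1 | h1
    · left; omega
    · exfalso; apply hf1; rw [h1] at hk; linarith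
    · right; omega
  -- the case `f₁, f₂ ≤ -3`
  have A : ∀ g₁ g₂ g₃ : ℤ, g₁ ≤ -3 → g₂ ≤ -3 → 1 + g₁ + g₂ + g₃ = 0 →
      i * ((g₁ + 1) * (g₂ + 1) * (g₃ + 1)) = (8 * κ * κ) * (g₁ * g₂ * g₃) → i ≤ 15 * κ ^ 2 := by
    intro g₁ g₂ g₃ h1 h2 h3 h4
    have hg : g₃ = (-g₁) + (-g₂) - 1 := by linarith
    apply key _ _ _ (two (-g₁) (-g₂) (by linarith) (by linarith))
    · rw [hg] at h4
      linear_combination h4
    · have e1 : 0 < -g₁ - 1 := by linarith
      have e2 : 0 < -g₂ - 1 := by linarith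
      have e3 : 0 < -g₁ + -g₂ := by linarith
      positivity
  have B : ∀ g₁ g₂ g₃ : ℤ, 5 ≤ g₂ → 5 ≤ g₃ → 1 + g₁ + g₂ + g₃ = 0 →
      i * ((g₁ + 1) * (g₂ + 1) * (g₃ + 1)) = (8 * κ * κ) * (g₁ * g₂ * g₃) → i ≤ 15 * κ ^ 2 := by
    intro g₁ g₂ g₃ h1 h2 h3 h4
    have hg : g₁ = -(1 + g₂ + g₃) := by linarith
    apply key _ _ _ (one g₂ g₃ h1 h2)
    · rw [hg] at h4
      linear_combination -h4
    · have e1 : 0 < g₂ + g₃ := by linarith
      have e2 : 0 < g₂ + 1 := by linarith
      have e3 : 0 < g₃ + 1 := by linarith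
      positivity
  rcases c f₁ h41 hf1 with a1 | a1 <;> rcases c f₂ h42 hf2 with a2 | a2 <;>
    rcases c f₃ h43 hf3 with a3 | a3
  · linarith
  · exact A f₁ f₂ f₃ a1 a2 hs h
  · exact A f₁ f₃ f₂ a1 a3 (by linarith) (by linear_combination h)
  · exact B f₁ f₂ f₃ a2 a3 hs h
  · exact A f₂ f₃ f₁ a2 a3 (by linarith) (by linear_combination h)
  · exact B f₂ f₁ f₃ a1 a3 (by linarith) (by linear_combination h)
  · exact B f₃ f₁ f₂ a1 a2 (by linarith) (by linear_combination h)
  · linarith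

/-- The bound for the index, `|S| = 2 n ≥ 8`. -/
theorem bound_eight {i κ m l f n : ℤ} (hn : 0 < n) (hm : m ≠ 0) (hf : f = 1 + 2 * n * m)
    (hκ : κ = l * |m|) (hi : i = l ^ 2 * (f * (n * m + 1))) :
    i ≤ κ ^ 2 * ((2 * n + 1) * (n + 1)) := by
  have h1 : f * (n * m + 1) ≤ m ^ 2 * ((2 * n + 1) * (n + 1)) := by
    have h2 : m ≤ m ^ 2 := by
      rcases lt_or_gt_of_ne hm with h | h
      · nlinarith [sq_nonneg m]
      · nlinarith
    have h3 : 1 ≤ m ^ 2 := by
      rcases lt_or_gt_of_ne hm with h | h <;> nlinarith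
    rw [hf]
    nlinarith [mul_le_mul_of_nonneg_left h2 hn.le]
  calc i = l ^ 2 * (f * (n * m + 1)) := hi
    _ ≤ l ^ 2 * (m ^ 2 * ((2 * n + 1) * (n + 1))) := mul_le_mul_of_nonneg_left h1 (sq_nonneg l)
    _ = κ ^ 2 * ((2 * n + 1) * (n + 1)) := by rw [hκ, mul_pow, sq_abs]; ring

end arith

section final

open Cfsg.Agent.Classification.BGDefs Cfsg.Agent.Classification.BGBasic
  Cfsg.Agent.Classification.BGOrder Cfsg.Agent.Classification.DihTypeACount
  Cfsg.Agent.Classification.TypeZ.Count Cfsg.Agent.Classification.TypeZ.Numbers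
  Cfsg.Agent.Classification.TypeZ.EndNum

variable {G : Type u} [Group G] [Finite G] {t u : G} {L S : Subgroup G}

/-- `K` does not normalise `L` (if `S ≤ N(L)`). -/
theorem not_le (h : ZHyp G t) (b : Data t u L)
    (hH : centralizer ({t} : Set G) ≤ Kc t ⊔ S) (hSL : S ≤ normalizer (L : Set G)) :
    ¬ Kc t ≤ normalizer (L : Set G) := by
  intro hK
  have h1 : centralizer ({t} : Set G) ≤ normalizer (L : Set G) := hH.trans (sup_le hK hSL)
  apply b.not_le_centralizer h
  by_cases htop : normalizer (L : Set G) = ⊤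
  · -- `L` is normal
    intro l hl
    obtain ⟨x₀, hx₀, hx₀u, hx₀1⟩ := b.ex
    have hN : L.Normal := normalizer_eq_top_iff.1 htop
    have := h.simple
    rcases hN.eq_bot_or_eq_top with h2 | h2
    · have := b.mem_t
      rw [h2, mem_bot] at this
      exact absurd this h.inv.2
    · have h3 : x₀ ∈ centralizer (L : Set G) := b.mem_centralizer hx₀ hx₀u
      have h4 : ∀ g : G, g ∈ normalizer (zpowers x₀ : Set G) := by
        intro g
        have h5 : g * x₀ = x₀ * g := (mem_centralizer_iff.1 h3) g (by rw [h2]; trivial)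
        apply mem_normalizer_of_conj
        rintro _ ⟨n, rfl⟩
        have h6 : Commute g (x₀ ^ n) := (show Commute g x₀ from h5).zpow_right n
        have h7 : g * x₀ ^ n * g⁻¹ = x₀ ^ n := by rw [h6.eq]; group
        show g * x₀ ^ n * g⁻¹ ∈ zpowers x₀
        rw [h7]
        exact ⟨n, rfl⟩
      rw [mem_centralizer_singleton_iff]
      refine h.commute_of_mem_normalizer (X := zpowers x₀) ?_ ?_ (fun g _ => h4 g) (h4 l)
      · apply h.ne_top_of_odd
        apply odd_of_le _ (odd_Kc t)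
        rw [zpowers_le]
        exact FitAux.fittingOf_le _ hx₀
      · rwa [Ne, zpowers_eq_bot]
  · have h2 : centralizer ({t} : Set G) = normalizer (L : Set G) := by
      by_contra hne
      exact htop (h.max.2 _ (lt_of_le_of_ne h1 hne))
    rw [h2]
    exact le_normalizer

/-- **[COUNT]** `|T| < |K : K ∩ N(L)|`, `T = K ∩ L`. -/
theorem lt_relIndex (h : ZHyp G t) (b : Data t u L) {n : ℕ} [NeZero n]
    {π : (centralizer ({t} : Set G)) →* DihedralGroup n} (hB : BGHyp t n π)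
    (hidx : Odd (centralizer ({t} : Set G)).index) {q : ℕ} {e : ℤ}
    (d : LData t L (normalizer (L : Set G)) S q e) (hcard : Nat.card S = 2 * n)
    (hV : n = 2 → ∃ P : Sylow 2 G, IsKleinFour (P : Subgroup G)) :
    Nat.card (Kc t ⊓ L : Subgroup G) < (normalizer (L : Set G)).relIndex (Kc t) := by
  have := h.simple
  set M := normalizer (L : Set G) with hMdef
  have hG := h.sub
  have hH := Gamma.le_sup hG hB d.cent_t hcard
  have hSM : S ≤ M := d.le_L.trans le_normalizer
  have hrel : M.relIndex (centralizer ({t} : Set G)) = M.relIndex (Kc t) :=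
    relIndex_eq_of_sup (Kc_le t) (normalizer_Kc_le t) hH d.cent_t hSM
  -- two involutions of `S`
  obtain ⟨v, hv, hvp⟩ := exists_par_mem hG hB d.cent_t hcard 0
  obtain ⟨w, hw, hwp⟩ := exists_par_mem hG hB d.cent_t hcard 1
  have hvi := isInv_of_orderOf hvp.2.1
  have hwi := isInv_of_orderOf hwp.2.1
  have hvt := par_ne_t hB hvp
  have hwt := par_ne_t hB hwp
  have hpv := d.psl v hv hvi hvt
  have hrv := d.relIndex_eq hv hvi hvt
  have hrw := d.relIndex_eq hw hwi hwt
  set a := Nat.card (Kc t ⊓ L : Subgroup G) with ha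
  set k := M.relIndex (Kc t) with hk
  have hmul := d.card_mul hG hB hidx hcard
  -- `a ≥ 3`
  have haodd : Odd a := odd_of_le inf_le_left (odd_Kc t)
  have ha1 : a ≠ 1 := by
    intro h1
    obtain ⟨y, hyL, hyt, hyo, hy1⟩ := b.odd_elt
    apply hy1
    have h2 : Kc t ⊓ L = ⊥ := eq_bot_of_card_eq _ h1
    have h3 : y ∈ Kc t ⊓ L := ⟨(mem_Kc_iff hG h.inv).2 ⟨hyt, hyo⟩, hyL⟩
    rwa [h2, mem_bot] at h3
  have ha3 : 3 ≤ a := by
    obtain ⟨j, hj⟩ := haodd
    omega
  -- `k ≥ 3`
  have hkodd : Odd k := odd_relIndex M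
  have hk1 : k ≠ 1 := fun h1 => not_le h b hH hSM (relIndex_eq_one.1 h1)
  have hk3 : 3 ≤ k := by
    obtain ⟨j, hj⟩ := hkodd
    omega
  have hn2 : 2 ≤ n := by
    obtain ⟨m, hm1, hm⟩ := hB.pow
    rw [hm]
    calc 2 = 2 ^ 1 := rfl
      _ ≤ 2 ^ m := Nat.pow_le_pow_right (by norm_num) hm1
  by_contra hcon
  push Not at hcon
  -- the count
  have hcount := count (t := t) (L := L) (M := M) le_normalizer le_rfl b.mem_t (by
    intro y hy hyM l hl hyl
    exact pair h b hy hyM (h.inv.conj l) (L.mul_mem (L.mul_mem hl b.mem_t) (L.inv_mem hl)) hyl)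
  rw [hrel] at hcount
  have h2L := hpv.two_mul_relIndex
  have hidxmul := hpv.index_mul (M := M) le_normalizer le_rfl
  rw [hrel] at hidxmul
  -- the upper bound
  have hupper : 2 * ((centralizer ({t} : Set G)).index : ℤ) ≤
      ((k : ℤ) * a) ^ 2 * (((2 * n : ℕ) : ℤ) + 1) * (((2 * n : ℕ) : ℤ) + 2) := by
    by_cases h4 : 4 ≤ n
    · obtain ⟨f, m, l, κ, hm, -, -, hf, hκ, hκ2, hi⟩ := exists_numbers hG hB h4 hvp hwp
      rw [← hrv, ← hrw] at hκ2
      have h5 : κ = k * a := by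
        have : 2 * κ = 2 * ((k : ℤ) * a) := by rw [hκ2]; push_cast; ring
        linarith
      have h6 := bound_eight (by exact_mod_cast (by omega : 0 < n)) hm hf hκ hi
      rw [h5] at h6
      push_cast
      nlinarith
    · have hn : n = 2 := by
        obtain ⟨m, hm1, hm⟩ := hB.pow
        rcases m with _ | _ | m
        · omega
        · rw [hm]; norm_num
        · exfalso
          apply h4
          rw [hm]
          calc 4 = 2 ^ 2 := rfl
            _ ≤ 2 ^ (m + 1 + 1) := Nat.pow_le_pow_right (by norm_num) (by omega)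
      subst hn
      obtain ⟨P, hP⟩ := hV rfl
      have _ := Fintype.ofFinite G
      obtain ⟨X, f, D⟩ := FourChars.exists_data hB P hP
      have h0 := two_mul_kcount hG hB hvp
      have h1 := two_mul_kcount hG hB hwp
      rw [← hrv] at h0
      rw [← hrw] at h1
      have e0 : kcount (two_dvd hB) π 0 = k * a := Nat.eq_of_mul_eq_mul_left two_pos h0
      have e1 : kcount (two_dvd hB) π 1 = k * a := Nat.eq_of_mul_eq_mul_left two_pos h1
      have hsum : 1 + f 0 + f 1 + f 2 = 0 := by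
        have h1 := D.odd 1 (by rw [orderOf_one]; exact odd_one)
        rw [D.one, D.one, D.one] at h1
        exact_mod_cast h1
      have horder := D.order
      rw [e0, e1] at horder
      have h6 := bound_four (κ := ((k * a : ℕ) : ℤ))
        (by exact_mod_cast Nat.pos_of_ne_zero index_ne_zero_of_finite)
        (D.four 0) (D.four 1) (D.four 2) (D.f_ne_one 0) (D.f_ne_one 1) (D.f_ne_one 2) hsum horder
      push_cast at h6 ⊢
      linarith
  refine arith (s := ((2 * n : ℕ) : ℤ)) (a := a) (k := k) (N := M.index)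
    (i := (centralizer ({t} : Set G)).index) (q := q) (e := e) (by exact_mod_cast (by omega :
      4 ≤ 2 * n)) (by exact_mod_cast ha3) (by exact_mod_cast hk3) (by exact_mod_cast hcon) hpv.e_eq
    (by push_cast; exact hmul) hidxmul ?_ ?_
  · have h5 : ((1 + (centralizer ({t} : Set G)).relIndex L * (k - 1) : ℕ) : ℤ) ≤ (M.index : ℤ) := by
      exact_mod_cast hcount
    have h6 : ((k - 1 : ℕ) : ℤ) = (k : ℤ) - 1 := by omega
    push_cast at h5
    rw [h6] at h5
    calc 2 + (q : ℤ) * (q + e) * (k - 1)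
        = 2 * (1 + (centralizer ({t} : Set G)).relIndex L * ((k : ℤ) - 1)) := by rw [← h2L]; ring
      _ ≤ 2 * M.index := by linarith
  · rw [← mul_assoc]
    exact hupper

end final

end Cfsg.Agent.Classification.TypeZ.PairCountB
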