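import Mathlib
import Cfsg.Agent.Lib.PSL2Field
import Cfsg.Agent.Classification.TypeZ.GammaFour
import Cfsg.Agent.Classification.TypeZ.TriGamma
import Cfsg.Agent.Classification.TypeZ.PairCountB
import Cfsg.Agent.Classification.TypeZ.Torus

/-!
# Type Z of the Gorenstein–Walter theorem, case GAMMA, `|S| = 4`: the final form
-/

set_option autoImplicit false
set_option linter.unusedSectionVars false

namespace Cfsg.Agent.Classification.TypeZ.GammaFourEnd

open Subgroup Cfsg DihedralGroup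
open Cfsg.Agent.OddOrderLocal Cfsg.Agent.OddOrderLocal.PiCoreOf
open Cfsg.Agent.Classification.TypeB.Basic Cfsg.Agent.Classification.TypeB.Core
open Cfsg.Agent.Classification.TypeZ.Bender Cfsg.Agent.Classification.TypeZ.Count
  Cfsg.Agent.Classification.TypeZ.Base Cfsg.Agent.Classification.TypeZ.EndNum
open Cfsg.Agent.Classification.BGDefs Cfsg.Agent.Classification.BGBasic
  Cfsg.Agent.Classification.DihedralCentral
open Cfsg.Agent.ClassicalGeometry.KleinCount (CommInv)

universe u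

variable {G : Type u} [Group G] [Finite G] {t u : G} {L : Subgroup G}

/-- `q` is determined by `|L|`; a field of order `q`. -/
theorem exists_field (h : ZHyp G t) (b : Data t u L) {q : ℕ} {e : ℤ} (hL : PslComp t u L q e) :
    ∃ (F : Type) (_ : Field F) (_ : Finite F), Nat.card F = q ∧ Odd (Nat.card F) ∧
      IsPrimePow q ∧ Nonempty (L ≃* Matrix.ProjectiveSpecialLinearGroup (Fin 2) F) := by
  obtain ⟨F, i1, i2, hodd, h3, ⟨φ⟩⟩ := b.psl
  have hodd' : Odd (Nat.card F) := by rwa [Nat.card_eq_fintype_card]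
  have h5 : 5 ≤ Nat.card F := by
    rw [Nat.card_eq_fintype_card]
    obtain ⟨r, hr⟩ := hodd
    omega
  obtain ⟨e', h'⟩ := PslCompOf.exists_pslComp φ hodd' h5 h.inv b.inv_u b.comm b.ne.symm b.mem_t
    b.mem_u
  have hq : Nat.card F = q := by
    have h1 := h'.card
    have h2 := hL.card
    have h3 : ∀ a b : ℤ, 5 ≤ a → 5 ≤ b → a * (a ^ 2 - 1) = b * (b ^ 2 - 1) → a = b := by
      intro a b ha hb hab
      have h4 : (a - b) * (a ^ 2 + a * b + b ^ 2 - 1) = 0 := by linear_combination hab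
      rcases mul_eq_zero.1 h4 with h5 | h5
      · linarith
      · exfalso
        nlinarith [mul_nonneg (show (0:ℤ) ≤ a by linarith) (show (0:ℤ) ≤ b by linarith)]
    have h4 := h3 (Nat.card F) q (by exact_mod_cast h5) (by exact_mod_cast hL.five)
      (by rw [← h1, ← h2])
    exact_mod_cast h4
  refine ⟨F, i1, inferInstance, hq, hodd', ?_, ⟨φ⟩⟩
  rw [← hq, Nat.card_eq_fintype_card]
  exact FiniteField.isPrimePow_card F

/-- `C_K(u) ∩ C(L) = ⟨x⟩` -/
theorem inf_centralizer (b : Data t u L) {p k : ℕ} {x : G}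
    (g : TriGamma.Gamma (Kc t) (normalizer (L : Set G)) (Kc t ⊓ L) u p k x) (hk : k ≠ 1) :
    Kc t ⊓ centralizer ({u} : Set G) ⊓ centralizer (L : Set G) = zpowers x := by
  apply le_antisymm
  · rintro y ⟨⟨hy1, hy2⟩, hy3⟩
    refine g.cent hk y hy1 (mem_centralizer_singleton_iff.1 hy2) fun a ha => ?_
    exact ((mem_centralizer_iff.1 hy3) a ha.2).symm
  · rw [zpowers_le]
    refine ⟨⟨FitAux.fittingOf_le _ g.mem_x, mem_centralizer_singleton_iff.2 g.comm_x⟩, ?_⟩
    exact b.mem_centralizer g.mem_x g.comm_x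

/-- `|C_K(u)| = p b`, `3 ^ b ≤ q` -/
theorem exists_card (h : ZHyp G t) (b : Data t u L) {q : ℕ} {e : ℤ} (hL : PslComp t u L q e)
    {p k : ℕ} {x : G}
    (g : TriGamma.Gamma (Kc t) (normalizer (L : Set G)) (Kc t ⊓ L) u p k x) (hk : k ≠ 1) :
    ∃ c : ℕ, Nat.card (Kc t ⊓ centralizer ({u} : Set G) : Subgroup G) = p * c ∧ 3 ^ c ≤ q := by
  obtain ⟨F, i1, i2, hq, hodd, -, ⟨φ⟩⟩ := exists_field h b hL
  set D := Kc t ⊓ centralizer ({u} : Set G) with hD
  refine ⟨(centralizer (L : Set G)).relIndex D, ?_, ?_⟩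
  · rw [← card_inf_mul_relIndex D (centralizer (L : Set G)), hD, inf_centralizer b g hk,
      Nat.card_zpowers, g.order_x]
  · rw [← hq]
    refine Cfsg.Agent.Lib.PSL2Field.three_pow_relIndex_le hodd φ (odd_of_le inf_le_left (odd_Kc t))
      b.inf_centralizer_le b.mem_t b.mem_u ?_ (inf_le_left.trans (Kc_le t)) inf_le_right
    exact ⟨h.inv.2, b.inv_u.2, b.ne.symm, h.inv.1, b.inv_u.1, b.comm⟩

/-- **case GAMMA, `|S| = 4`** -/
theorem false_of_gamma (h : ZHyp G t) (b : Data t u L)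
    {π : (centralizer ({t} : Set G)) →* DihedralGroup 2} (hB : BGHyp t 2 π)
    (P : Sylow 2 G) (hP : IsKleinFour (P : Subgroup G))
    (hidx : Odd (centralizer ({t} : Set G)).index) {q : ℕ} {e : ℤ} {S : Subgroup G}
    (d : LData t L (normalizer (L : Set G)) S q e) (hcard : Nat.card S = 2 * 2) (hu : u ∈ S)
    {p k : ℕ} {x : G}
    (g : TriGamma.Gamma (Kc t) (normalizer (L : Set G)) (Kc t ⊓ L) u p k x) : False := by
  have hL := d.psl u hu b.inv_u b.ne
  obtain ⟨F, i1, i2, hq, hodd, hpp, ⟨φ⟩⟩ := exists_field h b hL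
  have hcount := PairCountB.lt_relIndex h b hB hidx d hcard (fun _ => ⟨P, hP⟩)
  have hT : Odd (Nat.card (Kc t ⊓ L : Subgroup G)) := odd_of_le inf_le_left (odd_Kc t)
  have hpT := Nat.le_of_dvd Nat.card_pos g.dvd_T
  have hpodd : Odd p := g.prime.odd_of_ne_two g.ne_two
  rw [g.index] at hcount
  have hk : k ≠ 1 := by
    rintro rfl
    rw [mul_one] at hcount
    omega
  obtain ⟨c, hc, hcq⟩ := exists_card h b hL g hk
  have hrel := d.relIndex_eq hu b.inv_u b.ne
  rw [g.index] at hrel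
  have hpk : Odd (p * k) := hpodd.mul g.odd
  refine GammaFour.false_of_gamma h hB P hP hL hpp le_normalizer le_rfl d.cent_t hcard d.le_L hidx
    b.inf_centralizer_le (F := fittingOf (Kc t)) g.prime g.dvd_T g.odd g.le
    (by rw [← hrel]; ring) ?_ hc hcq (FitAux.fittingOf_le _) ?_ g.T_le ?_ ?_ g.card_fit
    (Torus.isCyclic_inf h b)
  · obtain ⟨r, hr⟩ := hT
    obtain ⟨s, hs⟩ := hpk
    omega
  · exact (normalizer_Kc_le t).trans (NilpotentHall.normalizer_le_normalizer_fittingOf _)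
  · intro y hy τ hτ
    rw [← g.center] at hτ
    exact ((mem_centralizer_iff.1 hτ.2) y hy)
  · intro y hy hyc
    rw [← g.center]
    exact ⟨hy, mem_centralizer_iff.2 fun z hz => (hyc z hz).symm⟩

end Cfsg.Agent.Classification.TypeZ.GammaFourEnd
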