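import Mathlib
import Cfsg.Agent.S1287
import Cfsg.Agent.Lib.PGroupCoprimeAction
import Cfsg.Agent.Classification.TypeZ.Fusion
import Cfsg.Agent.TwoFusion.DihedralFusion

/-!
# Type Z of the Gorenstein–Walter theorem, no good pairs: elementary facts

* `mem_four_of_two`: a 2-element commuting with `t` and `u` lies in `{1, t, u, tu}`;
* `exists_special`: a special prime `p` gives an involution `u ≠ t` of `S` and an `S`-invariant Sylow
  `p`-subgroup `T` of `K_t` with `T ≤ C(u)`;
* `SCtx`: this situation, `SCtx.cases`: `S = ⟨t, u⟩` or an involution `w` of `S` conjugates `u` to `tu`.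
-/

set_option autoImplicit false
set_option linter.unusedSectionVars false
set_option linter.style.haveILetI false

namespace Cfsg.Agent.Classification.TypeZ.NoGoodBase

open Subgroup Cfsg
open Cfsg.Agent.Classification.TypeB.Basic Cfsg.Agent.Classification.TypeB.Core
open Cfsg.Agent.Classification.TypeB.Fusion
open Cfsg.Agent.OddOrderLocal Cfsg.Agent.OddOrderLocal.PiCoreOf
open Cfsg.Agent.Classification.DihedralCentral Cfsg.Agent.Classification.TransferSign
open Cfsg.Agent.Classification.DihReduction Cfsg.Agent.Classification.DihStructure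
open Cfsg.Agent.Classification.DihMinimal Cfsg.Agent.Classification.TypeZ.Bender
open Cfsg.Agent.Classification.TypeZ.Fusion
open Cfsg.Agent.SignalizersComponents.RelSylow

universe u

section

variable {G : Type u} [Group G] [Finite G] {t : G}

theorem isPGroup_zpowers {p k : ℕ} {x : G} (hx : x ^ p ^ k = 1) : IsPGroup p (zpowers x) := by
  rintro ⟨_, n, rfl⟩
  refine ⟨k, Subtype.ext ?_⟩
  show (x ^ n) ^ p ^ k = 1
  rw [← zpow_natCast, zpow_comm, zpow_natCast, hx, one_zpow]

open Cfsg.Agent.TwoFusion.DihedralFusion in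
/-- A 2-element commuting with `t` and `u` lies in the four-group. -/
theorem mem_four_of_two (hG : SubDihedral G) {t u x : G} (ht : IsInv t) (hu : IsInv u)
    (htu : t * u = u * t) (hne : u ≠ t) {k : ℕ} (hx : x ^ 2 ^ k = 1) (hxt : x * t = t * x)
    (hxu : x * u = u * x) : x = 1 ∨ x = t ∨ x = u ∨ x = t * u := by
  have : Fact (Nat.Prime 2) := ⟨Nat.prime_two⟩
  set V : Subgroup G := fourGroup t u ht.1 hu.1 htu with hV
  have hVk : IsKleinFour V := isKleinFour_fourGroup ht.1 hu.1 htu ht.2 hu.2 hne.symm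
  have hxV : x ∈ centralizer (V : Set G) := by
    rw [mem_centralizer_iff]
    intro y hy
    have hy' : y ∈ V := hy
    rw [hV, mem_fourGroup] at hy'
    rcases hy' with rfl | rfl | rfl | rfl
    · rw [one_mul, mul_one]
    · exact hxt.symm
    · exact hxu.symm
    · rw [mul_assoc, ← hxu, ← mul_assoc, ← hxt, mul_assoc]
  have hVc : V ≤ centralizer (V : Set G) := by
    intro y hy
    rw [mem_centralizer_iff]
    intro z hz
    exact comm_of_isKleinFour hVk hz hy
  have hV2 : IsPGroup 2 V := IsPGroup.of_card (n := 2) (by rw [hVk.card_four]; norm_num)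
  have hzc : zpowers x ≤ centralizer (V : Set G) := by rwa [zpowers_le]
  have hT : IsPGroup 2 (V ⊔ zpowers x : Subgroup G) :=
    hV2.to_sup_of_normal_left' (isPGroup_zpowers hx) (hzc.trans (centralizer_le_normalizer _))
  have hTV := eq_of_centralizes hG V (V ⊔ zpowers x) hVk le_sup_left hT (sup_le hVc hzc)
  have h1 : x ∈ V := by
    rw [← hTV]
    exact (le_sup_right : zpowers x ≤ V ⊔ zpowers x) (mem_zpowers x)
  rwa [hV, mem_fourGroup] at h1

theorem exists_pow_of_mem {p : ℕ} {P : Subgroup G} (hP : IsPGroup p P) {x : G} (hx : x ∈ P) :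
    ∃ k, x ^ p ^ k = 1 := by
  obtain ⟨k, hk⟩ := hP ⟨x, hx⟩
  exact ⟨k, congrArg Subtype.val hk⟩

theorem IsSyl.le {p : ℕ} {K T : Subgroup G} (h : IsSyl p K T) : T ≤ K := (isSyl_iff.1 h).1

theorem IsSyl.isPGroup {p : ℕ} {K T : Subgroup G} (h : IsSyl p K T) : IsPGroup p T :=
  (isSyl_iff.1 h).2.1

theorem isSyl_of_card {p : ℕ} [Fact p.Prime] {K T : Subgroup G} (hTK : T ≤ K) (hT : IsPGroup p T)
    (hcard : Nat.card T = p ^ (Nat.card K).factorization p) : IsSyl p K T := by
  rw [isSyl_iff]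
  refine ⟨hTK, hT, fun Q hQK hQ hTQ => (eq_of_le_of_card_ge hTQ ?_).symm⟩
  obtain ⟨k, hk⟩ := IsPGroup.iff_card.1 hQ
  rw [hk, hcard]
  apply Nat.pow_le_pow_right (Fact.out : p.Prime).pos
  rw [← Nat.Prime.pow_dvd_iff_le_factorization Fact.out Nat.card_pos.ne', ← hk]
  exact card_dvd_of_le hQK

theorem isSyl_iff_isMaxP {p : ℕ} {K T : Subgroup G} : IsSyl p K T ↔ IsMaxP p K T := by
  rw [isSyl_iff]
  constructor
  · rintro ⟨h1, h2, h3⟩
    exact ⟨h2, h1, fun R hR hRK hTR => (h3 R hRK hR hTR).le⟩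
  · rintro ⟨h1, h2, h3⟩
    exact ⟨h2, h1, fun R hRK hR hTR => le_antisymm (h3 R hR hRK hTR) hTR⟩

/-- normal `p`-subgroups lie in the Sylow `p`-subgroups -/
theorem IsSyl.normal_le {p : ℕ} [Fact p.Prime] {K T N : Subgroup G} (h : IsSyl p K T) (hNK : N ≤ K)
    (hN : IsPGroup p N) (hn : K ≤ normalizer (N : Set G)) : N ≤ T := by
  have h1 : IsPGroup p (T ⊔ N : Subgroup G) := by
    rw [sup_comm]
    exact hN.to_sup_of_normal_left' (IsSyl.isPGroup h) ((IsSyl.le h).trans hn)
  have h2 := (isSyl_iff.1 h).2.2 _ (sup_le (IsSyl.le h) hNK) h1 le_sup_left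
  rw [← h2]
  exact le_sup_right

/-- Frattini: `g` normalises `C`, `T` Sylow in `C`: `c g` normalises `T` for some `c ∈ C`. -/
theorem IsSyl.exists_frattini {p : ℕ} [Fact p.Prime] {C T : Subgroup G} (h : IsSyl p C T) {g : G}
    (hg : g ∈ normalizer (C : Set G)) : ∃ c ∈ C, c * g ∈ normalizer (T : Set G) := by
  have h1 := isSyl_iff_isMaxP.1 h
  obtain ⟨c, hc, h2⟩ := (h1.map_conj_mem hg).exists_conj h1
  refine ⟨c, hc, mem_normalizer_of_conj fun x hx => ?_⟩
  rw [← h2]
  refine ⟨g * x * g⁻¹, ⟨x, hx, rfl⟩, ?_⟩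
  show c * (g * x * g⁻¹) * c⁻¹ = _
  group

/-- `O_p(K_v)` -/
def Pc (p : ℕ) (v : G) : Subgroup G := piCoreOf {p} (Kc v)

theorem pc_def (p : ℕ) (v : G) : Pc p v = piCoreOf {p} (Kc v) := rfl

theorem Pc_le (p : ℕ) (v : G) : Pc p v ≤ Kc v := piCoreOf_le _ _

theorem isPGroup_Pc {p : ℕ} (hp : p.Prime) (v : G) : IsPGroup p (Pc p v) :=
  FitCores.isPGroup_piCoreOf hp _

theorem Pc_normal (p : ℕ) (v : G) : centralizer ({v} : Set G) ≤ normalizer (Pc p v : Set G) :=
  (normalizer_Kc_le v).trans (normalizer_le_normalizer_piCoreOf _ _)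

theorem Pc_le_fitting {p : ℕ} (hp : p.Prime) (v : G) : Pc p v ≤ fittingOf (Kc v) :=
  FitCores.piCoreOf_singleton_le_fittingOf hp _

theorem conj_Pc (hG : SubDihedral G) (p : ℕ) {v : G} (hv : IsInv v) (g : G) :
    (Pc p v).map (MulAut.conj g).toMonoidHom = Pc p (g * v * g⁻¹) := by
  rw [pc_def, pc_def, ← conj_Kc hG hv, Equivariance.piCoreOf_map]

theorem conj_mem_Pc (hG : SubDihedral G) {p : ℕ} {v x : G} (hv : IsInv v) (g : G)
    (hx : x ∈ Pc p v) : g * x * g⁻¹ ∈ Pc p (g * v * g⁻¹) := by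
  rw [← conj_Pc hG p hv]
  exact ⟨x, hx, rfl⟩

theorem Pc_ne_bot {p : ℕ} (hp : p.Prime) (h : p ∣ Nat.card (fittingOf (Kc t))) : Pc p t ≠ ⊥ :=
  FitCores.core_ne_bot_of_dvd hp h

theorem Pc_ne_bot_of_conj (hG : SubDihedral G) {p : ℕ} {v w : G} (hv : IsInv v)
    (hc : IsConj v w) (h1 : Pc p v ≠ ⊥) : Pc p w ≠ ⊥ := by
  obtain ⟨g, rfl⟩ := isConj_iff.1 hc
  rw [← conj_Pc hG p hv]
  rwa [Ne, Subgroup.map_eq_bot_iff_of_injective _ (MulAut.conj g).injective]

/-- `C(X) ≤ C(v)` for `X ≥ O_p(K_v) ≠ 1` -/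
theorem centralizer_le_of_Pc_le (h : ZHyp G t) {p : ℕ} {v : G} (hv : IsInv v) (h1 : Pc p v ≠ ⊥)
    {X : Subgroup G} (hX : Pc p v ≤ X) : centralizer (X : Set G) ≤ centralizer ({v} : Set G) :=
  Ctx.centralizer_le_of_normal (h.of_inv hv) (Pc_le p v) h1 (Pc_normal p v) hX

theorem odd_prime_of_dvd {p : ℕ} (hp : p.Prime) (h : p ∣ Nat.card (fittingOf (Kc t))) : p ≠ 2 := by
  rintro rfl
  exact not_two_dvd (odd_of_le (FitAux.fittingOf_le _) (odd_Kc t)) h

theorem mem_of_sylow_le (h : IsInv t) (S : Sylow 2 G) (hS : (S : Subgroup G) ≤ centralizer ({t} : Set G)) :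
    t ∈ (S : Subgroup G) := by
  haveI : Fact (Nat.Prime 2) := ⟨Nat.prime_two⟩
  have h1 : (S : Subgroup G) ≤ normalizer ((zpowers t : Subgroup G) : Set G) := by
    intro s hs
    apply mem_normalizer_of_conj
    rintro _ ⟨n, rfl⟩
    have h2 : Commute s (t ^ n) :=
      (show Commute s t from mem_centralizer_singleton_iff.1 (hS hs)).zpow_right n
    have h3 : s * t ^ n * s⁻¹ = t ^ n := by rw [h2.eq]; group
    exact ⟨n, h3.symm⟩
  have h2 : IsPGroup 2 (zpowers t ⊔ (S : Subgroup G) : Subgroup G) :=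
    h.isPGroup.to_sup_of_normal_left' S.2 h1
  rw [← S.3 h2 le_sup_right]
  exact mem_sup_left (mem_zpowers t)

end

section

variable {G : Type u} [Group G] [Finite G] {t : G}

/-- `S` a Sylow 2-subgroup of `G` inside `C(t)`, `T` an `S`-invariant Sylow `p`-subgroup of `K_t`
centralised by the involution `u ≠ t` of `S`, `p ∣ |F(K_t)|`. -/
structure SCtx (t : G) (S : Sylow 2 G) (p : ℕ) (T : Subgroup G) (u : G) : Prop where
  z : ZHyp G t
  sub : (S : Subgroup G) ≤ centralizer ({t} : Set G)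
  prime : p.Prime
  dvd : p ∣ Nat.card (fittingOf (Kc t))
  syl : IsSyl p (Kc t) T
  inv : (S : Subgroup G) ≤ normalizer (T : Set G)
  hu : IsInv u
  ne : u ≠ t
  mem : u ∈ (S : Subgroup G)
  cent : T ≤ centralizer ({u} : Set G)

theorem exists_special (h : ZHyp G t) (S : Sylow 2 G)
    (hS : (S : Subgroup G) ≤ centralizer ({t} : Set G)) {p : ℕ} (hp : p.Prime)
    (hd : p ∣ Nat.card (fittingOf (Kc t))) {u : G} (hu : IsInv u) (hne : u ≠ t)
    (htu : t * u = u * t) (hs : Special t u p) : ∃ T v, SCtx t S p T v := by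
  haveI : Fact (Nat.Prime 2) := ⟨Nat.prime_two⟩
  haveI : Fact p.Prime := ⟨hp⟩
  obtain ⟨T₀, hT₀K, hT₀u, hT₀p, hT₀c⟩ := hs.ex
  -- conjugate `u` into `S`
  obtain ⟨c, hc, hcS⟩ := (isMaxP_sylow S hS).exists_conj_le hu.isPGroup
    (W := zpowers u) (by rw [zpowers_le, mem_centralizer_singleton_iff]; exact htu.symm)
  have hcu : c * u * c⁻¹ ∈ (S : Subgroup G) := hcS ⟨u, mem_zpowers u, rfl⟩
  have hct : c * t * c⁻¹ = t := by
    rw [mem_centralizer_singleton_iff.1 hc]; group
  obtain ⟨T, hT, hST⟩ := Lib.PGroupCoprimeAction.exists_invariant_sylow (p := 2)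
    (A := (S : Subgroup G)) (H := Kc t) S.2 (not_two_dvd (odd_Kc t))
    (fun b hb u hu => conj_mem_of_mem_normalizer (normalizer_Kc_le t (hS hb)) hu) p
  have hST' : (S : Subgroup G) ≤ normalizer (T : Set G) := fun b hb =>
    mem_normalizer_of_conj (hST b hb)
  refine ⟨T, c * u * c⁻¹, h, hS, hp, hd, hT, hST', hu.conj c, ?_, hcu, ?_⟩
  · intro h1
    apply hne
    have h2 : c * u * c⁻¹ = c * t * c⁻¹ := by rw [h1, hct]
    simpa using h2
  · -- `T ≤ C(c u c⁻¹)` by counting
    have h1 := card_inf_centralizer (hu.conj c) (odd_Kc t) (normalizer_Kc_le t (hS hcu)) hT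
      (hST' hcu)
    have h2 : (Nat.card (Kc t)).factorization p ≤
        (Nat.card (Kc t ⊓ centralizer ({c * u * c⁻¹} : Set G) : Subgroup G)).factorization p := by
      rw [← Nat.Prime.pow_dvd_iff_le_factorization hp Nat.card_pos.ne', ← hT₀c,
        ← card_map_conj T₀ c]
      apply card_dvd_of_le
      apply le_inf
      · rintro _ ⟨x, hx, rfl⟩
        exact conj_mem_of_mem_normalizer (normalizer_Kc_le t hc) (hT₀K hx)
      · rintro _ ⟨x, hx, rfl⟩
        rw [mem_centralizer_singleton_iff]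
        have h3 : x * u = u * x := mem_centralizer_singleton_iff.1 (hT₀u hx)
        show c * x * c⁻¹ * (c * u * c⁻¹) = c * u * c⁻¹ * (c * x * c⁻¹)
        calc c * x * c⁻¹ * (c * u * c⁻¹) = c * (x * u) * c⁻¹ := by group
          _ = c * (u * x) * c⁻¹ := by rw [h3]
          _ = _ := by group
    have h3 : Nat.card T ≤ Nat.card (T ⊓ centralizer ({c * u * c⁻¹} : Set G) : Subgroup G) := by
      rw [h1, card_of_isSyl hT]
      exact Nat.pow_le_pow_right hp.pos h2
    exact inf_eq_left.1 (eq_of_le_of_card_ge inf_le_left h3)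

namespace SCtx

variable {S : Sylow 2 G} {p : ℕ} {T : Subgroup G} {u : G}

theorem tinv (c : SCtx t S p T u) : IsInv t := c.z.inv

theorem comm (c : SCtx t S p T u) : t * u = u * t :=
  (mem_centralizer_singleton_iff.1 (c.sub c.mem)).symm

theorem tmem (c : SCtx t S p T u) : t ∈ (S : Subgroup G) := mem_of_sylow_le c.tinv S c.sub

theorem isPGroup (c : SCtx t S p T u) : IsPGroup p T := IsSyl.isPGroup c.syl

theorem ne_two (c : SCtx t S p T u) : p ≠ 2 := odd_prime_of_dvd c.prime c.dvd

theorem T_le (c : SCtx t S p T u) : T ≤ Kc t := IsSyl.le c.syl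

theorem T_cent (c : SCtx t S p T u) : T ≤ centralizer ({t} : Set G) := c.T_le.trans (Kc_le t)

theorem odd_T (c : SCtx t S p T u) : Odd (Nat.card T) := odd_of_le c.T_le (odd_Kc t)

theorem T_le_u (c : SCtx t S p T u) : T ≤ Kc u := le_Kc c.z.sub c.hu c.odd_T c.cent

theorem syl_u (c : SCtx t S p T u) : IsSyl p (Kc u) T := by
  haveI : Fact p.Prime := ⟨c.prime⟩
  apply isSyl_of_card c.T_le_u c.isPGroup
  rw [card_Kc_eq c.z.sub c.tinv (c.z.one t u c.tinv c.hu)]
  exact card_of_isSyl c.syl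

theorem P_ne (c : SCtx t S p T u) : Pc p t ≠ ⊥ := Pc_ne_bot c.prime c.dvd

theorem P_ne_u (c : SCtx t S p T u) : Pc p u ≠ ⊥ :=
  Pc_ne_bot_of_conj c.z.sub c.tinv (c.z.one t u c.tinv c.hu) c.P_ne

theorem P_le (c : SCtx t S p T u) : Pc p t ≤ T := by
  haveI : Fact p.Prime := ⟨c.prime⟩
  exact IsSyl.normal_le c.syl (Pc_le p t) (isPGroup_Pc c.prime t)
    ((Kc_le t).trans (Pc_normal p t))

theorem P_le_u (c : SCtx t S p T u) : Pc p u ≤ T := by
  haveI : Fact p.Prime := ⟨c.prime⟩
  exact IsSyl.normal_le c.syl_u (Pc_le p u) (isPGroup_Pc c.prime u)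
    ((Kc_le u).trans (Pc_normal p u))

theorem centralizer_le (c : SCtx t S p T u) :
    centralizer (T : Set G) ≤ centralizer ({t} : Set G) :=
  centralizer_le_of_Pc_le c.z c.tinv c.P_ne c.P_le

theorem centralizer_le_u (c : SCtx t S p T u) :
    centralizer (T : Set G) ≤ centralizer ({u} : Set G) :=
  centralizer_le_of_Pc_le c.z c.hu c.P_ne_u c.P_le_u

theorem t_mem_centralizer (c : SCtx t S p T u) : t ∈ centralizer (T : Set G) := by
  rw [mem_centralizer_iff]
  exact fun x hx => mem_centralizer_singleton_iff.1 (c.T_cent hx)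

theorem u_mem_centralizer (c : SCtx t S p T u) : u ∈ centralizer (T : Set G) := by
  rw [mem_centralizer_iff]
  exact fun x hx => mem_centralizer_singleton_iff.1 (c.cent hx)

/-- a 2-element commuting with `t` and `u` -/
theorem mem_four (c : SCtx t S p T u) {s : G} (hs : s ∈ (S : Subgroup G)) (hsu : s * u = u * s) :
    s = 1 ∨ s = t ∨ s = u ∨ s = t * u := by
  obtain ⟨k, hk⟩ := exists_pow_of_mem S.2 hs
  exact mem_four_of_two c.z.sub c.tinv c.hu c.comm c.ne hk
    (mem_centralizer_singleton_iff.1 (c.sub hs)) hsu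

/-- an involution of `C(T)` lies in `{t, u, tu}` -/
theorem mem_of_inv (c : SCtx t S p T u) {v : G} (hv : IsInv v)
    (hvT : v ∈ centralizer (T : Set G)) : v = t ∨ v = u ∨ v = t * u := by
  rcases mem_four_of_two c.z.sub c.tinv c.hu c.comm c.ne (k := 1) (x := v)
    (by rw [pow_one, sq]; exact hv.1)
    (mem_centralizer_singleton_iff.1 (c.centralizer_le hvT))
    (mem_centralizer_singleton_iff.1 (c.centralizer_le_u hvT)) with h | h
  · exact absurd h hv.2
  · exact h

theorem conj_mem_centralizer {X : Subgroup G} {v g : G} (hv : v ∈ centralizer (X : Set G))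
    (hg : g ∈ normalizer (X : Set G)) : g * v * g⁻¹ ∈ centralizer (X : Set G) := by
  rw [mem_centralizer_iff] at hv ⊢
  intro x hx
  have h1 : g⁻¹ * x * g ∈ X := by
    have := conj_mem_of_mem_normalizer (inv_mem hg) hx
    rwa [inv_inv] at this
  have h2 := hv _ h1
  calc x * (g * v * g⁻¹) = g * (g⁻¹ * x * g * v) * g⁻¹ := by group
    _ = g * (v * (g⁻¹ * x * g)) * g⁻¹ := by rw [h2]
    _ = _ := by group

theorem conj_u (c : SCtx t S p T u) {s : G} (hs : s ∈ (S : Subgroup G)) :
    s * u * s⁻¹ = u ∨ s * u * s⁻¹ = t * u := by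
  rcases c.mem_of_inv (c.hu.conj s) (conj_mem_centralizer c.u_mem_centralizer (c.inv hs)) with
    h | h | h
  · exfalso
    apply c.ne
    have h1 : s * t = t * s := mem_centralizer_singleton_iff.1 (c.sub hs)
    calc u = s⁻¹ * (s * u * s⁻¹) * s := by group
      _ = s⁻¹ * (t * s) := by rw [h, mul_assoc]
      _ = t := by rw [← h1]; group
  · exact Or.inl h
  · exact Or.inr h

/-- `S = ⟨t, u⟩` or an involution of `S` conjugates `u` to `tu`. -/
theorem cases (c : SCtx t S p T u) :
    ((S : Subgroup G) ≤ centralizer (T : Set G)) ∨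
      ∃ w ∈ (S : Subgroup G), IsInv w ∧ w * u * w⁻¹ = t * u := by
  by_cases hall : ∀ s ∈ (S : Subgroup G), s * u * s⁻¹ = u
  · left
    intro s hs
    have h1 : s * u = u * s := by
      calc s * u = s * u * s⁻¹ * s := by group
        _ = u * s := by rw [hall s hs]
    rcases c.mem_four hs h1 with rfl | rfl | rfl | rfl
    · exact one_mem _
    · exact c.t_mem_centralizer
    · exact c.u_mem_centralizer
    · exact mul_mem c.t_mem_centralizer c.u_mem_centralizer
  · right
    push Not at hall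
    obtain ⟨s, hs, hsu⟩ := hall
    have h1 : s * u * s⁻¹ = t * u := (c.conj_u hs).resolve_left hsu
    have hst : s * t = t * s := mem_centralizer_singleton_iff.1 (c.sub hs)
    have h2 : s * u = t * u * s := by rw [← h1]; group
    have hss : s * s * u = u * (s * s) := by
      calc s * s * u = s * (s * u) := by group
        _ = s * (t * u * s) := by rw [h2]
        _ = (s * t) * u * s := by group
        _ = t * (s * u) * s := by rw [hst]; group
        _ = t * (t * u * s) * s := by rw [h2]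
        _ = (t * t) * u * (s * s) := by group
        _ = _ := by rw [c.tinv.1, one_mul]
    have hne1 : ∀ v : G, v = u ∨ v = t * u → s * s ≠ v := by
      rintro v hv rfl
      have h3 : s * (s * s) = (s * s) * s := by group
      rcases hv with hv | hv
      · rw [hv, h2] at h3
        have h4 : t * u = u := by
          have : t * u * s = u * s := h3
          exact mul_right_cancel this
        exact c.tinv.2 (mul_eq_right.1 h4)
      · rw [hv] at h3
        have h4 : s * (t * u) = t * (t * u) * s := by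
          calc s * (t * u) = (s * t) * u := by group
            _ = t * (s * u) := by rw [hst]; group
            _ = _ := by rw [h2]; group
        rw [h4] at h3
        have h5 : t * (t * u) = t * u := mul_right_cancel h3
        exact c.tinv.2 (mul_eq_right.1 h5)
    rcases c.mem_four (mul_mem hs hs) hss with h3 | h3 | h3 | h3
    · refine ⟨s, hs, ⟨h3, ?_⟩, h1⟩
      rintro rfl
      exact hsu (by group)
    · have h6 : u * s * u * (u * s)⁻¹ = t * u := by
        calc u * s * u * (u * s)⁻¹ = u * (s * u * s⁻¹) * u⁻¹ := by group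
          _ = u * (t * u) * u⁻¹ := by rw [h1]
          _ = u * t := by group
          _ = t * u := c.comm.symm
      refine ⟨u * s, mul_mem c.mem hs, ⟨?_, ?_⟩, h6⟩
      · calc u * s * (u * s) = u * (s * u) * s := by group
          _ = u * (t * u * s) * s := by rw [h2]
          _ = (u * t) * u * (s * s) := by group
          _ = (t * u) * u * t := by rw [c.comm, h3]
          _ = t * (u * u) * t := by group
          _ = 1 := by rw [c.hu.1, mul_one, c.tinv.1]
      · intro h7
        rw [h7] at h6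
        have h8 : u = t * u := by simpa using h6
        exact c.tinv.2 (mul_eq_right.1 h8.symm)
    · exact absurd h3 (hne1 u (Or.inl rfl))
    · exact absurd h3 (hne1 (t * u) (Or.inr rfl))

end SCtx

end

end Cfsg.Agent.Classification.TypeZ.NoGoodBase
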