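import Mathlib
import Cfsg.Agent.Classification.TypeZ.NoGoodBase
import Cfsg.Agent.Lib.NormalAbelian

/-!
# Type Z of the Gorenstein–Walter theorem, no good pairs: the context with `|S| = 8`

`WCtx t S p T u w`: `SCtx t S p T u` and `w` an involution of `S` with `w u w⁻¹ = t u`.
-/

set_option autoImplicit false
set_option linter.unusedSectionVars false
set_option linter.style.haveILetI false

namespace Cfsg.Agent.Classification.TypeZ.NoGoodW

open Subgroup Cfsg
open Cfsg.Agent.Classification.TypeB.Basic Cfsg.Agent.Classification.TypeB.Core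
open Cfsg.Agent.Classification.TypeB.Fusion
open Cfsg.Agent.OddOrderLocal Cfsg.Agent.OddOrderLocal.PiCoreOf
open Cfsg.Agent.Classification.DihedralCentral Cfsg.Agent.Classification.TransferSign
open Cfsg.Agent.Classification.DihReduction Cfsg.Agent.Classification.DihStructure
open Cfsg.Agent.Classification.DihMinimal Cfsg.Agent.Classification.TypeZ.Bender
open Cfsg.Agent.Classification.TypeZ.Fusion Cfsg.Agent.Classification.TypeZ.NoGoodBase
open Cfsg.Agent.SignalizersComponents.RelSylow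

universe u

variable {G : Type u} [Group G] [Finite G] {t : G}

/-- `C(t) ≥ S = ⟨u, w⟩` dihedral of order 8, `u` centralises the `S`-invariant Sylow `p`-subgroup `T` of
`K_t`. -/
structure WCtx (t : G) (S : Sylow 2 G) (p : ℕ) (T : Subgroup G) (u w : G) : Prop extends
    SCtx t S p T u where
  hw : IsInv w
  memw : w ∈ (S : Subgroup G)
  wu : w * u * w⁻¹ = t * u

/-- no good pairs -/
def NoGood (t : G) : Prop := ∀ u x : G, ¬ Good t u x

theorem inverts_of_nonSpecial (h : ZHyp G t) (hno : NoGood t) {r : ℕ} (hr : NonSpecial t r) {v : G}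
    (hv : IsInv v) (hne : v ≠ t) (htv : t * v = v * t) : ∀ x ∈ Pc r t, v * x * v⁻¹ = x⁻¹ := by
  have hvn : v ∈ normalizer (Pc r t : Set G) :=
    Pc_normal r t (mem_centralizer_singleton_iff.2 htv.symm)
  refine fun x hx => inverts_of_fixedPointFree hv hvn ?_ hx
  rw [eq_bot_iff]
  rintro y ⟨hy, hyv⟩
  rw [mem_bot]
  by_contra hy1
  haveI : Fact r.Prime := ⟨hr.prime⟩
  obtain ⟨k, hk⟩ := exists_pow_of_mem (isPGroup_Pc hr.prime t) hy
  obtain ⟨j, -, hj⟩ := (Nat.dvd_prime_pow hr.prime).1 (orderOf_dvd_of_pow_eq_one hk)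
  exact hno v y (hr.good h hv hne htv (Pc_le_fitting hr.prime t hy) hy1 ⟨j, hj⟩
    (mem_centralizer_singleton_iff.1 hyv))

theorem nonSpecial_or (h : ZHyp G t) (S : Sylow 2 G)
    (hS : (S : Subgroup G) ≤ centralizer ({t} : Set G)) {p : ℕ} (hp : p.Prime)
    (hd : p ∣ Nat.card (fittingOf (Kc t))) : NonSpecial t p ∨ ∃ T v, SCtx t S p T v := by
  by_cases hns : ∀ u : G, IsInv u → u ≠ t → t * u = u * t → ¬ Special t u p
  · exact Or.inl ⟨hp, hd, hns⟩
  · right
    push Not at hns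
    obtain ⟨u, hu, hne, htu, hs⟩ := hns
    exact exists_special h S hS hp hd hu hne htu hs

/-- `w` acts as `±1` on `O_r(K)` for all `r`: then `[K, w] ≤ F(K)`. -/
theorem comm_mem_fitting {K : Subgroup G} (hK : Group.IsSolvable K) {v : G}
    (hv : v ∈ normalizer (K : Set G))
    (h : ∀ r : ℕ, r.Prime → (∀ x ∈ piCoreOf {r} K, v * x * v⁻¹ = x⁻¹) ∨
      (∀ x ∈ piCoreOf {r} K, v * x * v⁻¹ = x)) {y : G} (hy : y ∈ K) :
    y * v * y⁻¹ * v⁻¹ ∈ fittingOf K := by
  apply FitCores.inf_centralizer_fittingOf_le hK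
  refine ⟨?_, ?_⟩
  · have h1 : v * y⁻¹ * v⁻¹ ∈ K := conj_mem_of_mem_normalizer hv (inv_mem hy)
    have h2 := mul_mem hy h1
    rwa [show y * (v * y⁻¹ * v⁻¹) = y * v * y⁻¹ * v⁻¹ by group] at h2
  · have key : fittingOf K ≤ centralizer ({y * v * y⁻¹ * v⁻¹} : Set G) := by
      rw [FitCores.fittingOf_le_iff]
      intro r hr x hx
      have hyn : y ∈ normalizer (piCoreOf {r} K : Set G) := le_normalizer_piCoreOf _ _ hy
      have hvn : v ∈ normalizer (piCoreOf {r} K : Set G) :=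
        normalizer_le_normalizer_piCoreOf _ _ hv
      have hx1 : v⁻¹ * x * v ∈ piCoreOf {r} K := by
        have := conj_mem_of_mem_normalizer (inv_mem hvn) hx
        rwa [inv_inv] at this
      have hx2 : y⁻¹ * (v⁻¹ * x * v) * y ∈ piCoreOf {r} K := by
        have := conj_mem_of_mem_normalizer (inv_mem hyn) hx1
        rwa [inv_inv] at this
      rw [mem_centralizer_singleton_iff]
      have h3 : y * v * y⁻¹ * v⁻¹ * x * (y * v * y⁻¹ * v⁻¹)⁻¹ = x := by
        have h4 : y * v * y⁻¹ * v⁻¹ * x * (y * v * y⁻¹ * v⁻¹)⁻¹ =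
          y * (v * (y⁻¹ * (v⁻¹ * x * v) * y) * v⁻¹) * y⁻¹ := by group
        rw [h4]
        rcases h r hr with hi | hi
        · rw [hi _ hx2]
          have h5 := hi _ hx1
          calc y * (y⁻¹ * (v⁻¹ * x * v) * y)⁻¹ * y⁻¹ = (v⁻¹ * x * v)⁻¹ := by group
            _ = v * (v⁻¹ * x * v) * v⁻¹ := h5.symm
            _ = x := by group
        · rw [hi _ hx2]
          have h5 := hi _ hx1
          calc y * (y⁻¹ * (v⁻¹ * x * v) * y) * y⁻¹ = v⁻¹ * x * v := by group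
            _ = v * (v⁻¹ * x * v) * v⁻¹ := h5.symm
            _ = x := by group
      generalize y * v * y⁻¹ * v⁻¹ = g at h3
      calc x * g = (g * x * g⁻¹) * g := by rw [h3]
        _ = g * x := by group
    exact mem_centralizer_iff.2 fun x hx => mem_centralizer_singleton_iff.1 (key hx)

namespace WCtx

variable {S : Sylow 2 G} {p : ℕ} {T : Subgroup G} {u w : G}

theorem tw (c : WCtx t S p T u w) : t * w = w * t :=
  (mem_centralizer_singleton_iff.1 (c.sub c.memw)).symm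

theorem wu' (c : WCtx t S p T u w) : w * u = t * u * w := by rw [← c.wu]; group

theorem uw (c : WCtx t S p T u w) : u * w * u⁻¹ = t * w := by
  have h1 := c.wu'
  have h2 : w * u = u * (t * w) := by
    rw [h1, c.comm]; group
  -- `u w u = t w`
  have h3 : u * (w * u) = t * w := by
    rw [h2, ← mul_assoc, c.hu.1, one_mul]
  rw [c.hu.inv_eq, mul_assoc, h3]

theorem w_ne (c : WCtx t S p T u w) : w ≠ t := by
  intro h
  have h1 := c.wu
  rw [h] at h1
  have h2 : t * u * t⁻¹ = u := by rw [c.comm]; group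
  rw [h2] at h1
  exact c.tinv.2 (mul_eq_right.1 h1.symm)

theorem w_T (c : WCtx t S p T u w) : w ∈ normalizer (T : Set G) := c.inv c.memw

theorem solvable_K (c : WCtx t S p T u w) : Group.IsSolvable (Kc t) := c.z.ft _ (odd_Kc t)

/-- the members of `K_t ∩ C(v)` -/
theorem mem_inf_iff (h : ZHyp G t) {v x : G} : x ∈ Kc t ⊓ centralizer ({v} : Set G) ↔
    x * t = t * x ∧ x * v = v * x ∧ Odd (orderOf x) := by
  rw [mem_inf, mem_Kc_iff h.sub h.inv, mem_centralizer_singleton_iff]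
  tauto

theorem orderOf_conj (g x : G) : orderOf (g * x * g⁻¹) = orderOf x :=
  orderOf_injective (MulAut.conj g).toMonoidHom (MulAut.conj g).injective x

theorem commute_conj {g x v v' : G} (hv : g * v * g⁻¹ = v') (hx : x * v = v * x) :
    g * x * g⁻¹ * v' = v' * (g * x * g⁻¹) := by
  rw [← hv]
  calc g * x * g⁻¹ * (g * v * g⁻¹) = g * (x * v) * g⁻¹ := by group
    _ = g * (v * x) * g⁻¹ := by rw [hx]
    _ = _ := by group

/-- a three-cycle `t → v → tv` normalises `K_t ∩ C(v)` -/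
theorem three_normalizes (h : ZHyp G t) {v k : G} (h1 : k * t * k⁻¹ = v)
    (h2 : k * v * k⁻¹ = t * v) : k ∈ normalizer ((Kc t ⊓ centralizer ({v} : Set G) : Subgroup G) : Set G) := by
  apply mem_normalizer_of_conj
  intro x hx
  rw [mem_inf_iff h] at hx ⊢
  obtain ⟨hxt, hxv, ho⟩ := hx
  have h3 := commute_conj h1 hxt
  have h4 := commute_conj h2 hxv
  refine ⟨?_, h3, by rw [orderOf_conj]; exact ho⟩
  have h5 : t = (t * v) * v⁻¹ := by group
  generalize k * x * k⁻¹ = y at h3 h4 ⊢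
  have h6 : y * v⁻¹ = v⁻¹ * y := by
    calc y * v⁻¹ = v⁻¹ * (v * y) * v⁻¹ := by group
      _ = v⁻¹ * (y * v) * v⁻¹ := by rw [h3]
      _ = v⁻¹ * y := by group
  calc y * t = y * (t * v) * v⁻¹ := by group
    _ = (t * v) * (y * v⁻¹) := by rw [h4]; group
    _ = t * y := by rw [h6]; group

/-- **II3** `⟨t, w⟩` is fused in the centraliser of `T ∩ C(w)` -/
theorem exists_fuse (c : WCtx t S p T u w) :
    ∃ h ∈ centralizer ((T ⊓ centralizer ({w} : Set G) : Subgroup G) : Set G),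
      h * t * h⁻¹ = w ∧ h * w * h⁻¹ = t * w := by
  haveI : Fact p.Prime := ⟨c.prime⟩
  obtain ⟨k, hk1, hk2⟩ := exists_three_cycle c.z.sub c.tinv c.hw c.tw c.w_ne.symm
    (c.z.one _ _ c.tinv c.hw)
    (c.z.one _ _ c.tinv (c.tinv.mul c.hw c.tw c.w_ne.symm))
  have hwn : w ∈ normalizer (Kc t : Set G) := normalizer_Kc_le t (c.sub c.memw)
  have h1 := card_inf_centralizer c.hw (odd_Kc t) hwn c.syl c.w_T
  have h2 : IsSyl p (Kc t ⊓ centralizer ({w} : Set G)) (T ⊓ centralizer ({w} : Set G)) :=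
    isSyl_of_card (inf_le_inf_right _ c.T_le) (c.isPGroup.to_le inf_le_left) h1
  obtain ⟨d, hd, hdk⟩ := IsSyl.exists_frattini h2 (three_normalizes c.z hk1 hk2)
  rw [mem_inf_iff c.z] at hd
  set k' : G := d * k with hk'
  have e1 : k' * t * k'⁻¹ = w := by
    calc d * k * t * (d * k)⁻¹ = d * (k * t * k⁻¹) * d⁻¹ := by group
      _ = w := by rw [hk1, hd.2.1]; group
  have e2 : k' * w * k'⁻¹ = t * w := by
    calc d * k * w * (d * k)⁻¹ = d * (k * w * k⁻¹) * d⁻¹ := by group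
      _ = (d * t) * w * d⁻¹ := by rw [hk2]; group
      _ = t * (d * w) * d⁻¹ := by rw [hd.1]; group
      _ = t * w := by rw [hd.2.1]; group
  have hu : u ∈ centralizer ((T ⊓ centralizer ({w} : Set G) : Subgroup G) : Set G) :=
    centralizer_le (SetLike.coe_subset_coe.2 inf_le_left) c.u_mem_centralizer
  refine ⟨u * (k' * u * k'⁻¹), mul_mem hu (SCtx.conj_mem_centralizer hu hdk), ?_, ?_⟩
  · -- `k' u k'⁻¹` maps `t = k' (t w) k'⁻¹` to `k' w k'⁻¹ = t w`
    have e3 : k' * (t * w) * k'⁻¹ = t := by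
      calc k' * (t * w) * k'⁻¹ = (k' * t * k'⁻¹) * (k' * w * k'⁻¹) := by group
        _ = w * (t * w) := by rw [e1, e2]
        _ = t * (w * w) := by rw [← mul_assoc, ← c.tw]; group
        _ = t := by rw [c.hw.1, mul_one]
    have e4 : u * (t * w) * u⁻¹ = w := by
      calc u * (t * w) * u⁻¹ = (u * t * u⁻¹) * (u * w * u⁻¹) := by group
        _ = t * (t * w) := by rw [c.uw, ← c.comm]; group
        _ = w := by rw [← mul_assoc, c.tinv.1, one_mul]
    have e5 : k' * u * k'⁻¹ * t * (k' * u * k'⁻¹)⁻¹ = t * w := by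
      calc k' * u * k'⁻¹ * t * (k' * u * k'⁻¹)⁻¹
          = k' * (u * (k'⁻¹ * t * k') * u⁻¹) * k'⁻¹ := by group
        _ = k' * (u * (t * w) * u⁻¹) * k'⁻¹ := by
          have : k'⁻¹ * t * k' = t * w := by
            calc k'⁻¹ * t * k' = k'⁻¹ * (k' * (t * w) * k'⁻¹) * k' := by rw [e3]
              _ = _ := by group
          rw [this]
        _ = t * w := by rw [e4, e2]
    calc u * (k' * u * k'⁻¹) * t * (u * (k' * u * k'⁻¹))⁻¹
        = u * (k' * u * k'⁻¹ * t * (k' * u * k'⁻¹)⁻¹) * u⁻¹ := by group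
      _ = w := by rw [e5, e4]
  · have e6 : k' * u * k'⁻¹ * w * (k' * u * k'⁻¹)⁻¹ = w := by
      calc k' * u * k'⁻¹ * w * (k' * u * k'⁻¹)⁻¹
          = k' * (u * (k'⁻¹ * w * k') * u⁻¹) * k'⁻¹ := by group
        _ = k' * (u * t * u⁻¹) * k'⁻¹ := by
          have : k'⁻¹ * w * k' = t := by rw [← e1]; group
          rw [this]
        _ = k' * t * k'⁻¹ := by rw [← c.comm]; group
        _ = w := e1
    calc u * (k' * u * k'⁻¹) * w * (u * (k' * u * k'⁻¹))⁻¹
        = u * (k' * u * k'⁻¹ * w * (k' * u * k'⁻¹)⁻¹) * u⁻¹ := by group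
      _ = t * w := by rw [e6, c.uw]

/-- `w` inverts `O_p(K_t)` -/
theorem inverts (c : WCtx t S p T u w) (hno : NoGood t) :
    ∀ x ∈ Pc p t, w * x * w⁻¹ = x⁻¹ := by
  have hvn : w ∈ normalizer (Pc p t : Set G) := Pc_normal p t (c.sub c.memw)
  refine fun x hx => inverts_of_fixedPointFree c.hw hvn ?_ hx
  rw [eq_bot_iff]
  rintro y ⟨hy, hyv⟩
  rw [mem_bot]
  by_contra hy1
  obtain ⟨h, hh, h1, h2⟩ := c.exists_fuse
  have hyT : y ∈ T := c.P_le hy
  rw [mem_centralizer_iff] at hh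
  exact hno w y ⟨c.hw, c.tw, c.w_ne, Pc_le_fitting c.prime t hy, hy1,
    mem_centralizer_singleton_iff.1 hyv, h, (hh y ⟨hyT, hyv⟩).symm, h1, h2⟩

/-- an element of `N(T)` permuting `t → u → tu` -/
theorem exists_rho (c : SCtx t S p T u) :
    ∃ ρ ∈ normalizer (T : Set G), ρ * t * ρ⁻¹ = u ∧ ρ * u * ρ⁻¹ = t * u := by
  haveI : Fact p.Prime := ⟨c.prime⟩
  obtain ⟨k, hk1, hk2⟩ := exists_three_cycle c.z.sub c.tinv c.hu c.comm c.ne.symm
    (c.z.one _ _ c.tinv c.hu)
    (c.z.one _ _ c.tinv (c.tinv.mul c.hu c.comm c.ne.symm))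
  have h2 : IsSyl p (Kc t ⊓ centralizer ({u} : Set G)) T := by
    rw [isSyl_iff]
    exact ⟨le_inf c.T_le c.cent, c.isPGroup, fun Q hQ hQp hTQ =>
      (isSyl_iff.1 c.syl).2.2 Q (hQ.trans inf_le_left) hQp hTQ⟩
  obtain ⟨d, hd, hdk⟩ := IsSyl.exists_frattini h2 (three_normalizes c.z hk1 hk2)
  rw [mem_inf_iff c.z] at hd
  refine ⟨d * k, hdk, ?_, ?_⟩
  · calc d * k * t * (d * k)⁻¹ = d * (k * t * k⁻¹) * d⁻¹ := by group
      _ = u := by rw [hk1, hd.2.1]; group
  · calc d * k * u * (d * k)⁻¹ = d * (k * u * k⁻¹) * d⁻¹ := by group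
      _ = (d * t) * u * d⁻¹ := by rw [hk2]; group
      _ = t * (d * u) * d⁻¹ := by rw [hd.1]; group
      _ = t * u := by rw [hd.2.1]; group

/-- the involutions of `S` -/
theorem inv_cases (c : WCtx t S p T u w) {v : G} (hv : IsInv v) (hvS : v ∈ (S : Subgroup G))
    (hne : v ≠ t) : v = u ∨ v = t * u ∨ v = w ∨ v = t * w := by
  rcases c.conj_u hvS with h | h
  · have h1 : v * u = u * v := by
      calc v * u = v * u * v⁻¹ * v := by group
        _ = u * v := by rw [h]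
    rcases c.mem_four hvS h1 with h2 | h2 | h2 | h2
    · exact absurd h2 hv.2
    · exact absurd h2 hne
    · exact Or.inl h2
    · exact Or.inr (Or.inl h2)
  · have hwt := c.tw
    have h1 : w * v * u = u * (w * v) := by
      have h2 : v * u = t * u * v := by rw [← h]; group
      calc w * v * u = w * (v * u) := by group
        _ = (w * t) * u * v := by rw [h2]; group
        _ = t * (w * u) * v := by rw [← hwt]; group
        _ = (t * t) * u * w * v := by rw [c.wu']; group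
        _ = u * (w * v) := by rw [c.tinv.1]; group
    have hww : ∀ x y : G, w * x = y → x = w * y := by
      intro x y hxy
      rw [← hxy, ← mul_assoc, c.hw.1, one_mul]
    have hwuwu : w * u * (w * u) = t := by
      calc w * u * (w * u) = w * u * (t * u * w) := by rw [c.wu']
        _ = w * (u * t) * u * w := by group
        _ = w * t * (u * u) * w := by rw [← c.comm]; group
        _ = t * (w * w) := by rw [c.hu.1, mul_one, ← hwt]; group
        _ = t := by rw [c.hw.1, mul_one]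
    rcases c.mem_four (mul_mem c.memw hvS) h1 with h2 | h2 | h2 | h2
    · have h3 := hww _ _ h2
      rw [mul_one] at h3
      exact Or.inr (Or.inr (Or.inl h3))
    · have h3 := hww _ _ h2
      rw [← hwt] at h3
      exact Or.inr (Or.inr (Or.inr h3))
    · exfalso
      have h3 := hww _ _ h2
      apply c.tinv.2
      rw [← hwuwu, ← h3, hv.1]
    · exfalso
      have h3 := hww _ _ h2
      apply c.tinv.2
      have h4 : v * v = t := by
        rw [h3]
        calc w * (t * u) * (w * (t * u)) = (w * t) * u * (w * t) * u := by group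
          _ = t * (w * u) * t * (w * u) := by rw [← hwt]; group
          _ = (t * (w * u)) * (t * (w * u)) := by group
          _ = t * ((w * u) * t) * (w * u) := by group
          _ = t * (t * (w * u)) * (w * u) := by
            have : (w * u) * t = t * (w * u) := by
              calc w * u * t = w * (u * t) := by group
                _ = (w * t) * u := by rw [← c.comm]; group
                _ = _ := by rw [← hwt]; group
            rw [this]
          _ = (t * t) * (w * u * (w * u)) := by group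
          _ = t := by rw [c.tinv.1, one_mul, hwuwu]
      rw [← h4, hv.1]

end WCtx

/-- the involutions of `S` act as `±1` on every `O_r(K)` -/
theorem pm (h : ZHyp G t) (hno : NoGood t) (S : Sylow 2 G)
    (hS : (S : Subgroup G) ≤ centralizer ({t} : Set G)) {v : G} (hvS : v ∈ (S : Subgroup G))
    (hv : IsInv v) (hne : v ≠ t) {r : ℕ} (hr : r.Prime) :
    (∀ x ∈ Pc r t, v * x * v⁻¹ = x⁻¹) ∨ (∀ x ∈ Pc r t, v * x * v⁻¹ = x) := by
  have htv : t * v = v * t := (mem_centralizer_singleton_iff.1 (hS hvS)).symm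
  by_cases hd : r ∣ Nat.card (fittingOf (Kc t))
  · rcases nonSpecial_or h S hS hr hd with hns | ⟨T, u, c⟩
    · exact Or.inl (inverts_of_nonSpecial h hno hns hv hne htv)
    · have hcent : ∀ z : G, z ∈ centralizer (T : Set G) → ∀ x ∈ Pc r t, z * x * z⁻¹ = x := by
        intro z hz x hx
        rw [mem_centralizer_iff] at hz
        rw [← hz x (c.P_le hx)]
        group
      rcases c.cases with h1 | ⟨w, hwS, hw, hwu⟩
      · exact Or.inr (hcent v (h1 hvS))
      · have c' : WCtx t S r T u w := ⟨c, hw, hwS, hwu⟩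
        have hinv := c'.inverts hno
        rcases c'.inv_cases hv hvS hne with rfl | rfl | rfl | rfl
        · exact Or.inr (hcent _ c.u_mem_centralizer)
        · exact Or.inr (hcent _ (mul_mem c.t_mem_centralizer c.u_mem_centralizer))
        · exact Or.inl hinv
        · left
          intro x hx
          calc t * w * x * (t * w)⁻¹ = t * (w * x * w⁻¹) * t⁻¹ := by group
            _ = t * x⁻¹ * t⁻¹ := by rw [hinv x hx]
            _ = x⁻¹ := hcent t c.t_mem_centralizer _ (inv_mem hx)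
  · left
    intro x hx
    have h1 : Pc r t = ⊥ := by
      by_contra h2
      exact hd (FitCores.dvd_card_of_ne_bot hr (isPGroup_Pc hr t) h2 (Pc_le_fitting hr t))
    rw [h1, mem_bot] at hx
    rw [hx]
    group

theorem comm_mem (h : ZHyp G t) (hno : NoGood t) (S : Sylow 2 G)
    (hS : (S : Subgroup G) ≤ centralizer ({t} : Set G)) {v : G} (hvS : v ∈ (S : Subgroup G))
    (hv : IsInv v) (hne : v ≠ t) {y : G} (hy : y ∈ Kc t) :
    y * v * y⁻¹ * v⁻¹ ∈ fittingOf (Kc t) :=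
  comm_mem_fitting (h.ft _ (odd_Kc t)) (normalizer_Kc_le t (hS hvS))
    (fun _ hr => pm h hno S hS hvS hv hne hr) hy

namespace WCtx

variable {S : Sylow 2 G} {p : ℕ} {T : Subgroup G} {u w : G}

/-- `[T, w] ≤ O_p(K)` -/
theorem comm_mem_P (c : WCtx t S p T u w) (hno : NoGood t) {y : G} (hy : y ∈ T) :
    y * w * y⁻¹ * w⁻¹ ∈ Pc p t := by
  have h1 := comm_mem c.z hno S c.sub c.memw c.hw c.w_ne (c.T_le hy)
  have h2 : y * w * y⁻¹ * w⁻¹ ∈ T := by
    have h3 : w * y⁻¹ * w⁻¹ ∈ T := conj_mem_of_mem_normalizer c.w_T (inv_mem hy)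
    have h4 := mul_mem hy h3
    rwa [show y * (w * y⁻¹ * w⁻¹) = y * w * y⁻¹ * w⁻¹ by group] at h4
  have h3 : T ⊓ fittingOf (Kc t) ≤ Pc p t :=
    FitCores.le_core_of_le_fittingOf c.prime inf_le_right (c.isPGroup.to_le inf_le_left)
  exact h3 ⟨h2, h1⟩

/-- `O_p(K_t) ∩ O_p(K_u) = 1` -/
theorem inf_eq_bot (c : WCtx t S p T u w) (hno : NoGood t) : Pc p t ⊓ Pc p u = ⊥ := by
  obtain ⟨ρ, hρ, h1, h2⟩ := exists_rho c.toSCtx
  rw [eq_bot_iff]
  rintro x ⟨hxt, hxu⟩
  rw [mem_bot]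
  by_contra hx1
  have i1 := c.inverts hno x hxt
  -- `w' = ρ w ρ⁻¹` inverts `x`
  have i2 : ρ * w * ρ⁻¹ * x * (ρ * w * ρ⁻¹)⁻¹ = x⁻¹ := by
    have h3 : ρ⁻¹ * x * ρ ∈ Pc p t := by
      have h4 := conj_mem_Pc c.z.sub c.hu ρ⁻¹ hxu
      rw [inv_inv] at h4
      have h5 : ρ⁻¹ * u * ρ = t := by rw [← h1]; group
      rwa [h5] at h4
    have h4 := c.inverts hno _ h3
    calc ρ * w * ρ⁻¹ * x * (ρ * w * ρ⁻¹)⁻¹ = ρ * (w * (ρ⁻¹ * x * ρ) * w⁻¹) * ρ⁻¹ := by group
      _ = ρ * (ρ⁻¹ * x * ρ)⁻¹ * ρ⁻¹ := by rw [h4]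
      _ = x⁻¹ := by group
  have i3 : ρ * (t * u) * ρ⁻¹ = t := by
    calc ρ * (t * u) * ρ⁻¹ = (ρ * t * ρ⁻¹) * (ρ * u * ρ⁻¹) := by group
      _ = u * (t * u) := by rw [h1, h2]
      _ = t * (u * u) := by rw [← mul_assoc, ← c.comm]; group
      _ = t := by rw [c.hu.1, mul_one]
  -- `w'` maps `t` to `tu`, `w` maps `tu` to `u`
  have e1 : ρ * w * ρ⁻¹ * t * (ρ * w * ρ⁻¹)⁻¹ = t * u := by
    have h5 : ρ⁻¹ * t * ρ = t * u := by
      calc ρ⁻¹ * t * ρ = ρ⁻¹ * (ρ * (t * u) * ρ⁻¹) * ρ := by rw [i3]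
        _ = _ := by group
    calc ρ * w * ρ⁻¹ * t * (ρ * w * ρ⁻¹)⁻¹ = ρ * (w * (ρ⁻¹ * t * ρ) * w⁻¹) * ρ⁻¹ := by group
      _ = ρ * ((w * t) * u * w⁻¹) * ρ⁻¹ := by rw [h5]; group
      _ = ρ * (t * (w * u * w⁻¹)) * ρ⁻¹ := by rw [← c.tw]; group
      _ = ρ * u * ρ⁻¹ := by rw [c.wu, ← mul_assoc t t u, c.tinv.1, one_mul]
      _ = t * u := h2
  have e2 : w * (t * u) * w⁻¹ = u := by
    calc w * (t * u) * w⁻¹ = (w * t) * u * w⁻¹ := by group
      _ = t * (w * u * w⁻¹) := by rw [← c.tw]; group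
      _ = u := by rw [c.wu, ← mul_assoc t t u, c.tinv.1, one_mul]
  have e3 : ρ * w * ρ⁻¹ * u * (ρ * w * ρ⁻¹)⁻¹ = u := by
    calc ρ * w * ρ⁻¹ * u * (ρ * w * ρ⁻¹)⁻¹ = ρ * (w * (ρ⁻¹ * u * ρ) * w⁻¹) * ρ⁻¹ := by group
      _ = ρ * (w * t * w⁻¹) * ρ⁻¹ := by
        have : ρ⁻¹ * u * ρ = t := by rw [← h1]; group
        rw [this]
      _ = ρ * t * ρ⁻¹ := by rw [← c.tw]; group
      _ = u := h1
  refine hno u x ⟨c.hu, c.comm, c.ne, Pc_le_fitting c.prime t hxt, hx1,
    mem_centralizer_singleton_iff.1 (c.cent (c.P_le hxt)), w * (ρ * w * ρ⁻¹), ?_, ?_, ?_⟩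
  · have h6 : w * (ρ * w * ρ⁻¹) * x * (w * (ρ * w * ρ⁻¹))⁻¹ = x := by
      calc w * (ρ * w * ρ⁻¹) * x * (w * (ρ * w * ρ⁻¹))⁻¹
          = w * (ρ * w * ρ⁻¹ * x * (ρ * w * ρ⁻¹)⁻¹) * w⁻¹ := by group
        _ = w * x⁻¹ * w⁻¹ := by rw [i2]
        _ = (w * x * w⁻¹)⁻¹ := by group
        _ = x := by rw [i1, inv_inv]
    calc w * (ρ * w * ρ⁻¹) * x
        = w * (ρ * w * ρ⁻¹) * x * (w * (ρ * w * ρ⁻¹))⁻¹ * (w * (ρ * w * ρ⁻¹)) := by group
      _ = x * (w * (ρ * w * ρ⁻¹)) := by rw [h6]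
  · calc w * (ρ * w * ρ⁻¹) * t * (w * (ρ * w * ρ⁻¹))⁻¹
        = w * (ρ * w * ρ⁻¹ * t * (ρ * w * ρ⁻¹)⁻¹) * w⁻¹ := by group
      _ = u := by rw [e1, e2]
  · calc w * (ρ * w * ρ⁻¹) * u * (w * (ρ * w * ρ⁻¹))⁻¹
        = w * (ρ * w * ρ⁻¹ * u * (ρ * w * ρ⁻¹)⁻¹) * w⁻¹ := by group
      _ = t * u := by rw [e3, c.wu]

end WCtx

end Cfsg.Agent.Classification.TypeZ.NoGoodW
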