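import Mathlib
import Cfsg.Agent.Classification.TypeZ.Comp
import Cfsg.Agent.Classification.TypeZ.SectionMat
import Cfsg.Agent.ClassicalGeometry.PSL2Basic

/-!
# Sections inverted by an involution (item II4 of the type Z blueprint)

`card_eq_three`: `Y` a group as in `DihAlt` with `16 ∤ |Y|`, `⟨u, w⟩` dihedral of order `8` with
centre `t`, `⟨t, w⟩` fused in `Y`; an odd subgroup centralised by `t` and `u` and inverted by `w`
has order `1` or `3`.
-/

set_option autoImplicit false

namespace Cfsg.Agent.Classification.TypeZ.SectionAlt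

open Subgroup Cfsg
open Cfsg.Agent.Classification.TypeB.Basic Cfsg.Agent.Classification.TypeB.Core
open Cfsg.Agent.Classification.DihedralCentral Cfsg.Agent.Classification.TransferSign
open Cfsg.Agent.Classification.DihReduction Cfsg.Agent.Classification.DihStructure
open Cfsg.Agent.Classification.DihMinimal Cfsg.Agent.Classification.GWDefs
open Cfsg.Agent.Classification.TypeZ.Comp

universe u

theorem eq_bot_of_card_one {Y : Type*} [Group Y] {Q : Subgroup Y} (h : Nat.card Q = 1) : Q = ⊥ :=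
  Subgroup.eq_bot_of_card_eq _ h

theorem card_cases {Y : Type*} [Group Y] {Q : Subgroup Y} (hQ : Odd (Nat.card Q)) {k : ℕ}
    (h : Nat.card Q ∣ 2 ^ k * 3) : Q = ⊥ ∨ Nat.card Q = 3 := by
  have h1 : Nat.Coprime (Nat.card Q) (2 ^ k) := Nat.Coprime.pow_right k (Nat.coprime_two_right.2 hQ)
  have h2 : Nat.card Q ∣ 3 := h1.dvd_of_dvd_mul_left h
  rcases (Nat.dvd_prime Nat.prime_three).1 h2 with h3 | h3
  · exact Or.inl (eq_bot_of_card_one h3)
  · exact Or.inr h3

/-- The centraliser in `S₇` of an even involution has order `48`. -/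
theorem card_centralizer_perm (τ : Equiv.Perm (Fin 7)) (hτ : orderOf τ = 2)
    (hs : Equiv.Perm.sign τ = 1) : Nat.card (centralizer ({τ} : Set (Equiv.Perm (Fin 7)))) = 48 := by
  obtain ⟨n, hn⟩ := Equiv.Perm.cycleType_prime_order (σ := τ) (by rw [hτ]; exact Nat.prime_two)
  rw [hτ] at hn
  have h1 : τ.cycleType.sum ≤ 7 := by
    rw [Equiv.Perm.sum_cycleType]
    exact (Finset.card_le_univ _).trans (by simp)
  rw [hn, Multiset.sum_replicate, smul_eq_mul] at h1
  have h2 := Equiv.Perm.sign_of_cycleType τ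
  rw [hs, hn, Multiset.sum_replicate, Multiset.card_replicate, smul_eq_mul] at h2
  have h3 : n = 1 := by
    rcases n with _ | _ | _ | n
    · exact absurd h2 (by decide)
    · rfl
    · exact absurd h2 (by decide)
    · omega
  subst h3
  have h4 : τ.cycleType = Multiset.replicate 2 2 := hn
  rw [Equiv.Perm.nat_card_centralizer, h4]
  decide

section

variable {Y : Type u} [Group Y] [Finite Y]

omit [Finite Y] in
theorem mem_of_inverted {L : Subgroup Y} (hn : L.Normal) {w x : Y} (hw : w ∈ L)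
    (hx : Odd (orderOf x)) (hwx : w * x * w⁻¹ = x⁻¹) : x ∈ L := by
  have h1 : x⁻¹ * x⁻¹ ∈ L := by
    have h2 : x⁻¹ * x⁻¹ = w * (x * w⁻¹ * x⁻¹) := by
      calc x⁻¹ * x⁻¹ = (w * x * w⁻¹) * x⁻¹ := by rw [hwx]
        _ = _ := by group
    rw [h2]
    exact mul_mem hw (hn.conj_mem _ (inv_mem hw) x)
  have h3 : x * x ∈ L := by
    have h4 := inv_mem h1
    have h5 : (x⁻¹ * x⁻¹)⁻¹ = x * x := by rw [mul_inv_rev, inv_inv]
    rwa [h5] at h4
  obtain ⟨k, hk⟩ := hx
  have h4 : x = (x * x) ^ (k + 1) := by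
    have h5 : x ^ (2 * k + 1) = 1 := by rw [← hk]; exact pow_orderOf_eq_one x
    calc x = x ^ (2 * k + 1) * x := by rw [h5, one_mul]
      _ = (x * x) ^ (k + 1) := by
        rw [← pow_two, ← pow_mul, ← pow_succ]
        congr 1
  rw [h4]
  exact pow_mem h3 _

theorem card_eq_three (hA : DihAlt Y) (h16 : ¬ 16 ∣ Nat.card Y) {t u w : Y} (ht : IsInv t)
    (hu : IsInv u) (hw : IsInv w) (htu : t * u = u * t) (htw : t * w = w * t) (_hne : u ≠ t)
    (hwu : w * u * w⁻¹ = t * u) (hfus : ∃ k : Y, k * t * k⁻¹ = w ∧ k * w * k⁻¹ = t * w)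
    {Q : Subgroup Y} (hQ : Odd (Nat.card Q)) (hQt : Q ≤ centralizer ({t} : Set Y))
    (hQu : Q ≤ centralizer ({u} : Set Y)) (hQw : ∀ x ∈ Q, w * x * w⁻¹ = x⁻¹) :
    Q = ⊥ ∨ Nat.card Q = 3 := by
  have hoddx : ∀ x ∈ Q, Odd (orderOf x) := by
    intro x hx
    have h1 : orderOf (⟨x, hx⟩ : Q) ∣ Nat.card Q := orderOf_dvd_natCard _
    rw [Subgroup.orderOf_mk] at h1
    exact hQ.of_dvd_nat h1
  rcases hA with h | ⟨V, hn, hV, -, hi⟩ | ⟨L, hn, hs, -, h4, hGW, -⟩
  · obtain ⟨k, hk⟩ := IsPGroup.iff_card.1 h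
    have h1 : Nat.card Q ∣ 2 ^ k * 3 := by
      rw [← hk]
      exact (card_subgroup_dvd_card Q).mul_right 3
    have h2 : Nat.Coprime (Nat.card Q) (2 ^ k) :=
      Nat.Coprime.pow_right k (Nat.coprime_two_right.2 hQ)
    left
    apply eq_bot_of_card_one
    have h3 : Nat.card Q ∣ 2 ^ k := by rw [← hk]; exact card_subgroup_dvd_card Q
    exact Nat.Coprime.eq_one_of_dvd h2 h3
  · have h1 := V.card_mul_index
    have h2 : Nat.card Y ∣ 2 ^ 3 * 3 := by
      rw [← h1, hV.card_four]
      rcases hi with h3 | h3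
      · rw [h3]; decide
      · rw [h3]; decide
    exact card_cases hQ ((card_subgroup_dvd_card Q).trans h2)
  obtain ⟨k, hkt, hkw⟩ := hfus
  have hwt : w ≠ t := by
    rintro rfl
    rw [hkt, hw.1] at hkw
    exact hw.2 hkw
  have F : Fused t w k := ⟨ht, hw, htw, hwt, hkt, hkw⟩
  obtain ⟨htL, hwL⟩ := F.mem_of_index hn h4
  have hQL : Q ≤ L := fun x hx => mem_of_inverted hn hwL (hoddx x hx) (hQw x hx)
  rcases (gwConcl_def _).1 hGW with ⟨F, i1, i2, hodd, h3, ⟨e⟩⟩ | ⟨⟨e⟩⟩
  · left
    -- the automorphism of `L` induced by `u * w`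
    let pr : Matrix.SpecialLinearGroup (Fin 2) F →* Matrix.ProjectiveSpecialLinearGroup (Fin 2) F :=
      QuotientGroup.mk' _
    let π : Matrix.SpecialLinearGroup (Fin 2) F →* L := e.symm.toMonoidHom.comp pr
    have hπ : Function.Surjective π :=
      e.symm.surjective.comp (QuotientGroup.mk'_surjective _)
    have hk : π.ker = center (Matrix.SpecialLinearGroup (Fin 2) F) := by
      have h1 : π.ker = pr.ker := MonoidHom.ker_mulEquiv_comp pr e.symm
      rw [h1]
      exact QuotientGroup.ker_mk' _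
    have h2 : (2 : F) ≠ 0 := (ClassicalGeometry.PSL2Basic.two_ne_zero_iff_odd F).2 hodd
    let α : MulAut L := MulAut.conjNormal (u * w)
    have hαv : ∀ y : L, ((α y : L) : Y) = (u * w) * y * (u * w)⁻¹ := fun y => rfl
    have haa : (u * w) * (u * w) = t := by
      calc (u * w) * (u * w) = u * (w * u * w⁻¹) * (w * w) := by group
        _ = u * (t * u) := by rw [hwu, hw.1, mul_one]
        _ = u * (u * t) := by rw [htu]
        _ = t := by rw [← mul_assoc, hu.1, one_mul]
    have hα : ∀ y : L, α (α y) = ⟨t, htL⟩ * y * ⟨t, htL⟩⁻¹ := by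
      intro y
      apply Subtype.ext
      rw [hαv, hαv]
      show (u * w) * ((u * w) * y * (u * w)⁻¹) * (u * w)⁻¹ = t * y * t⁻¹
      rw [← haa]
      group
    have hsq : (∃ s : L, ∀ x, α x = s * x * s⁻¹) ∨ ∀ k : ℕ, Nat.card F ≠ k * k := by
      by_cases huL : u ∈ L
      · left
        exact ⟨⟨u * w, mul_mem huL hwL⟩, fun x => Subtype.ext (hαv x)⟩
      · right
        intro m hm
        apply h16
        -- `8 ∣ |L|`
        have e1 : Nat.card L * 2 = Nat.card F * (Nat.card F ^ 2 - 1) := by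
          rw [Nat.card_congr e.toEquiv, Nat.card_eq_fintype_card (α := F)]
          exact ClassicalGeometry.PSL2Basic.card_PSL2_odd F hodd
        rw [← Nat.card_eq_fintype_card, hm] at hodd
        rw [hm] at e1
        have hmo : Odd m := (Nat.odd_mul.1 hodd).1
        obtain ⟨j, rfl⟩ := hmo
        obtain ⟨i, hi⟩ : ∃ i, j * (j + 1) = 2 * i := even_iff_two_dvd.1 (Nat.even_mul_succ_self j)
        have e2 : (2 * j + 1) * (2 * j + 1) = 8 * i + 1 := by
          calc (2 * j + 1) * (2 * j + 1) = 4 * (j * (j + 1)) + 1 := by ring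
            _ = _ := by rw [hi]; ring
        rw [e2] at e1
        have e3 : (8 * i + 1) ^ 2 - 1 = 16 * (i * (4 * i + 1)) := by
          have : (8 * i + 1) ^ 2 = 16 * (i * (4 * i + 1)) + 1 := by ring
          omega
        rw [e3] at e1
        have e4 : 8 ∣ Nat.card L := by
          refine ⟨(8 * i + 1) * (i * (4 * i + 1)), ?_⟩
          have : Nat.card L * 2 = (8 * ((8 * i + 1) * (i * (4 * i + 1)))) * 2 := by rw [e1]; ring
          exact Nat.eq_of_mul_eq_mul_right two_pos this
        -- `2 ∣ |Y : L|`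
        have e5 : 2 ∣ L.index := by
          have h5 : orderOf (u : Y ⧸ L) = 2 := by
            apply orderOf_eq_prime
            · rw [sq, ← QuotientGroup.mk_mul, hu.1, QuotientGroup.mk_one]
            · intro h6
              exact huL ((QuotientGroup.eq_one_iff u).1 h6)
          rw [← h5]
          exact orderOf_dvd_natCard _
        rw [← L.card_mul_index]
        exact Nat.mul_dvd_mul e4 e5
    have htne : (⟨t, htL⟩ : L) ≠ 1 := fun h => ht.2 (congrArg Subtype.val h)
    rw [eq_bot_iff]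
    intro x hx
    rw [mem_bot]
    have h5 : α ⟨x, hQL hx⟩ = ⟨x, hQL hx⟩ := by
      refine SectionMat.fixes_of_square h2 π hπ hk α ⟨t, htL⟩ htne hα hsq ⟨x, hQL hx⟩ ?_ ?_
      · rw [Subgroup.orderOf_mk]; exact hoddx x hx
      · exact Subtype.ext (mem_centralizer_singleton_iff.1 (hQt hx))
    have h6 : (u * w) * x * (u * w)⁻¹ = x := congrArg Subtype.val h5
    have hux : x * u = u * x := mem_centralizer_singleton_iff.1 (hQu hx)
    have h7 : (u * w) * x * (u * w)⁻¹ = x⁻¹ := by
      calc (u * w) * x * (u * w)⁻¹ = u * (w * x * w⁻¹) * u⁻¹ := by group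
        _ = (u * x * u⁻¹)⁻¹ := by rw [hQw x hx]; group
        _ = x⁻¹ := by rw [← hux]; group
    have h8 : x = x⁻¹ := h6.symm.trans h7
    have h9 : x * x = 1 := by
      nth_rewrite 1 [h8]
      exact inv_mul_cancel x
    exact eq_one_of_sq hQ hx h9
  · -- `A₇`
    let f : L →* Equiv.Perm (Fin 7) := (alternatingGroup (Fin 7)).subtype.comp e.toMonoidHom
    have hf : Function.Injective f := (Subtype.val_injective).comp e.injective
    have h1 : orderOf (f ⟨t, htL⟩) = 2 := by
      rw [orderOf_injective f hf, Subgroup.orderOf_mk, ht.orderOf_eq]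
    have h2 : Equiv.Perm.sign (f ⟨t, htL⟩) = 1 :=
      Equiv.Perm.mem_alternatingGroup.1 (e ⟨t, htL⟩).2
    have h3 := card_centralizer_perm _ h1 h2
    have h4 : (Q.subgroupOf L).map f ≤ centralizer {f ⟨t, htL⟩} := by
      rintro _ ⟨y, hy, rfl⟩
      rw [mem_centralizer_singleton_iff, ← map_mul, ← map_mul]
      congr 1
      apply Subtype.ext
      exact mem_centralizer_singleton_iff.1 (hQt hy)
    have h5 := card_dvd_of_le h4
    rw [h3, card_map_of_injective hf, Nat.card_congr (subgroupOfEquivOfLe hQL).toEquiv] at h5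
    exact card_cases (k := 4) hQ h5

end

end Cfsg.Agent.Classification.TypeZ.SectionAlt
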