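import Mathlib
import Cfsg.Agent.Classification.TypeZ.NoGoodW
import Cfsg.Agent.Classification.TypeZ.SectionAlt
import Cfsg.Agent.Classification.DihLift
import Cfsg.Agent.Lib.ProductSet
import Cfsg.Agent.TwoFusion.IsolatedSylow

/-!
# Type Z of the Gorenstein–Walter theorem, no good pairs: `|S| = 8`, a special prime (item II4)
-/

set_option autoImplicit false
set_option linter.unusedSectionVars false
set_option linter.style.haveILetI false

namespace Cfsg.Agent.Classification.TypeZ.NoGoodCount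

open Subgroup Cfsg
open Cfsg.Agent.Classification.TypeB.Basic Cfsg.Agent.Classification.TypeB.Core
open Cfsg.Agent.Classification.TypeB.Fusion
open Cfsg.Agent.OddOrderLocal Cfsg.Agent.OddOrderLocal.PiCoreOf
open Cfsg.Agent.Classification.DihedralCentral Cfsg.Agent.Classification.TransferSign
open Cfsg.Agent.Classification.DihReduction Cfsg.Agent.Classification.DihStructure
open Cfsg.Agent.Classification.DihMinimal Cfsg.Agent.Classification.TypeZ.Bender
open Cfsg.Agent.Classification.TypeZ.Fusion Cfsg.Agent.Classification.TypeZ.NoGoodBase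
open Cfsg.Agent.Classification.TypeZ.NoGoodW Cfsg.Agent.Classification.TypeZ.Comp
open Cfsg.Agent.SignalizersComponents.RelSylow

universe u

variable {G : Type u} [Group G] [Finite G] {t : G}

/-! ### general -/

theorem mem_of_sq_mem {X : Subgroup G} {x : G} (ho : Odd (orderOf x)) (h : x * x ∈ X) : x ∈ X := by
  obtain ⟨k, hk⟩ := ho
  have h1 : x = (x * x) ^ (k + 1) := by
    rw [← pow_two, ← pow_mul]
    have h2 : 2 * (k + 1) = orderOf x + 1 := by omega
    rw [h2, pow_succ, pow_orderOf_eq_one, one_mul]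
  rw [h1]
  exact pow_mem h _

/-- `X = N C_X(v)`, `N` the set of the elements of `X` inverted by `v`. -/
theorem card_eq_inverted {X N : Subgroup G} (hX : Odd (Nat.card X)) {v : G} (hv : IsInv v)
    (hn : v ∈ normalizer (X : Set G)) (hN : ∀ x, x ∈ N ↔ x ∈ X ∧ v * x * v⁻¹ = x⁻¹) :
    (centralizer ({v} : Set G)).relIndex X = Nat.card N ∧
    Nat.card X = Nat.card N * Nat.card (X ⊓ centralizer ({v} : Set G) : Subgroup G) := by
  have h1 := Cfsg.Agent.TwoFusion.IsolatedSylow.relIndex_centralizer_eq_card_inverted hv.1 X hX hn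
  rw [inf_relIndex_left] at h1
  have h2 : Nat.card {x : G // x ∈ X ∧ v * x * v⁻¹ = x⁻¹} = Nat.card N :=
    Nat.card_congr (Equiv.subtypeEquivRight fun x => (hN x).symm)
  have h3 : (centralizer ({v} : Set G)).relIndex X = Nat.card N := h1.trans h2
  refine ⟨h3, ?_⟩
  have h4 : Nat.card (X ⊓ centralizer ({v} : Set G) : Subgroup G) *
      (centralizer ({v} : Set G)).relIndex X = Nat.card X := by
    rw [← inf_relIndex_left X, mul_comm]
    have h5 := ((X ⊓ centralizer ({v} : Set G)).subgroupOf X).card_mul_index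
    rw [Nat.card_congr (subgroupOfEquivOfLe (inf_le_left : X ⊓ _ ≤ X)).toEquiv] at h5
    rw [mul_comm]
    exact h5
  rw [← h4, h3, mul_comm]

theorem card_sup_mul {K H : Subgroup G} (h : H ≤ normalizer (K : Set G)) :
    Nat.card (K ⊔ H : Subgroup G) * Nat.card (K ⊓ H : Subgroup G) = Nat.card K * Nat.card H := by
  rw [← Cfsg.Agent.Lib.ProductSet.card_mul_card_inf K H,
    ← Subgroup.coe_mul_of_right_le_normalizer_left K H h]
  rfl

theorem relIndex_section_aux {Y : Type u} [Group Y] [Finite Y] (hA : DihAlt Y)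
    (h16 : ¬ 16 ∣ Nat.card Y) {B O : Subgroup G} (hO : Odd (Nat.card O)) (f : B →* Y)
    (hf : ∀ y : B, f y = 1 ↔ (y : G) ∈ O)
    {t u w : G} (htB : t ∈ B) (huB : u ∈ B) (hwB : w ∈ B) (ht : IsInv t) (hu : IsInv u) (hw : IsInv w)
    (htu : t * u = u * t) (htw : t * w = w * t) (hne : u ≠ t) (hwu : w * u * w⁻¹ = t * u)
    {k : G} (hk : k ∈ B) (hk1 : k * t * k⁻¹ = w) (hk2 : k * w * k⁻¹ = t * w)
    {P : Subgroup G} (hPB : P ≤ B) (hP : Odd (Nat.card P)) (hPt : P ≤ centralizer ({t} : Set G))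
    (hPu : P ≤ centralizer ({u} : Set G)) (hPw : ∀ x ∈ P, w * x * w⁻¹ = x⁻¹) :
    O.relIndex P = 1 ∨ O.relIndex P = 3 := by
  have hinv : ∀ (x : G) (hxB : x ∈ B), IsInv x → IsInv (f ⟨x, hxB⟩) := by
    intro x hxB hx
    refine ⟨?_, ?_⟩
    · rw [← map_mul]
      have : (⟨x, hxB⟩ * ⟨x, hxB⟩ : B) = 1 := Subtype.ext hx.1
      rw [this, map_one]
    · intro h1
      rw [hf] at h1
      exact hx.2 (eq_one_of_sq hO h1 hx.1)
  have hrel : ∀ (a b c : B), (a : G) * b = c → f a * f b = f c := by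
    intro a b c habc
    rw [← map_mul]
    exact congrArg f (Subtype.ext habc)
  have hcon : ∀ (a b c : B), (a : G) * b * (a : G)⁻¹ = c → f a * f b * (f a)⁻¹ = f c := by
    intro a b c habc
    rw [← map_inv, ← map_mul, ← map_mul]
    exact congrArg f (Subtype.ext habc)
  set g : P →* Y := f.comp (inclusion hPB) with hg
  have e1 : f ⟨t, htB⟩ * f ⟨u, huB⟩ = f ⟨t * u, mul_mem htB huB⟩ := hrel _ _ _ rfl
  have e2 : f ⟨t, htB⟩ * f ⟨w, hwB⟩ = f ⟨t * w, mul_mem htB hwB⟩ := hrel _ _ _ rfl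
  have h3 := SectionAlt.card_eq_three hA h16 (t := f ⟨t, htB⟩) (u := f ⟨u, huB⟩)
    (w := f ⟨w, hwB⟩)
    (hinv t htB ht) (hinv u huB hu) (hinv w hwB hw)
    (by rw [e1]; exact (hrel _ _ _ htu.symm).symm)
    (by rw [e2]; exact (hrel _ _ _ htw.symm).symm)
    (by
      intro h1
      have h2 : f ⟨u * t, mul_mem huB htB⟩ = 1 := by
        rw [← hrel ⟨u, huB⟩ ⟨t, htB⟩ _ rfl, h1]
        exact (hinv t htB ht).1
      rw [hf] at h2
      have h3 : IsInv (u * t) := hu.mul ht htu.symm hne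
      exact h3.2 (eq_one_of_sq hO h2 h3.1))
    (by rw [e1]; exact hcon _ _ _ hwu)
    ⟨f ⟨k, hk⟩, hcon _ _ _ hk1, by rw [e2]; exact hcon _ _ _ hk2⟩
    (Q := g.range)
    (hP.of_dvd_nat (card_range_dvd g))
    (by
      rintro _ ⟨y, rfl⟩
      rw [mem_centralizer_singleton_iff]
      have h1 := mem_centralizer_singleton_iff.1 (hPt y.2)
      have h2 := hrel (inclusion hPB y) ⟨t, htB⟩ ⟨t * y, mul_mem htB (hPB y.2)⟩ h1
      have h4 := hrel ⟨t, htB⟩ (inclusion hPB y) ⟨t * y, mul_mem htB (hPB y.2)⟩ rfl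
      exact h2.trans h4.symm)
    (by
      rintro _ ⟨y, rfl⟩
      rw [mem_centralizer_singleton_iff]
      have h1 := mem_centralizer_singleton_iff.1 (hPu y.2)
      have h2 := hrel (inclusion hPB y) ⟨u, huB⟩ ⟨u * y, mul_mem huB (hPB y.2)⟩ h1
      have h4 := hrel ⟨u, huB⟩ (inclusion hPB y) ⟨u * y, mul_mem huB (hPB y.2)⟩ rfl
      exact h2.trans h4.symm)
    (by
      rintro _ ⟨y, rfl⟩
      have h1 := hPw y y.2
      have h2 := hcon ⟨w, hwB⟩ (inclusion hPB y) (inclusion hPB y)⁻¹ h1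
      rw [map_inv] at h2
      exact h2)
  have h4 : O.relIndex P = Nat.card g.range := by
    have h5 : O.subgroupOf P = g.ker := by
      ext y
      rw [mem_subgroupOf, MonoidHom.mem_ker]
      exact (hf (inclusion hPB y)).symm
    rw [relIndex, h5, index_ker]
  rw [h4]
  rcases h3 with h3 | h3
  · left
    rw [h3, Nat.card_unique]
  · exact Or.inr h3

/-- The image of `P` in `B / O(B)` has order `1` or `3`. -/
theorem relIndex_section (h : ZHyp G t) (h16 : ¬ 16 ∣ Nat.card G) {B : Subgroup G} (hB : B ≠ ⊤)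
    {u w : G} (htB : t ∈ B) (huB : u ∈ B) (hwB : w ∈ B) (hu : IsInv u) (hw : IsInv w)
    (htu : t * u = u * t) (htw : t * w = w * t) (hne : u ≠ t) (hwu : w * u * w⁻¹ = t * u)
    {k : G} (hk : k ∈ B) (hk1 : k * t * k⁻¹ = w) (hk2 : k * w * k⁻¹ = t * w)
    {P : Subgroup G} (hPB : P ≤ B) (hP : Odd (Nat.card P)) (hPt : P ≤ centralizer ({t} : Set G))
    (hPu : P ≤ centralizer ({u} : Set G)) (hPw : ∀ x ∈ P, w * x * w⁻¹ = x⁻¹) :
    (oc B).relIndex P = 1 ∨ (oc B).relIndex P = 3 := by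
  have hn : (Cfsg.oddCore B).Normal := Cfsg.Agent.Lib.Cores.pPrimeCore_normal 2
  have hker : ∀ y : B, QuotientGroup.mk' (Cfsg.oddCore B) y = 1 ↔ (y : G) ∈ oc B := by
    intro y
    rw [QuotientGroup.mk'_apply, QuotientGroup.eq_one_iff, oc_eq_map]
    constructor
    · intro hy
      exact ⟨y, hy, rfl⟩
    · rintro ⟨z, hz, hzy⟩
      rwa [← Subtype.ext hzy]
  exact relIndex_section_aux (h.alt B hB)
    (fun h1 => h16 (h1.trans ((card_quotient_dvd_card _).trans (card_subgroup_dvd_card B))))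
    (odd_oc B) (QuotientGroup.mk' (Cfsg.oddCore B)) hker htB huB hwB h.inv hu hw htu htw hne hwu hk
    hk1 hk2 hPB hP hPt hPu hPw

/-! ### The element `r` -/

theorem conj_central {T : Subgroup G} {a g : G} (hg : g ∈ normalizer (T : Set G))
    (ha : ∀ y ∈ T, y * a = a * y) : ∀ y ∈ T, y * (g * a * g⁻¹) = g * a * g⁻¹ * y := by
  intro y hy
  have h1 : g⁻¹ * y * g ∈ T := by
    have := conj_mem_of_mem_normalizer (inv_mem hg) hy
    rwa [inv_inv] at this
  have h2 := ha _ h1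
  calc y * (g * a * g⁻¹) = g * (g⁻¹ * y * g * a) * g⁻¹ := by group
    _ = g * (a * (g⁻¹ * y * g)) * g⁻¹ := by rw [h2]
    _ = _ := by group

/-- a central element of order `p` of `T` in `O_p(K_t)` -/
theorem exists_central {S : Sylow 2 G} {p : ℕ} {T : Subgroup G} {u : G} (c : SCtx t S p T u) :
    ∃ a ∈ Pc p t, orderOf a = p ∧ ∀ y ∈ T, y * a = a * y := by
  have hPT : Pc p t ≤ T := c.P_le
  have hn : ((Pc p t).subgroupOf T).Normal := by
    refine ⟨fun x hx g => ?_⟩
    rw [mem_subgroupOf] at hx ⊢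
    exact conj_mem_of_mem_normalizer (Pc_normal p t (c.T_cent g.2)) hx
  have hP1 : (Pc p t).subgroupOf T ≠ ⊥ := by
    intro h
    apply c.P_ne
    rw [subgroupOf_eq_bot] at h
    have := h.eq_bot
    rwa [inf_eq_left.2 hPT] at this
  have : Fact p.Prime := ⟨c.prime⟩
  have : Group.IsNilpotent T := c.isPGroup.isNilpotent
  have hne := Cfsg.Agent.Lib.NormalAbelian.normal_inf_center_ne_bot ((Pc p t).subgroupOf T) hP1
  have hdvd : p ∣ Nat.card ((Pc p t).subgroupOf T ⊓ Subgroup.center T : Subgroup T) :=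
    FitCores.dvd_card_of_ne_bot c.prime (c.isPGroup.to_subgroup _) hne le_rfl
  obtain ⟨z, hz, hzp⟩ := FitCores.exists_mem_orderOf c.prime hdvd
  refine ⟨z, hz.1, by rw [Subgroup.orderOf_coe]; exact hzp, fun y hy => ?_⟩
  exact congrArg Subtype.val (mem_center_iff.1 hz.2 ⟨y, hy⟩)

section rho

variable {S : Sylow 2 G} {p : ℕ} {T : Subgroup G} {u w ρ : G}

/-- `w' = ρ w ρ⁻¹` fixes `u` and swaps `t` and `tu`, `w w'` fuses `⟨t, u⟩`. -/
structure Rho (t : G) (T : Subgroup G) (u w ρ : G) : Prop where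
  norm : ρ ∈ normalizer (T : Set G)
  ρt : ρ * t * ρ⁻¹ = u
  ρu : ρ * u * ρ⁻¹ = t * u
  w't : ρ * w * ρ⁻¹ * t * (ρ * w * ρ⁻¹)⁻¹ = t * u
  w'u : ρ * w * ρ⁻¹ * u * (ρ * w * ρ⁻¹)⁻¹ = u
  wtu : w * (t * u) * w⁻¹ = u

theorem exists_Rho (c : WCtx t S p T u w) : ∃ ρ, Rho t T u w ρ := by
  obtain ⟨ρ, hρ, h1, h2⟩ := WCtx.exists_rho c.toSCtx
  have i3 : ρ * (t * u) * ρ⁻¹ = t := by
    calc ρ * (t * u) * ρ⁻¹ = (ρ * t * ρ⁻¹) * (ρ * u * ρ⁻¹) := by group
      _ = u * (t * u) := by rw [h1, h2]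
      _ = t * (u * u) := by rw [← mul_assoc, ← c.comm]; group
      _ = t := by rw [c.hu.1, mul_one]
  refine ⟨ρ, hρ, h1, h2, ?_, ?_, ?_⟩
  · have h5 : ρ⁻¹ * t * ρ = t * u := by
      calc ρ⁻¹ * t * ρ = ρ⁻¹ * (ρ * (t * u) * ρ⁻¹) * ρ := by rw [i3]
        _ = _ := by group
    calc ρ * w * ρ⁻¹ * t * (ρ * w * ρ⁻¹)⁻¹ = ρ * (w * (ρ⁻¹ * t * ρ) * w⁻¹) * ρ⁻¹ := by group
      _ = ρ * ((w * t) * u * w⁻¹) * ρ⁻¹ := by rw [h5]; group
      _ = ρ * (t * (w * u * w⁻¹)) * ρ⁻¹ := by rw [← c.tw]; group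
      _ = ρ * u * ρ⁻¹ := by rw [c.wu, ← mul_assoc t t u, c.tinv.1, one_mul]
      _ = t * u := h2
  · calc ρ * w * ρ⁻¹ * u * (ρ * w * ρ⁻¹)⁻¹ = ρ * (w * (ρ⁻¹ * u * ρ) * w⁻¹) * ρ⁻¹ := by group
      _ = ρ * (w * t * w⁻¹) * ρ⁻¹ := by
        have : ρ⁻¹ * u * ρ = t := by rw [← h1]; group
        rw [this]
      _ = ρ * t * ρ⁻¹ := by rw [← c.tw]; group
      _ = u := h1
  · calc w * (t * u) * w⁻¹ = (w * t) * u * w⁻¹ := by group
      _ = t * (w * u * w⁻¹) := by rw [← c.tw]; group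
      _ = u := by rw [c.wu, ← mul_assoc t t u, c.tinv.1, one_mul]

theorem Rho.fuse (h : Rho t T u w ρ) (hwu : w * u * w⁻¹ = t * u) :
    w * (ρ * w * ρ⁻¹) * t * (w * (ρ * w * ρ⁻¹))⁻¹ = u ∧
      w * (ρ * w * ρ⁻¹) * u * (w * (ρ * w * ρ⁻¹))⁻¹ = t * u := by
  constructor
  · calc w * (ρ * w * ρ⁻¹) * t * (w * (ρ * w * ρ⁻¹))⁻¹
        = w * (ρ * w * ρ⁻¹ * t * (ρ * w * ρ⁻¹)⁻¹) * w⁻¹ := by group
      _ = u := by rw [h.w't, h.wtu]
  · calc w * (ρ * w * ρ⁻¹) * u * (w * (ρ * w * ρ⁻¹))⁻¹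
        = w * (ρ * w * ρ⁻¹ * u * (ρ * w * ρ⁻¹)⁻¹) * w⁻¹ := by group
      _ = t * u := by rw [h.w'u, hwu]

/-- `O_p(K_u) ∩ O_p(K_tu) = 1` -/
theorem inf_eq_bot' (c : WCtx t S p T u w) (hno : NoGood t) (h : Rho t T u w ρ) :
    Pc p u ⊓ Pc p (t * u) = ⊥ := by
  rw [eq_bot_iff]
  rintro x ⟨hx1, hx2⟩
  have e1 : ρ⁻¹ * u * ρ = t := by rw [← h.ρt]; group
  have e2 : ρ⁻¹ * (t * u) * ρ = u := by rw [← h.ρu]; group
  have h1 := conj_mem_Pc c.z.sub c.hu ρ⁻¹ hx1
  have h2 := conj_mem_Pc c.z.sub (c.tinv.mul c.hu c.comm c.ne.symm) ρ⁻¹ hx2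
  rw [inv_inv] at h1 h2
  rw [e1] at h1
  rw [e2] at h2
  have h3 : ρ⁻¹ * x * ρ ∈ Pc p t ⊓ Pc p u := ⟨h1, h2⟩
  rw [c.inf_eq_bot hno, mem_bot] at h3
  rw [mem_bot]
  calc x = ρ * (ρ⁻¹ * x * ρ) * ρ⁻¹ := by group
    _ = 1 := by rw [h3]; group

/-- The element `r` of `Z(T) ∩ C(w)`. -/
theorem exists_r (c : WCtx t S p T u w) (hno : NoGood t) :
    ∃ r ∈ T, r ≠ 1 ∧ (∀ y ∈ T, y * r = r * y) ∧ r * w = w * r ∧
      (p = 3 → ∃ g, g * r = r * g ∧ g * t * g⁻¹ = u ∧ g * u * g⁻¹ = t * u) := by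
  obtain ⟨ρ, h⟩ := exists_Rho c
  obtain ⟨a, haP, hao, hac⟩ := exists_central c.toSCtx
  have hb1 : ρ * a * ρ⁻¹ ∈ Pc p u := by
    rw [← h.ρt]
    exact conj_mem_Pc c.z.sub c.tinv ρ haP
  have hbc := conj_central h.norm hac
  have hbo : orderOf (ρ * a * ρ⁻¹) = p := by rw [WCtx.orderOf_conj, hao]
  generalize ρ * a * ρ⁻¹ = b at hb1 hbc hbo
  have hbT : b ∈ T := c.P_le_u hb1
  have hd1 : w * b * w⁻¹ ∈ Pc p (t * u) := by
    rw [← c.wu]
    exact conj_mem_Pc c.z.sub c.hu w hb1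
  have hdc := conj_central c.w_T hbc
  have hdT : w * b * w⁻¹ ∈ T := conj_mem_of_mem_normalizer c.w_T hbT
  have hwd : w * (w * b * w⁻¹) * w⁻¹ = b := by
    calc w * (w * b * w⁻¹) * w⁻¹ = (w * w) * b * (w * w)⁻¹ := by group
      _ = b := by rw [c.hw.1]; group
  have hbd : b * w * b⁻¹ * w⁻¹ = b * (w * b * w⁻¹)⁻¹ := by group
  have hbw := c.comm_mem_P hno hbT
  rw [hbd] at hbw
  generalize hd : w * b * w⁻¹ = d at hd1 hdc hdT hwd hbw
  have hbd' : b * d = d * b := hdc b hbT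
  refine ⟨b * d, mul_mem hbT hdT, ?_, ?_, ?_, ?_⟩
  · intro h1
    have h2 : b = d⁻¹ := mul_eq_one_iff_eq_inv.1 h1
    have hb2 : b ∈ Pc p (t * u) := by rw [h2]; exact inv_mem hd1
    have h3 : b ∈ Pc p u ⊓ Pc p (t * u) := ⟨hb1, hb2⟩
    rw [inf_eq_bot' c hno h, mem_bot] at h3
    rw [h3, orderOf_one] at hbo
    exact c.prime.one_lt.ne hbo
  · intro y hy
    calc y * (b * d) = (y * b) * d := by group
      _ = b * (y * d) := by rw [hbc y hy]; group
      _ = b * d * y := by rw [hdc y hy]; group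
  · have h1 : w * (b * d) * w⁻¹ = b * d := by
      calc w * (b * d) * w⁻¹ = (w * b * w⁻¹) * (w * d * w⁻¹) := by group
        _ = d * b := by rw [hd, hwd]
        _ = b * d := hbd'.symm
    calc b * d * w = w * (b * d) * w⁻¹ * w := by rw [h1]
      _ = w * (b * d) := by group
  · intro hp3
    have hf := h.fuse c.wu
    refine ⟨w * (ρ * w * ρ⁻¹), ?_, hf.1, hf.2⟩
    -- `w' = ρ w ρ⁻¹`
    have hw'u : ∀ x ∈ Pc p u, ρ * w * ρ⁻¹ * x * (ρ * w * ρ⁻¹)⁻¹ = x⁻¹ := by
      intro x hx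
      have h3 : ρ⁻¹ * x * ρ ∈ Pc p t := by
        have h4 := conj_mem_Pc c.z.sub c.hu ρ⁻¹ hx
        rw [inv_inv] at h4
        have h5 : ρ⁻¹ * u * ρ = t := by rw [← h.ρt]; group
        rwa [h5] at h4
      have h4 := c.inverts hno _ h3
      calc ρ * w * ρ⁻¹ * x * (ρ * w * ρ⁻¹)⁻¹ = ρ * (w * (ρ⁻¹ * x * ρ) * w⁻¹) * ρ⁻¹ := by group
        _ = ρ * (ρ⁻¹ * x * ρ)⁻¹ * ρ⁻¹ := by rw [h4]
        _ = x⁻¹ := by group
    have hw'T : ∀ y ∈ T, y * (ρ * w * ρ⁻¹) * y⁻¹ * (ρ * w * ρ⁻¹)⁻¹ ∈ Pc p u := by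
      intro y hy
      have h3 : ρ⁻¹ * y * ρ ∈ T := by
        have := conj_mem_of_mem_normalizer (inv_mem h.norm) hy
        rwa [inv_inv] at this
      have h4 := conj_mem_Pc c.z.sub c.tinv ρ (c.comm_mem_P hno h3)
      rw [h.ρt] at h4
      have h5 : ρ * (ρ⁻¹ * y * ρ * w * (ρ⁻¹ * y * ρ)⁻¹ * w⁻¹) * ρ⁻¹ =
        y * (ρ * w * ρ⁻¹) * y⁻¹ * (ρ * w * ρ⁻¹)⁻¹ := by group
      rwa [h5] at h4
    have hw'd : ρ * w * ρ⁻¹ * d * (ρ * w * ρ⁻¹)⁻¹ ∈ Pc p t := by
      have h3 := conj_mem_Pc c.z.sub (c.tinv.mul c.hu c.comm c.ne.symm) (ρ * w * ρ⁻¹) hd1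
      have h4 : ρ * w * ρ⁻¹ * (t * u) * (ρ * w * ρ⁻¹)⁻¹ = t := by
        calc ρ * w * ρ⁻¹ * (t * u) * (ρ * w * ρ⁻¹)⁻¹
            = (ρ * w * ρ⁻¹ * t * (ρ * w * ρ⁻¹)⁻¹) * (ρ * w * ρ⁻¹ * u * (ρ * w * ρ⁻¹)⁻¹) := by
              group
          _ = t * u * u := by rw [h.w't, h.w'u]
          _ = t := by rw [mul_assoc, c.hu.1, mul_one]
      rwa [h4] at h3
    have hb2 := hw'u b hb1
    have hdw := hw'T d hdT
    have hd2 : d * (ρ * w * ρ⁻¹) * d⁻¹ * (ρ * w * ρ⁻¹)⁻¹ =
      d * (ρ * w * ρ⁻¹ * d * (ρ * w * ρ⁻¹)⁻¹)⁻¹ := by group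
    rw [hd2] at hdw
    generalize hw' : ρ * w * ρ⁻¹ = v at *
    generalize hz : v * d * v⁻¹ = z at *
    -- `z = d b⁻¹`
    have h3 : z * (b * d⁻¹) ∈ Pc p t := mul_mem hw'd hbw
    have h4 : z * (b * d⁻¹) ∈ Pc p u := by
      have h5 : z * (b * d⁻¹) = (d * z⁻¹)⁻¹ * b := by
        calc z * (b * d⁻¹) = z * d⁻¹ * (d * b) * d⁻¹ := by group
          _ = z * d⁻¹ * (b * d) * d⁻¹ := by rw [hbd']
          _ = _ := by group
      rw [h5]
      exact mul_mem (inv_mem hdw) hb1
    have h5 : z * (b * d⁻¹) = 1 := by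
      have : z * (b * d⁻¹) ∈ Pc p t ⊓ Pc p u := ⟨h3, h4⟩
      rwa [c.inf_eq_bot hno, mem_bot] at this
    have h6 : z = d * b⁻¹ := by
      calc z = z * (b * d⁻¹) * (d * b⁻¹) := by group
        _ = d * b⁻¹ := by rw [h5, one_mul]
    have hb3 : b * b * b = 1 := by
      have := pow_orderOf_eq_one b
      rw [hbo, hp3] at this
      rw [← this, pow_succ, pow_two]
    have h7 : v * (b * d) * v⁻¹ = b * d := by
      calc v * (b * d) * v⁻¹ = (v * b * v⁻¹) * (v * d * v⁻¹) := by group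
        _ = b⁻¹ * (d * b⁻¹) := by rw [hb2, hz, h6]
        _ = b⁻¹ * b⁻¹ * (b * d) * b⁻¹ := by group
        _ = b⁻¹ * b⁻¹ * (d * b) * b⁻¹ := by rw [hbd']
        _ = (b * b)⁻¹ * d := by group
        _ = b * d := by
          have : (b * b)⁻¹ = b := inv_eq_of_mul_eq_one_right hb3
          rw [this]
    have h8 : w * (b * d) * w⁻¹ = b * d := by
      calc w * (b * d) * w⁻¹ = (w * b * w⁻¹) * (w * d * w⁻¹) := by group
        _ = d * b := by rw [hd, hwd]
        _ = b * d := hbd'.symm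
    calc w * v * (b * d) = w * (v * (b * d) * v⁻¹) * w⁻¹ * (w * v) := by group
      _ = b * d * (w * v) := by rw [h7, h8]

end rho

/-! ### The Sylow 2-subgroup -/

theorem centralizer_ne_top (h : ZHyp G t) {r : G} (hr : r ≠ 1) :
    centralizer ({r} : Set G) ≠ ⊤ := by
  intro h1
  have := h.simple
  have h2 : r ∈ center G := by
    rw [mem_center_iff]
    intro g
    have : g ∈ centralizer ({r} : Set G) := by rw [h1]; exact mem_top g
    exact mem_centralizer_singleton_iff.1 this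
  have h3 : (center G).Normal := inferInstance
  rcases h3.eq_bot_or_eq_top with h4 | h4
  · rw [h4, mem_bot] at h2
    exact hr h2
  · apply h.nonab
    refine ⟨⟨fun a b => ?_⟩⟩
    have : b ∈ center G := by rw [h4]; exact mem_top b
    exact mem_center_iff.1 this a

open Cfsg.Agent.TwoFusion.DihedralFusion in
theorem card_S {S : Sylow 2 G} {p : ℕ} {T : Subgroup G} {u w : G} (c : WCtx t S p T u w) :
    Nat.card S = 8 := by
  classical
  haveI : Fact (Nat.Prime 2) := ⟨Nat.prime_two⟩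
  obtain ⟨k, hk⟩ := IsPGroup.iff_card.1 S.2
  -- upper bound
  have h1 : Nat.card S ≤ 8 := by
    set A : Finset G := {1, t, u, t * u, w * 1, w * t, w * u, w * (t * u)} with hA
    have h2 : ((S : Subgroup G) : Set G) ⊆ (A : Set G) := by
      intro s hs
      have hs' : s ∈ (S : Subgroup G) := hs
      rw [hA]
      simp only [Finset.coe_insert, Finset.coe_singleton, Set.mem_insert_iff,
        Set.mem_singleton_iff]
      rcases c.conj_u hs' with h | h
      · have h1 : s * u = u * s := by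
          calc s * u = s * u * s⁻¹ * s := by group
            _ = u * s := by rw [h]
        rcases c.mem_four hs' h1 with h2 | h2 | h2 | h2 <;> tauto
      · have h1 : w * s * u = u * (w * s) := by
          have h2 : s * u = t * u * s := by rw [← h]; group
          have hwt := c.tw
          calc w * s * u = w * (s * u) := by group
            _ = (w * t) * u * s := by rw [h2]; group
            _ = t * (w * u) * s := by rw [← hwt]; group
            _ = (t * t) * u * w * s := by rw [c.wu']; group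
            _ = u * (w * s) := by rw [c.tinv.1]; group
        have hww : ∀ x y : G, w * x = y → x = w * y := by
          intro x y hxy
          rw [← hxy, ← mul_assoc, c.hw.1, one_mul]
        rcases c.mem_four (mul_mem c.memw hs') h1 with h2 | h2 | h2 | h2 <;>
          have h3 := hww _ _ h2 <;> tauto
    have h3 : Nat.card S ≤ A.card := by
      have := Set.ncard_le_ncard h2 (Finset.finite_toSet A)
      rwa [Set.ncard_coe_finset] at this
    refine h3.trans ?_
    rw [hA]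
    refine (Finset.card_insert_le _ _).trans ?_
    refine (Nat.add_le_add_right (Finset.card_insert_le _ _) 1).trans ?_
    refine (Nat.add_le_add_right (Nat.add_le_add_right (Finset.card_insert_le _ _) 1) 1).trans ?_
    have h4 := Finset.card_insert_le (t * u) ({w * 1, w * t, w * u, w * (t * u)} : Finset G)
    have h5 := Finset.card_insert_le (w * 1) ({w * t, w * u, w * (t * u)} : Finset G)
    have h6 := Finset.card_insert_le (w * t) ({w * u, w * (t * u)} : Finset G)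
    have h7 := Finset.card_insert_le (w * u) ({w * (t * u)} : Finset G)
    have h8 := Finset.card_singleton (w * (t * u))
    omega
  -- lower bound: the four-group is proper in `S`
  set V : Subgroup G := fourGroup t u c.tinv.1 c.hu.1 c.comm with hV
  have hVk : IsKleinFour V := isKleinFour_fourGroup c.tinv.1 c.hu.1 c.comm c.tinv.2 c.hu.2 c.ne.symm
  have hVS : V ≤ (S : Subgroup G) := fourGroup_le _ _ _ c.tmem c.mem
  have hwV : w ∉ V := by
    intro h
    rw [hV, mem_fourGroup] at h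
    have h2 : w * u = u * w := by
      rcases h with h | h | h | h
      · exact absurd h c.hw.2
      · exact absurd h c.w_ne
      · rw [h]
      · rw [h, mul_assoc, ← mul_assoc u t u, ← c.comm]
        group
    have h3 := c.wu
    rw [h2] at h3
    have h4 : u = t * u := by
      rw [← h3]; group
    exact c.tinv.2 (mul_eq_right.1 h4.symm)
  have h2 : Nat.card V ∣ Nat.card S := card_dvd_of_le hVS
  rw [hVk.card_four] at h2
  have h3 : Nat.card S ≠ 4 := by
    intro h4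
    apply hwV
    have h5 : V = (S : Subgroup G) := by
      apply eq_of_le_of_card_ge hVS
      rw [hVk.card_four, h4]
    rw [h5]
    exact c.memw
  rw [hk] at h1 h2 h3 ⊢
  have h4 : 2 ≤ k := by
    rw [show (4 : ℕ) = 2 ^ 2 by norm_num] at h2
    exact (Nat.pow_dvd_pow_iff_le_right (by norm_num)).1 h2
  have h5 : k ≠ 2 := by rintro rfl; exact h3 (by norm_num)
  have h6 : k ≤ 3 := by
    by_contra h7
    have : 2 ^ 4 ≤ 2 ^ k := Nat.pow_le_pow_right (by norm_num) (by omega)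
    omega
  have h7 : k = 3 := by omega
  rw [h7]; norm_num

theorem not_sixteen {S : Sylow 2 G} {p : ℕ} {T : Subgroup G} {u w : G} (c : WCtx t S p T u w) :
    ¬ 16 ∣ Nat.card G := by
  haveI : Fact (Nat.Prime 2) := ⟨Nat.prime_two⟩
  intro h1
  have h2 := S.card_eq_multiplicity
  have h3 : 4 ≤ (Nat.card G).factorization 2 := by
    rw [← Nat.Prime.pow_dvd_iff_le_factorization Nat.prime_two Nat.card_pos.ne']
    exact h1
  have h4 : Nat.card S = 8 := card_S c
  rw [h4] at h2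
  have : 2 ^ 4 ≤ 2 ^ (Nat.card G).factorization 2 := Nat.pow_le_pow_right (by norm_num) h3
  omega

/-! ### Counting in `O = O(C(r))` -/

theorem card_inf_conj {O : Subgroup G} {k v v' : G} (hk : k ∈ normalizer (O : Set G))
    (h : k * v * k⁻¹ = v') : Nat.card (O ⊓ centralizer ({v'} : Set G) : Subgroup G) =
      Nat.card (O ⊓ centralizer ({v} : Set G) : Subgroup G) := by
  have h1 : (O ⊓ centralizer ({v} : Set G) : Subgroup G).map (MulAut.conj k).toMonoidHom =
      O ⊓ centralizer ({v'} : Set G) := by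
    ext x
    rw [mem_map_conj]
    constructor
    · rintro ⟨hx1, hx2⟩
      refine ⟨?_, ?_⟩
      · have := conj_mem_of_mem_normalizer hk hx1
        rwa [show k * (k⁻¹ * x * k) * k⁻¹ = x by group] at this
      · show x ∈ centralizer {v'}
        rw [mem_centralizer_singleton_iff]
        have h4 := WCtx.commute_conj h (mem_centralizer_singleton_iff.1 hx2)
        rwa [show k * (k⁻¹ * x * k) * k⁻¹ = x by group] at h4
    · rintro ⟨hx1, hx2⟩
      refine ⟨?_, ?_⟩
      · have := conj_mem_of_mem_normalizer (inv_mem hk) hx1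
        rwa [inv_inv] at this
      · show k⁻¹ * x * k ∈ centralizer {v}
        rw [mem_centralizer_singleton_iff]
        have h3 : k⁻¹ * v' * k⁻¹⁻¹ = v := by rw [← h]; group
        have h4 := WCtx.commute_conj h3 (mem_centralizer_singleton_iff.1 hx2)
        rwa [inv_inv] at h4
  rw [← h1, Subgroup.card_map_of_injective (MulAut.conj k).injective]

/-- The `p`-part of the four-group formula. -/
theorem factorization_four {O : Subgroup G} (hO : Odd (Nat.card O)) (hs : Group.IsSolvable O)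
    {t v k : G} (ht : IsInv t) (hv : IsInv v) (htv : t * v = v * t) (hne : v ≠ t)
    (htO : t ∈ normalizer (O : Set G)) (hvO : v ∈ normalizer (O : Set G))
    (hk : k ∈ normalizer (O : Set G)) (h1 : k * t * k⁻¹ = v) (h2 : k * v * k⁻¹ = t * v) (p : ℕ) :
    3 * (Nat.card (O ⊓ centralizer ({t} : Set G) : Subgroup G)).factorization p =
      2 * (Nat.card (O ⊓ (centralizer ({t} : Set G) ⊓ centralizer ({v} : Set G)) :
        Subgroup G)).factorization p + (Nat.card O).factorization p := by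
  have h3 := DihLift.four_formula O hO hs ht.orderOf_eq hv.orderOf_eq hne.symm htv htO hvO
  rw [card_inf_conj hk h2, card_inf_conj hk h1] at h3
  have h4 := congrArg (fun n => n.factorization p) h3
  have hc1 : Nat.card (O ⊓ centralizer ({t} : Set G) : Subgroup G) ≠ 0 := Nat.card_pos.ne'
  have hc2 : Nat.card (O ⊓ (centralizer ({t} : Set G) ⊓ centralizer ({v} : Set G)) :
        Subgroup G) ≠ 0 := Nat.card_pos.ne'
  have hc3 : Nat.card O ≠ 0 := Nat.card_pos.ne'
  beta_reduce at h4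
  rw [Nat.factorization_mul (mul_ne_zero hc1 hc1) hc1, Nat.factorization_mul hc1 hc1,
    Nat.factorization_mul (pow_ne_zero 2 hc2) hc3, Nat.factorization_pow] at h4
  simp only [Finsupp.coe_add, Pi.add_apply, Finsupp.coe_smul, Pi.smul_apply, smul_eq_mul] at h4
  omega

/-- The context with `r`. -/
structure RCtx (t : G) (S : Sylow 2 G) (p : ℕ) (T : Subgroup G) (u w r : G) : Prop extends
    WCtx t S p T u w where
  no : NoGood t
  rT : r ∈ T
  r1 : r ≠ 1
  rc : ∀ y ∈ T, y * r = r * y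
  rw : r * w = w * r

namespace RCtx

variable {S : Sylow 2 G} {p : ℕ} {T : Subgroup G} {u w r : G}

theorem tB (c : RCtx t S p T u w r) : t ∈ centralizer ({r} : Set G) := by
  rw [mem_centralizer_singleton_iff]
  exact (mem_centralizer_singleton_iff.1 (c.T_cent c.rT)).symm

theorem uB (c : RCtx t S p T u w r) : u ∈ centralizer ({r} : Set G) := by
  rw [mem_centralizer_singleton_iff]
  exact (mem_centralizer_singleton_iff.1 (c.cent c.rT)).symm

theorem wB (c : RCtx t S p T u w r) : w ∈ centralizer ({r} : Set G) := by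
  rw [mem_centralizer_singleton_iff]
  exact c.rw.symm

theorem TB (c : RCtx t S p T u w r) : T ≤ centralizer ({r} : Set G) := by
  intro y hy
  rw [mem_centralizer_singleton_iff]
  exact c.rc y hy

theorem B_ne (c : RCtx t S p T u w r) : centralizer ({r} : Set G) ≠ ⊤ :=
  centralizer_ne_top c.z c.r1

theorem exists_h (c : RCtx t S p T u w r) :
    ∃ h ∈ centralizer ({r} : Set G), h * t * h⁻¹ = w ∧ h * w * h⁻¹ = t * w := by
  obtain ⟨h, hh, h1, h2⟩ := c.exists_fuse
  refine ⟨h, ?_, h1, h2⟩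
  rw [mem_centralizer_singleton_iff]
  exact (mem_centralizer_iff.1 hh r ⟨c.rT, mem_centralizer_singleton_iff.2 c.rw⟩).symm

theorem le_normalizer_O (_ : RCtx t S p T u w r) :
    centralizer ({r} : Set G) ≤ normalizer (oc (centralizer ({r} : Set G)) : Set G) :=
  le_normalizer_oc _

/-- `T ∩ O` is a Sylow subgroup of `C_O(t)` -/
theorem syl_O (c : RCtx t S p T u w r) :
    IsSyl p (oc (centralizer ({r} : Set G)) ⊓ centralizer ({t} : Set G))
      (T ⊓ oc (centralizer ({r} : Set G))) := by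
  haveI : Fact p.Prime := ⟨c.prime⟩
  set O := oc (centralizer ({r} : Set G)) with hO
  have h1 : O ⊓ centralizer ({t} : Set G) ≤ Kc t :=
    le_Kc c.z.sub c.tinv (odd_of_le inf_le_left (odd_oc _)) inf_le_right
  have h2 : IsMaxP p (centralizer ({r} : Set G) ⊓ Kc t) T := by
    refine ⟨c.isPGroup, le_inf c.TB c.T_le, fun R hR hRK hTR => ?_⟩
    exact ((isSyl_iff.1 c.syl).2.2 R (hRK.trans inf_le_right) hR hTR).le
  have h3 := isMaxP_inf h2 (N := O ⊓ centralizer ({t} : Set G))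
    (le_inf (inf_le_left.trans (oc_le _)) h1) (by
      intro y hy
      apply mem_normalizer_of_conj
      rintro x ⟨hx1, hx2⟩
      have hyt : y ∈ centralizer ({t} : Set G) := Kc_le t hy.2
      have h5 : y * x * y⁻¹ ∈ centralizer ({t} : Set G) := mul_mem (mul_mem hyt hx2) (inv_mem hyt)
      exact ⟨conj_mem_of_mem_normalizer (c.le_normalizer_O hy.1) hx1, h5⟩)
  have h4 : T ⊓ (O ⊓ centralizer ({t} : Set G)) = T ⊓ O := by
    rw [inf_comm O, ← inf_assoc, inf_eq_left.2 c.T_cent]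
  rw [h4] at h3
  exact isSyl_iff_isMaxP.2 h3

theorem card_TO (c : RCtx t S p T u w r) :
    Nat.card (T ⊓ oc (centralizer ({r} : Set G)) : Subgroup G) =
      p ^ (Nat.card (oc (centralizer ({r} : Set G)) ⊓ centralizer ({t} : Set G) :
        Subgroup G)).factorization p := by
  haveI : Fact p.Prime := ⟨c.prime⟩
  exact card_of_isSyl c.syl_O

theorem w_TO (c : RCtx t S p T u w r) :
    w ∈ normalizer ((T ⊓ oc (centralizer ({r} : Set G)) : Subgroup G) : Set G) := by
  apply mem_normalizer_of_conj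
  rintro x ⟨hx1, hx2⟩
  exact ⟨conj_mem_of_mem_normalizer c.w_T hx1,
    conj_mem_of_mem_normalizer (c.le_normalizer_O c.wB) hx2⟩

theorem card_TOw (c : RCtx t S p T u w r) :
    Nat.card (T ⊓ oc (centralizer ({r} : Set G)) ⊓ centralizer ({w} : Set G) : Subgroup G) =
      p ^ (Nat.card (oc (centralizer ({r} : Set G)) ⊓ (centralizer ({t} : Set G) ⊓
        centralizer ({w} : Set G)) : Subgroup G)).factorization p := by
  haveI : Fact p.Prime := ⟨c.prime⟩
  set O := oc (centralizer ({r} : Set G)) with hO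
  have h1 : w ∈ normalizer ((O ⊓ centralizer ({t} : Set G) : Subgroup G) : Set G) := by
    apply mem_normalizer_of_conj
    rintro x ⟨hx1, hx2⟩
    have hwt : w ∈ centralizer ({t} : Set G) := mem_centralizer_singleton_iff.2 c.tw.symm
    have h5 : w * x * w⁻¹ ∈ centralizer ({t} : Set G) := mul_mem (mul_mem hwt hx2) (inv_mem hwt)
    exact ⟨conj_mem_of_mem_normalizer (c.le_normalizer_O c.wB) hx1, h5⟩
  have h2 := card_inf_centralizer c.hw (odd_of_le inf_le_left (odd_oc _)) h1 c.syl_O c.w_TO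
  rw [h2, inf_assoc]

/-- the elements of `T ∩ O` inverted by `w` -/
theorem card_Q (c : RCtx t S p T u w r) :
    Nat.card (T ⊓ oc (centralizer ({r} : Set G)) : Subgroup G) =
      Nat.card (Pc p t ⊓ oc (centralizer ({r} : Set G)) : Subgroup G) *
      Nat.card (T ⊓ oc (centralizer ({r} : Set G)) ⊓ centralizer ({w} : Set G) : Subgroup G) := by
  refine (card_eq_inverted (odd_of_le inf_le_left c.odd_T) c.hw c.w_TO fun x => ?_).2
  constructor
  · rintro ⟨h1, h2⟩
    exact ⟨⟨c.P_le h1, h2⟩, c.inverts c.no x h1⟩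
  · rintro ⟨⟨h1, h2⟩, h3⟩
    refine ⟨?_, h2⟩
    have h4 := c.comm_mem_P c.no h1
    have h5 : x * w * x⁻¹ * w⁻¹ = x * x := by
      calc x * w * x⁻¹ * w⁻¹ = x * (w * x * w⁻¹)⁻¹ := by group
        _ = x * x := by rw [h3, inv_inv]
    rw [h5] at h4
    exact mem_of_sq_mem (odd_orderOf_of_mem c.odd_T h1) h4

theorem solvable_O (c : RCtx t S p T u w r) :
    Group.IsSolvable (oc (centralizer ({r} : Set G))) := c.z.ft _ (odd_oc _)

/-- `|O|_p = |T ∩ O| |P ∩ O|²` -/
theorem factorization_O (c : RCtx t S p T u w r) {q : ℕ}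
    (hq : Nat.card (Pc p t ⊓ oc (centralizer ({r} : Set G)) : Subgroup G) = p ^ q) :
    (Nat.card (oc (centralizer ({r} : Set G)))).factorization p =
      (Nat.card (oc (centralizer ({r} : Set G)) ⊓ centralizer ({t} : Set G) :
        Subgroup G)).factorization p + 2 * q := by
  obtain ⟨k, hk, h1, h2⟩ := c.exists_h
  have h3 := factorization_four (odd_oc _) c.solvable_O c.tinv c.hw c.tw c.w_ne
    (c.le_normalizer_O c.tB) (c.le_normalizer_O c.wB) (c.le_normalizer_O hk) h1 h2 p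
  have h4 := c.card_Q
  rw [c.card_TO, c.card_TOw, hq, ← pow_add] at h4
  have h5 := Nat.pow_right_injective c.prime.two_le h4
  omega

theorem relIndex_P (c : RCtx t S p T u w r) :
    (oc (centralizer ({r} : Set G))).relIndex (Pc p t) = 1 ∨
      (oc (centralizer ({r} : Set G))).relIndex (Pc p t) = 3 := by
  obtain ⟨k, hk, h1, h2⟩ := c.exists_h
  exact relIndex_section c.z (not_sixteen c.toWCtx) c.B_ne c.tB c.uB c.wB c.hu c.hw c.comm c.tw
    c.ne c.wu hk h1 h2 (c.P_le.trans c.TB) (odd_of_le c.P_le c.odd_T) (c.P_le.trans c.T_cent)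
    (c.P_le.trans c.cent) (c.inverts c.no)

/-- `|P| = 3` or `P ≤ O`, for `p ≠ 3`: `P ≤ O`. -/
theorem P_le_O (c : RCtx t S p T u w r) (hp3 : p ≠ 3) :
    Pc p t ≤ oc (centralizer ({r} : Set G)) := by
  rcases c.relIndex_P with h1 | h1
  · exact relIndex_eq_one.1 h1
  · exfalso
    haveI : Fact p.Prime := ⟨c.prime⟩
    obtain ⟨k, hk⟩ := IsPGroup.iff_card.1 (isPGroup_Pc c.prime t)
    have h2 : (oc (centralizer ({r} : Set G))).relIndex (Pc p t) ∣ Nat.card (Pc p t) :=
      index_dvd_card _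
    rw [h1, hk] at h2
    exact hp3 ((Nat.prime_dvd_prime_iff_eq Nat.prime_three c.prime).1
      (Nat.prime_three.dvd_of_dvd_pow h2)).symm

end RCtx

/-! ### `p ≠ 3` -/

/-- pigeonhole: some power `y ^ d`, `1 ≤ d ≤ 3`, commutes with `t`. -/
theorem exists_pow_comm {t a b y : G} (h : ∀ n : ℕ, y ^ n * t * (y ^ n)⁻¹ = t ∨
    y ^ n * t * (y ^ n)⁻¹ = a ∨ y ^ n * t * (y ^ n)⁻¹ = b) :
    ∃ d : ℕ, 1 ≤ d ∧ d ≤ 3 ∧ y ^ d * t = t * y ^ d := by
  classical
  have key : ∀ i j : ℕ, i < j → j < 4 → y ^ i * t * (y ^ i)⁻¹ = y ^ j * t * (y ^ j)⁻¹ →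
      ∃ d : ℕ, 1 ≤ d ∧ d ≤ 3 ∧ y ^ d * t = t * y ^ d := by
    intro i j hij hj4 he
    refine ⟨j - i, by omega, by omega, ?_⟩
    have h1 : y ^ j = y ^ i * y ^ (j - i) := by rw [← pow_add]; congr 1; omega
    rw [h1] at he
    generalize y ^ (j - i) = z at he
    generalize y ^ i = x at he
    calc z * t = x⁻¹ * (x * z * t * (x * z)⁻¹) * (x * z) := by group
      _ = x⁻¹ * (x * t * x⁻¹) * (x * z) := by rw [he]
      _ = t * z := by group
  obtain ⟨i, hi, j, hj, hij, he⟩ := Finset.exists_ne_map_eq_of_card_lt_of_maps_to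
    (s := Finset.range 4) (t := ({t, a, b} : Finset G))
    (f := fun n => y ^ n * t * (y ^ n)⁻¹)
    (lt_of_le_of_lt Finset.card_le_three (by rw [Finset.card_range]; norm_num))
    (fun n _ => by
      have := h n
      simp only [Finset.coe_insert, Finset.coe_singleton, Set.mem_insert_iff,
        Set.mem_singleton_iff]
      tauto)
  rw [Finset.mem_range] at hi hj
  rcases lt_or_gt_of_ne hij with h1 | h1
  · exact key i j h1 hj he
  · exact key j i h1 hi he.symm

theorem commute_of_normalizer {S : Sylow 2 G} {p : ℕ} {T : Subgroup G} {u : G}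
    (c : SCtx t S p T u) (hp3 : p ≠ 3) {y : G} (hy : y ∈ normalizer (T : Set G)) {k : ℕ}
    (hk : y ^ p ^ k = 1) : y * t = t * y := by
  obtain ⟨d, hd1, hd3, hd⟩ := exists_pow_comm (t := t) (a := u) (b := t * u) (y := y) (fun n =>
    c.mem_of_inv (c.tinv.conj _) (SCtx.conj_mem_centralizer c.t_mem_centralizer (pow_mem hy n)))
  have hp2 := c.ne_two
  have hp := c.prime
  have h1 : d.Coprime (orderOf y) := by
    obtain ⟨j, -, hj⟩ := (Nat.dvd_prime_pow hp).1 (orderOf_dvd_of_pow_eq_one hk)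
    rw [hj]
    apply Nat.Coprime.pow_right
    rw [Nat.coprime_comm, hp.coprime_iff_not_dvd]
    intro h2
    have h3 := Nat.le_of_dvd (by omega) h2
    have h4 := hp.two_le
    omega
  obtain ⟨m, hm⟩ := exists_pow_eq_self_of_coprime h1
  have h2 : y ^ d ∈ centralizer ({t} : Set G) := mem_centralizer_singleton_iff.2 hd
  have h3 : y ∈ centralizer ({t} : Set G) := by
    rw [← hm]
    exact pow_mem h2 m
  exact mem_centralizer_singleton_iff.1 h3

theorem exists_sylow {S : Sylow 2 G} {p : ℕ} {T : Subgroup G} {u : G}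
    (c : SCtx t S p T u) (hp3 : p ≠ 3) : ∃ P : Sylow p G, (P : Subgroup G) = T := by
  haveI : Fact p.Prime := ⟨c.prime⟩
  refine ⟨⟨T, c.isPGroup, fun {Q} hQ hle => ?_⟩, rfl⟩
  refine Cfsg.Agent.Blocks.SylowIn.eq_of_normalizer_inf_le hQ hle ?_
  have h2 : IsPGroup p ↥(normalizer (T : Set G) ⊓ Q) := hQ.to_le inf_le_right
  refine ((isSyl_iff.mp c.syl).2.2 _
    (le_Kc c.z.sub c.z.inv (odd_of_isPGroup c.prime c.ne_two h2) ?_) h2
    (le_inf le_normalizer hle)).le
  intro y hy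
  rw [mem_centralizer_singleton_iff]
  obtain ⟨k, hk⟩ := exists_pow_of_mem hQ hy.2
  exact commute_of_normalizer c hp3 hy.1 hk

theorem false_of_ne_three {S : Sylow 2 G} {p : ℕ} {T : Subgroup G} {u w : G}
    (c : WCtx t S p T u w) (hno : NoGood t) (hp3 : p ≠ 3) : False := by
  haveI : Fact p.Prime := ⟨c.prime⟩
  obtain ⟨r, hrT, hr1, hrc, hrw, -⟩ := exists_r c hno
  have d : RCtx t S p T u w r := ⟨c, hno, hrT, hr1, hrc, hrw⟩
  have hPO := d.P_le_O hp3
  obtain ⟨q, hq⟩ := IsPGroup.iff_card.1 (isPGroup_Pc c.prime t)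
  have h1 := d.factorization_O (q := q) (by rw [inf_eq_left.2 hPO, hq])
  have hTn : T ≤ normalizer (oc (centralizer ({r} : Set G)) : Set G) := d.TB.trans d.le_normalizer_O
  have h2 := card_sup_mul hTn
  rw [inf_comm, d.card_TO] at h2
  have h3 := congrArg (fun n => n.factorization p) h2
  have hT := card_of_isSyl c.syl
  beta_reduce at h3
  rw [Nat.factorization_mul Nat.card_pos.ne' (pow_ne_zero _ c.prime.ne_zero),
    Nat.factorization_mul Nat.card_pos.ne' Nat.card_pos.ne', hT] at h3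
  simp only [Finsupp.coe_add, Pi.add_apply, c.prime.factorization_pow,
    Finsupp.single_eq_same] at h3
  obtain ⟨P, hP⟩ := exists_sylow c.toSCtx hp3
  have h4 : Nat.card T = p ^ (Nat.card G).factorization p := by
    rw [← hP]; exact P.card_eq_multiplicity
  rw [hT] at h4
  have h5 := Nat.pow_right_injective c.prime.two_le h4
  have h6 : (Nat.card (oc (centralizer ({r} : Set G)) ⊔ T : Subgroup G)).factorization p ≤
      (Nat.card G).factorization p :=
    (Nat.factorization_le_iff_dvd Nat.card_pos.ne' Nat.card_pos.ne').2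
      (card_subgroup_dvd_card _) p
  have h7 : 0 < q := by
    rcases Nat.eq_zero_or_pos q with rfl | h
    · exfalso
      rw [pow_zero] at hq
      exact c.P_ne (eq_bot_of_card_eq _ hq)
    · exact h
  omega

/-! ### `p = 3` -/

theorem card_P_three {S : Sylow 2 G} {T : Subgroup G} {u w : G}
    (c : WCtx t S 3 T u w) (hno : NoGood t) : Nat.card (Pc 3 t) = 3 := by
  haveI : Fact (Nat.Prime 3) := ⟨Nat.prime_three⟩
  obtain ⟨r, hrT, hr1, hrc, hrw, hg⟩ := exists_r c hno
  obtain ⟨g, hgr, hg1, hg2⟩ := hg rfl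
  have d : RCtx t S 3 T u w r := ⟨c, hno, hrT, hr1, hrc, hrw⟩
  have hgB : g ∈ centralizer ({r} : Set G) := mem_centralizer_singleton_iff.2 hgr
  have h1 := factorization_four (odd_oc _) d.solvable_O c.tinv c.hu c.comm c.ne
    (d.le_normalizer_O d.tB) (d.le_normalizer_O d.uB) (d.le_normalizer_O hgB) hg1 hg2 3
  have h2 : (Nat.card (oc (centralizer ({r} : Set G)) ⊓ centralizer ({t} : Set G) :
      Subgroup G)).factorization 3 ≤ (Nat.card (oc (centralizer ({r} : Set G)) ⊓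
        (centralizer ({t} : Set G) ⊓ centralizer ({u} : Set G)) : Subgroup G)).factorization 3 := by
    rw [← Nat.Prime.pow_dvd_iff_le_factorization Nat.prime_three Nat.card_pos.ne', ← d.card_TO]
    exact card_dvd_of_le (le_inf inf_le_right (le_inf (inf_le_left.trans c.T_cent)
      (inf_le_left.trans c.cent)))
  have h3 : (Nat.card (oc (centralizer ({r} : Set G)) ⊓
        (centralizer ({t} : Set G) ⊓ centralizer ({u} : Set G)) : Subgroup G)).factorization 3 ≤
      (Nat.card (oc (centralizer ({r} : Set G)) ⊓ centralizer ({t} : Set G) :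
      Subgroup G)).factorization 3 :=
    (Nat.factorization_le_iff_dvd Nat.card_pos.ne' Nat.card_pos.ne').2
      (card_dvd_of_le (inf_le_inf_left _ inf_le_left)) 3
  obtain ⟨q, hq⟩ := IsPGroup.iff_card.1 ((isPGroup_Pc Nat.prime_three t).to_le
    (inf_le_left : Pc 3 t ⊓ oc (centralizer ({r} : Set G)) ≤ Pc 3 t))
  have h4 := d.factorization_O hq
  have h5 : q = 0 := by omega
  rw [h5, pow_zero] at hq
  have h6 : Nat.card (Pc 3 t ⊓ oc (centralizer ({r} : Set G)) : Subgroup G) *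
      (oc (centralizer ({r} : Set G))).relIndex (Pc 3 t) = Nat.card (Pc 3 t) := by
    rw [← inf_relIndex_left (Pc 3 t), mul_comm]
    have h5 := ((Pc 3 t ⊓ oc (centralizer ({r} : Set G))).subgroupOf (Pc 3 t)).card_mul_index
    rw [Nat.card_congr (subgroupOfEquivOfLe
      (inf_le_left : Pc 3 t ⊓ oc (centralizer ({r} : Set G)) ≤ Pc 3 t)).toEquiv] at h5
    rw [mul_comm]
    exact h5
  rw [hq, one_mul] at h6
  rcases d.relIndex_P with h7 | h7
  · exfalso
    rw [h7] at h6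
    exact c.P_ne (eq_bot_of_card_eq _ h6.symm)
  · rw [← h6, h7]

/-- the numbers for `p = 3` -/
theorem exists_nu {S : Sylow 2 G} {T : Subgroup G} {u w : G}
    (c : WCtx t S 3 T u w) (hno : NoGood t) :
    ∃ ν : ℕ, (centralizer ({u} : Set G)).relIndex (Kc t) = ν ∧
      (centralizer ({w} : Set G)).relIndex (Kc t) = 3 * ν ∧
      (∀ r : ℕ, r.Prime → r ∣ ν → ¬ r ∣ (centralizer ({t} : Set G)).index) ∧ ν ≠ 1 := by
  classical
  set F := fittingOf (Kc t) with hF
  have hFK : F ≤ Kc t := FitAux.fittingOf_le _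
  have hFo : Odd (Nat.card F) := odd_of_le hFK (odd_Kc t)
  have hFn : centralizer ({t} : Set G) ≤ normalizer (F : Set G) :=
    (normalizer_Kc_le t).trans (NilpotentHall.normalizer_le_normalizer_fittingOf _)
  have huC : u ∈ centralizer ({t} : Set G) := c.sub c.mem
  have hwC : w ∈ centralizer ({t} : Set G) := c.sub c.memw
  -- the other primes are not special
  have hns : ∀ r : ℕ, r.Prime → r ≠ 3 → r ∣ Nat.card F → NonSpecial t r := by
    intro r hr hr3 hd
    rcases nonSpecial_or c.z S c.sub hr hd with h | ⟨T', v, c'⟩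
    · exact h
    · exfalso
      rcases c'.cases with h1 | ⟨w', hw'S, hw', hwv⟩
      · -- `S` is abelian
        have h2 := c'.mem_of_inv c.hu (h1 c.mem)
        have h3 := c'.mem_of_inv c.hw (h1 c.memw)
        have htv := c'.comm
        have h4 : w * u = u * w := by
          have e1 : t * (t * v) = (t * v) * t := by
            calc t * (t * v) = t * (v * t) := by rw [htv]
              _ = _ := by group
          have e2 : v * (t * v) = (t * v) * v := by
            calc v * (t * v) = (v * t) * v := by group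
              _ = _ := by rw [htv]
          rcases h2 with rfl | rfl | rfl <;> rcases h3 with rfl | rfl | rfl <;>
            (first | rfl | exact htv | exact htv.symm | exact e1 | exact e1.symm | exact e2 | exact e2.symm)
        have h5 := c.wu
        rw [h4] at h5
        have h6 : u = t * u := by rw [← h5]; group
        exact c.tinv.2 (mul_eq_right.1 h6.symm)
      · exact false_of_ne_three ⟨c', hw', hw'S, hwv⟩ hno hr3
  -- elements of prime order in `F`
  have hprime : ∀ (r : ℕ), r.Prime → ∀ y ∈ F, orderOf y = r → y ∈ Pc r t := by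
    intro r hr y hy hyo
    exact (FitCores.le_core_of_le_fittingOf hr ((zpowers_le).2 hy)
      (FitCores.isPGroup_zpowers hr hyo)) (mem_zpowers y)
  have hinvw : ∀ (r : ℕ), r.Prime → ∀ y ∈ F, orderOf y = r → w * y * w⁻¹ = y⁻¹ := by
    intro r hr y hy hyo
    have hyP := hprime r hr y hy hyo
    by_cases h3 : r = 3
    · subst h3; exact c.inverts hno y hyP
    · refine inverts_of_nonSpecial c.z hno (hns r hr h3 ?_) c.hw c.w_ne c.tw y hyP
      rw [← hyo, ← Subgroup.orderOf_mk y hy]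
      exact orderOf_dvd_natCard _
  have hinvu : ∀ (r : ℕ), r.Prime → r ≠ 3 → ∀ y ∈ F, orderOf y = r → u * y * u⁻¹ = y⁻¹ := by
    intro r hr h3 y hy hyo
    have hyP := hprime r hr y hy hyo
    refine inverts_of_nonSpecial c.z hno (hns r hr h3 ?_) c.hu c.ne c.comm y hyP
    rw [← hyo, ← Subgroup.orderOf_mk y hy]
    exact orderOf_dvd_natCard _
  -- an element commuting with and inverted by an involution
  have hsq : ∀ v y : G, y ∈ F → y ∈ centralizer ({v} : Set G) → v * y * v⁻¹ = y⁻¹ → y = 1 := by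
    intro v y hy hyv hi
    rw [mem_centralizer_singleton_iff] at hyv
    have h1 : y = y⁻¹ := by
      rw [← hi, ← hyv]; group
    have h2 : y * y = 1 := by
      nth_rewrite 2 [h1]
      exact mul_inv_cancel y
    exact eq_one_of_sq hFo hy h2
  have hFw : F ⊓ centralizer ({w} : Set G) = ⊥ := by
    by_contra hne
    have hcard : Nat.card (F ⊓ centralizer ({w} : Set G) : Subgroup G) ≠ 1 := fun h =>
      hne (eq_bot_of_card_eq _ h)
    obtain ⟨r, hr, hrd⟩ := Nat.exists_prime_and_dvd hcard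
    obtain ⟨y, hy, hyo⟩ := FitCores.exists_mem_orderOf hr hrd
    have h1 := hsq w y hy.1 hy.2 (hinvw r hr y hy.1 hyo)
    rw [h1, orderOf_one] at hyo
    exact hr.one_lt.ne hyo
  have hwF : ∀ x ∈ F, w * x * w⁻¹ = x⁻¹ := fun x hx =>
    inverts_of_fixedPointFree c.hw (hFn hwC) hFw hx
  have hFab : ∀ x ∈ F, ∀ y ∈ F, x * y = y * x := by
    intro x hx y hy
    have h1 := hwF _ (mul_mem hx hy)
    have h2 : w * (x * y) * w⁻¹ = x⁻¹ * y⁻¹ := by
      calc w * (x * y) * w⁻¹ = (w * x * w⁻¹) * (w * y * w⁻¹) := by group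
        _ = _ := by rw [hwF x hx, hwF y hy]
    rw [h2] at h1
    calc x * y = ((x * y)⁻¹)⁻¹ := by group
      _ = (x⁻¹ * y⁻¹)⁻¹ := by rw [h1]
      _ = y * x := by group
  -- `F ∩ C(u) = P`
  have hFu : F ⊓ centralizer ({u} : Set G) = Pc 3 t := by
    apply le_antisymm
    · apply FitCores.le_core_of_le_fittingOf Nat.prime_three inf_le_left
      haveI : Fact (Nat.Prime 3) := ⟨Nat.prime_three⟩
      rw [IsPGroup.iff_card]
      have h1 : ∀ r : ℕ, r.Prime → r ∣ Nat.card (F ⊓ centralizer ({u} : Set G) : Subgroup G) →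
          r = 3 := by
        intro r hr hrd
        by_contra h3
        obtain ⟨y, hy, hyo⟩ := FitCores.exists_mem_orderOf hr hrd
        have h1 := hsq u y hy.1 hy.2 (hinvu r hr h3 y hy.1 hyo)
        rw [h1, orderOf_one] at hyo
        exact hr.one_lt.ne hyo
      exact ⟨_, Nat.eq_prime_pow_of_unique_prime_dvd Nat.card_pos.ne' (fun {r} hr hd => h1 r hr hd)⟩
    · exact le_inf (Pc_le_fitting Nat.prime_three t) (c.P_le.trans c.cent)
  -- the subgroup inverted by `u`
  let N : Subgroup G :=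
    { carrier := {x | x ∈ F ∧ u * x * u⁻¹ = x⁻¹}
      one_mem' := ⟨one_mem _, by group⟩
      mul_mem' := by
        rintro x y ⟨hx, hx'⟩ ⟨hy, hy'⟩
        refine ⟨mul_mem hx hy, ?_⟩
        calc u * (x * y) * u⁻¹ = (u * x * u⁻¹) * (u * y * u⁻¹) := by group
          _ = (y * x)⁻¹ := by rw [hx', hy']; group
          _ = (x * y)⁻¹ := by rw [hFab x hx y hy]
      inv_mem' := by
        rintro x ⟨hx, hx'⟩
        refine ⟨inv_mem hx, ?_⟩
        calc u * x⁻¹ * u⁻¹ = (u * x * u⁻¹)⁻¹ := by group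
          _ = x⁻¹⁻¹ := by rw [hx'] }
  have hNmem : ∀ x, x ∈ N ↔ x ∈ F ∧ u * x * u⁻¹ = x⁻¹ := fun x => Iff.rfl
  have hcomm : ∀ v ∈ (S : Subgroup G), IsInv v → v ≠ t → ∀ x ∈ Kc t, v * x * v⁻¹ = x⁻¹ →
      x ∈ F := by
    intro v hvS hv hvt x hx hi
    have h1 := comm_mem c.z hno S c.sub hvS hv hvt hx
    have h2 : x * v * x⁻¹ * v⁻¹ = x * x := by
      calc x * v * x⁻¹ * v⁻¹ = x * (v * x * v⁻¹)⁻¹ := by group
        _ = x * x := by rw [hi, inv_inv]
    rw [h2] at h1
    exact mem_of_sq_mem (odd_orderOf_of_mem (odd_Kc t) hx) h1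
  have hKn : ∀ v ∈ centralizer ({t} : Set G), v ∈ normalizer (Kc t : Set G) := fun v hv =>
    normalizer_Kc_le t hv
  have e1 := (card_eq_inverted (X := Kc t) (N := N) (odd_Kc t) c.hu (hKn u huC) (fun x =>
    ⟨fun h => ⟨hFK h.1, h.2⟩, fun h => ⟨hcomm u c.mem c.hu c.ne x h.1 h.2, h.2⟩⟩)).1
  have e2 := (card_eq_inverted (X := Kc t) (N := F) (odd_Kc t) c.hw (hKn w hwC) (fun x =>
    ⟨fun h => ⟨hFK h, hwF x h⟩, fun h => hcomm w c.memw c.hw c.w_ne x h.1 h.2⟩)).1
  have e3 := (card_eq_inverted (X := F) (N := N) hFo c.hu (hFn huC) hNmem).2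
  rw [hFu, card_P_three c hno] at e3
  refine ⟨Nat.card N, e1, by rw [e2, e3, mul_comm], ?_, ?_⟩
  · intro r hr hrd
    obtain ⟨y, hy, hyo⟩ := FitCores.exists_mem_orderOf hr hrd
    by_cases h3 : r = 3
    · exfalso
      subst h3
      have h4 : y ∈ Pc 3 t := hprime 3 hr y hy.1 hyo
      have h5 := hsq u y hy.1 (c.cent (c.P_le h4)) hy.2
      rw [h5, orderOf_one] at hyo
      exact hr.one_lt.ne hyo
    · have hdF : r ∣ Nat.card F := by
        rw [← hyo, ← Subgroup.orderOf_mk y hy.1]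
        exact orderOf_dvd_natCard _
      exact ((hns r hr h3 hdF).ctrl c.z).not_dvd
  · intro h1
    rw [h1] at e1
    have h2 := c.z.core_eq_bot c.hu c.ne (relIndex_eq_one.1 e1)
    apply c.P_ne
    rw [eq_bot_iff, ← h2]
    exact Pc_le 3 t

end Cfsg.Agent.Classification.TypeZ.NoGoodCount
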