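import Mathlib
import Cfsg.Agent.Classification.TypeZ.NoGoodW
import Cfsg.Agent.Classification.TypeZ.Bridge
import Cfsg.Agent.Classification.TypeZ.EndII
import Cfsg.Agent.Classification.GWSolvable.Four

/-!
# Type Z of the Gorenstein–Walter theorem, no good pairs: configuration (L1*)

`exists_lconf_of`: if no prime is special, except possibly those `p` for which `S` centralises
`O_p(K_t)`, then `⁅K_t, u⁆` gives the configuration (L1*).
-/

set_option autoImplicit false

namespace Cfsg.Agent.Classification.TypeZ.NoGoodEnd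

open Subgroup Cfsg
open Cfsg.Agent.Classification.TypeB.Basic Cfsg.Agent.Classification.TypeB.Core
open Cfsg.Agent.OddOrderLocal Cfsg.Agent.OddOrderLocal.PiCoreOf
open Cfsg.Agent.Classification.DihedralCentral Cfsg.Agent.Classification.TransferSign
open Cfsg.Agent.Classification.DihReduction Cfsg.Agent.Classification.DihStructure
open Cfsg.Agent.Classification.DihMinimal Cfsg.Agent.Classification.TypeZ.Bender
open Cfsg.Agent.Classification.TypeZ.Fusion Cfsg.Agent.Classification.TypeZ.NoGoodBase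
open Cfsg.Agent.Classification.TypeZ.NoGoodW

universe u

variable {G : Type u} [Group G] [Finite G] {t : G}

/-- If every involution of `S` acts on `K` trivially or as `u`, so does every element of `S`. -/
theorem act_of_involutions {G : Type*} [Group G] (hG : SubDihedral G) {S K : Subgroup G}
    (hS : IsPGroup 2 S) {t u : G} (ht : IsInv t) (hu : IsInv u) (hne : u ≠ t) (htS : t ∈ S)
    (huS : u ∈ S) (hKn : ∀ s ∈ S, ∀ k ∈ K, s * k * s⁻¹ ∈ K) [Finite G]
    (hact : ∀ v ∈ S, IsInv v → (∀ k ∈ K, v * k * v⁻¹ = k) ∨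
      (∀ k ∈ K, v * k * v⁻¹ = u * k * u⁻¹)) {s : G} (hs : s ∈ S) :
    (∀ k ∈ K, s * k * s⁻¹ = k) ∨ (∀ k ∈ K, s * k * s⁻¹ = u * k * u⁻¹) := by
  obtain ⟨R, hR, hRS⟩ := hG S hS
  -- an element of `S` outside `R`
  obtain ⟨v, hv, hvR⟩ : ∃ v ∈ S, v ∉ R := by
    by_contra hcon
    push Not at hcon
    exact hne (EndII.isCyclic_unique hR (hcon u huS) (hcon t htS) hu ht)
  have hout : ∀ x ∈ S, x ∉ R → (∀ k ∈ K, x * k * x⁻¹ = k) ∨
      (∀ k ∈ K, x * k * x⁻¹ = u * k * u⁻¹) := fun x hx hxR =>
    hact x hx ⟨(hRS x hx hxR).1, fun h => hxR (h ▸ one_mem _)⟩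
  have huu : ∀ k, u * (u * k * u⁻¹) * u⁻¹ = k := by
    intro k
    rw [hu.inv_eq]
    calc u * (u * k * u) * u = (u * u) * k * (u * u) := by group
      _ = k := by rw [hu.1]; group
  by_cases hsR : s ∈ R
  · have h1 : s * v ∉ R := fun h => hvR ((mul_mem_cancel_left hsR).1 h)
    have h2 : s * v * v = s := by rw [mul_assoc, (hRS v hv hvR).1, mul_one]
    have key : ∀ k, s * k * s⁻¹ = (s * v) * (v * k * v⁻¹) * (s * v)⁻¹ := by
      intro k
      have h3 : (s * v) * (v * k * v⁻¹) * (s * v)⁻¹ = (s * v * v) * k * (s * v * v)⁻¹ := by group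
      rw [h3, h2]
    rcases hout v hv hvR with h3 | h3 <;> rcases hout (s * v) (mul_mem hs hv) h1 with h4 | h4
    · left
      intro k hk
      rw [key, h3 k hk, h4 k hk]
    · right
      intro k hk
      rw [key, h3 k hk, h4 k hk]
    · right
      intro k hk
      rw [key, h4 _ (hKn v hv k hk), h3 k hk]
    · left
      intro k hk
      rw [key, h4 _ (hKn v hv k hk), h3 k hk, huu]
  · exact hout s hs hsR

theorem exists_lconf_of (h : ZHyp G t) (hno : NoGood t) (S : Sylow 2 G)
    (hS : (S : Subgroup G) ≤ centralizer ({t} : Set G))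
    (hd : ∀ p : ℕ, p.Prime → p ∣ Nat.card (fittingOf (Kc t)) →
      NonSpecial t p ∨ (S : Subgroup G) ≤ centralizer (Pc p t : Set G)) :
    ∃ F₀, LConf t S F₀ := by
  have : Fact (Nat.Prime 2) := ⟨Nat.prime_two⟩
  have htS := EndII.mem_of_le_centralizer h hS
  obtain ⟨u, huS, hu, hut⟩ := EndII.exists_inv h S
  have hsol : Group.IsSolvable (Kc t) := h.ft _ (odd_Kc t)
  have hcomm : ∀ v ∈ (S : Subgroup G), t * v = v * t := fun v hv =>
    (mem_centralizer_singleton_iff.1 (hS hv)).symm
  have hSn : (S : Subgroup G) ≤ normalizer (Kc t : Set G) := hS.trans (normalizer_Kc_le t)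
  -- the involutions `≠ t` act on `O_p(K)` in the same way
  have hpc : ∀ p : ℕ, p.Prime → ¬ p ∣ Nat.card (fittingOf (Kc t)) → Pc p t = ⊥ := by
    intro p hp hnd
    by_contra h2
    exact hnd (FitCores.dvd_card_of_ne_bot hp (isPGroup_Pc hp t) h2 (Pc_le_fitting hp t))
  have hF : ∀ v ∈ (S : Subgroup G), IsInv v → v ≠ t →
      zpowers (u⁻¹ * v) ≤ centralizer (fittingOf (Kc t) : Set G) := by
    intro v hv hvi hvt
    rw [Subgroup.le_centralizer_iff, FitCores.fittingOf_le_iff]
    intro p hp x hx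
    rw [centralizer_zpowers, mem_centralizer_singleton_iff]
    have hx' : x ∈ Pc p t := hx
    have key : v * x * v⁻¹ = u * x * u⁻¹ := by
      by_cases hdv : p ∣ Nat.card (fittingOf (Kc t))
      · rcases hd p hp hdv with h1 | h1
        · rw [inverts_of_nonSpecial h hno h1 hvi hvt (hcomm v hv) x hx',
            inverts_of_nonSpecial h hno h1 hu hut (hcomm u huS) x hx']
        · have h2 := mem_centralizer_iff.1 (h1 hv) x hx'
          have h3 := mem_centralizer_iff.1 (h1 huS) x hx'
          rw [← h2, ← h3]; group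
      · rw [hpc p hp hdv, mem_bot] at hx'
        rw [hx']; group
    calc x * (u⁻¹ * v) = u⁻¹ * (u * x * u⁻¹) * v := by group
      _ = u⁻¹ * (v * x * v⁻¹) * v := by rw [key]
      _ = u⁻¹ * v * x := by group
  -- hence on `K`
  have hne : ∀ v ∈ (S : Subgroup G), IsInv v → v ≠ t → ∀ k ∈ Kc t,
      v * k * v⁻¹ = u * k * u⁻¹ := by
    intro v hv hvi hvt k hk
    have hmem : u⁻¹ * v ∈ (S : Subgroup G) := mul_mem (inv_mem huS) hv
    have h1 : zpowers (u⁻¹ * v) ≤ centralizer (Kc t : Set G) := by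
      apply FitCores.le_centralizer_of_centralizes_fitting _ hsol _ (hF v hv hvi hvt)
      · rw [zpowers_le]; exact hSn hmem
      · have h2 : IsPGroup 2 (zpowers (u⁻¹ * v)) := S.2.to_le (by rwa [zpowers_le])
        obtain ⟨m, hm⟩ := IsPGroup.iff_card.1 h2
        rw [hm]
        exact Nat.Coprime.pow_left _ (Nat.coprime_two_left.2 (odd_Kc t))
    have h2 := mem_centralizer_iff.1 (h1 (mem_zpowers _)) k hk
    calc v * k * v⁻¹ = u * ((u⁻¹ * v) * k) * v⁻¹ := by group
      _ = u * (k * (u⁻¹ * v)) * v⁻¹ := by rw [h2]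
      _ = u * k * u⁻¹ := by group
  have hact : ∀ s ∈ (S : Subgroup G), (∀ k ∈ Kc t, s * k * s⁻¹ = k) ∨
      (∀ k ∈ Kc t, s * k * s⁻¹ = u * k * u⁻¹) := by
    intro s hs
    refine act_of_involutions h.sub S.2 h.inv hu hut htS huS
      (fun s hs k hk => conj_mem_of_mem_normalizer (hSn hs) hk) ?_ hs
    intro v hv hvi
    by_cases hvt : v = t
    · left
      intro k hk
      rw [hvt, ← mem_centralizer_singleton_iff.1 (Kc_le t hk)]; group
    · exact Or.inr (hne v hv hvi hvt)
  -- `u` inverts `[K, u]`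
  have hun : u ∈ normalizer (Kc t : Set G) := hSn huS
  have halt : ∀ q : ℕ, q.Prime → piCoreOf {q} (Kc t) ≤ centralizer ({u} : Set G) ∨
      piCoreOf {q} (Kc t) ⊓ centralizer ({u} : Set G) = ⊥ := by
    intro q hq
    by_cases hdv : q ∣ Nat.card (fittingOf (Kc t))
    · rcases hd q hq hdv with h1 | h1
      · right
        rw [eq_bot_iff]
        rintro x ⟨hx, hxu⟩
        have h2 := inverts_of_nonSpecial h hno h1 hu hut (hcomm u huS) x hx
        have h3 : x * u = u * x := mem_centralizer_singleton_iff.1 hxu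
        rw [← h3, mul_inv_cancel_right] at h2
        rw [mem_bot]
        exact eq_one_of_sq (odd_Kc t) (piCoreOf_le _ _ hx)
          (by nth_rewrite 1 [h2]; rw [inv_mul_cancel])
      · left
        intro x hx
        rw [mem_centralizer_singleton_iff]
        exact mem_centralizer_iff.1 (h1 huS) x hx
    · left
      have h1 : piCoreOf {q} (Kc t) = ⊥ := hpc q hq hdv
      rw [h1]
      exact bot_le
  have hinf : ⁅Kc t, zpowers u⁆ ⊓ centralizer ({u} : Set G) = ⊥ :=
    GWSolvable.Local.comm_inf_centralizer (odd_Kc t) hsol hu hun halt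
  refine ⟨_, Bridge.lconf_of (hcomm u huS) hu htS ⟨S, rfl⟩ hS
    (GWSolvable.Four.le_sup h.sub h.inv S hS) hact hne ?_ ?_⟩
  · intro r hr
    exact inverts_of_fixedPointFree hu
      (Lib.CoprimeCommutator.right_le_normalizer_commutator _ _ (mem_zpowers u)) hinf hr
  · intro r hr hdvd
    have h1 : r ∣ Nat.card (fittingOf (Kc t)) :=
      hdvd.trans (card_dvd_of_le (GWSolvable.Local.comm_le_fitting (odd_Kc t) hsol hu hun halt))
    rcases hd r hr h1 with h2 | h2
    · exact NonSpecial.ctrl h h2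
    · exfalso
      refine GWSolvable.Local.not_dvd_comm (odd_Kc t) hsol hu hun halt hr ?_ hdvd
      intro x hx
      rw [mem_centralizer_singleton_iff]
      exact mem_centralizer_iff.1 (h2 huS) x hx

end Cfsg.Agent.Classification.TypeZ.NoGoodEnd
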