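import Mathlib
import Cfsg.Agent.Classification.BGDegrees
import Cfsg.Agent.Classification.BGStructure
import Cfsg.Agent.Classification.TypeZ.Numbers
import Cfsg.Agent.Classification.TypeZ.Arith8b

/-!
# Type Z, II4: the numerical end

`|S| = 8`, `u`, `w` noncentral involutions of `S` of different parity, `|K : C_K(u)| = ν`,
`|K : C_K(w)| = 3 ν`, and `ν` coprime to `|G : C(t)|`. Then `ν = 1`.
-/

set_option autoImplicit false

namespace Cfsg.Agent.Classification.TypeZ.NoGoodNum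

open Subgroup Cfsg DihedralGroup
open Cfsg.Agent.Classification.TypeB.Basic Cfsg.Agent.Classification.TypeB.Core
open Cfsg.Agent.Classification.TypeZ.Bender Cfsg.Agent.Classification.TypeZ.Count
open Cfsg.Agent.Classification.BGDefs Cfsg.Agent.Classification.BGBasic
  Cfsg.Agent.Classification.BGOrder Cfsg.Agent.Classification.BGOvergroup
  Cfsg.Agent.Classification.DihTypeACount Cfsg.Agent.Classification.DihTypeACount3
  Cfsg.Agent.Classification.TransferSign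
  Cfsg.Agent.Classification.DihedralCentral Cfsg.Agent.Classification.DihReduction

universe u

/-- The arithmetic. -/
theorem nu_eq_one {N f g₂ g₃ : ℤ} {ν : ℕ} (hν : Odd ν) (hN0 : 0 < N) (hN : Odd N) (hf1 : f ≠ 1)
    (hf : (2 * 4 : ℤ) ∣ f - 1)
    (hord : N * (f - 1) ^ 2 = 2 * (4 * (2 * (ν : ℤ))) ^ 2 * (f * (f + 1)))
    (hratio : (4 * (ν : ℤ)) ^ 2 * (g₂ * g₃) * (f - 1) ^ 2 =
      (4 * (2 * (ν : ℤ))) ^ 2 * f * (g₂ - g₃) ^ 2) (hg : g₂ + g₃ = 1 + f)
    (hr : ∀ r : ℕ, r.Prime → r ∣ ν → ¬ (r : ℤ) ∣ N) : ν = 1 := by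
  have hν0 : (ν : ℤ) ≠ 0 := by
    have : ν ≠ 0 := by rintro rfl; exact absurd hν (by decide)
    exact_mod_cast this
  have hνpos : (0 : ℤ) < ν := by positivity
  obtain ⟨m, l, hm, hl, hfm, hκ, hNl⟩ := Numbers.arith (N := N) (κ := 2 * (ν : ℤ)) (f := f)
    (n := 4) hN0 (by positivity) (by norm_num) hf1 hf hord
  -- `l = 1`
  obtain ⟨l', rfl⟩ : ∃ l' : ℕ, l = l' := ⟨l.toNat, (Int.toNat_of_nonneg hl.le).symm⟩
  have hlN : (l' : ℤ) ∣ N := by
    rw [hNl, sq, mul_assoc]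
    exact Dvd.intro _ rfl
  have hl1 : l' = 1 := by
    by_contra hne
    obtain ⟨r, hrp, hrl⟩ := Nat.exists_prime_and_dvd hne
    have h1 : (r : ℤ) ∣ N := (by exact_mod_cast hrl : (r : ℤ) ∣ (l' : ℤ)).trans hlN
    have h2 : (r : ℤ) ∣ 2 * (ν : ℤ) := by
      rw [hκ]
      exact Dvd.dvd.mul_right (by exact_mod_cast hrl) _
    have h3 : r ∣ 2 * ν := by exact_mod_cast h2
    rcases (Nat.Prime.dvd_mul hrp).1 h3 with h4 | h4
    · have h5 : r = 2 := (Nat.prime_dvd_prime_iff_eq hrp Nat.prime_two).1 h4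
      rw [h5] at h1
      exact (Int.not_even_iff_odd.2 hN) (even_iff_two_dvd.2 (by exact_mod_cast h1))
    · exact hr r hrp h4 h1
  rw [hl1] at hκ
  -- the square
  have hd0 : g₂ - g₃ ≠ 0 := by
    intro h0
    rw [h0] at hratio
    have h1 : (4 * (ν : ℤ)) ^ 2 * (g₂ * g₃) * (f - 1) ^ 2 = 0 := by rw [hratio]; ring
    have h2 : (f - 1) ^ 2 ≠ 0 := pow_ne_zero 2 (sub_ne_zero.2 hf1)
    have h3 : (4 * (ν : ℤ)) ^ 2 ≠ 0 := pow_ne_zero 2 (mul_ne_zero (by norm_num) hν0)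
    have h4 : g₂ * g₃ = 0 := by
      rcases mul_eq_zero.1 h1 with h | h
      · rcases mul_eq_zero.1 h with h | h
        · exact absurd h h3
        · exact h
      · exact absurd h h2
    have h5 : g₂ = g₃ := sub_eq_zero.1 h0
    rw [← h5] at h4 hg
    have h6 : g₂ = 0 := mul_self_eq_zero.1 h4
    rw [h6] at hg
    omega
  have h4 : g₂ * g₃ * (f - 1) ^ 2 = 4 * f * (g₂ - g₃) ^ 2 := by
    apply mul_left_cancel₀ (pow_ne_zero 2 (mul_ne_zero (by norm_num : (4 : ℤ) ≠ 0) hν0))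
    linear_combination hratio
  have h5 : (4 * (g₂ - g₃)) ^ 2 * (4 * m ^ 2 + 8 * m + 1) = ((1 + f) * (f - 1)) ^ 2 := by
    have h6 : 16 * (4 * m ^ 2 + 8 * m + 1) = (f - 1) ^ 2 + 16 * f := by rw [hfm]; ring
    have h7 : (1 + f) ^ 2 = (g₂ - g₃) ^ 2 + 4 * (g₂ * g₃) := by rw [← hg]; ring
    calc (4 * (g₂ - g₃)) ^ 2 * (4 * m ^ 2 + 8 * m + 1)
        = (g₂ - g₃) ^ 2 * (16 * (4 * m ^ 2 + 8 * m + 1)) := by ring
      _ = (g₂ - g₃) ^ 2 * (f - 1) ^ 2 + 4 * (4 * f * (g₂ - g₃) ^ 2) := by rw [h6]; ring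
      _ = ((g₂ - g₃) ^ 2 + 4 * (g₂ * g₃)) * (f - 1) ^ 2 := by rw [← h4]; ring
      _ = ((1 + f) * (f - 1)) ^ 2 := by rw [← h7]; ring
  obtain ⟨w, hw⟩ := Arith8b.exists_sq (mul_ne_zero (by norm_num) hd0) h5
  have h6 := Arith8b.sp hm ⟨w, by rw [hw]; ring⟩
  rw [h6] at hκ
  norm_num at hκ
  exact_mod_cast hκ

theorem zero_or_one : ∀ p : ZMod 2, p = 0 ∨ p = 1 := by decide

theorem one_add_one_eq : (1 : ZMod 2) + 1 = 0 := by decide

/-- **II4, the numerical end.** -/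
theorem num_end {G : Type u} [Group G] [Finite G] {t : G} (h : ZHyp G t) (S : Sylow 2 G)
    (hS : (S : Subgroup G) ≤ centralizer ({t} : Set G)) {u w : G} (hu : IsInv u) (hw : IsInv w)
    (huS : u ∈ (S : Subgroup G)) (hwS : w ∈ (S : Subgroup G)) (hune : u ≠ t) (hwne : w ≠ t)
    (hwu : w * u * w⁻¹ = t * u) (h8 : Nat.card (S : Subgroup G) = 8) {ν : ℕ}
    (hν : (centralizer ({u} : Set G)).relIndex (Kc t) = ν)
    (h3ν : (centralizer ({w} : Set G)).relIndex (Kc t) = 3 * ν)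
    (hr : ∀ r : ℕ, r.Prime → r ∣ ν → ¬ r ∣ (centralizer ({t} : Set G)).index) : ν = 1 := by
  have : Fact (Nat.Prime 2) := ⟨Nat.prime_two⟩
  let _ : Fintype G := Fintype.ofFinite G
  have hnc : ¬ IsCyclic (S : Subgroup G) := by
    intro hc
    have h1 : w * u = u * w := by
      let _ := IsCyclic.commGroup (α := (S : Subgroup G))
      have h2 : (⟨w, hwS⟩ : (S : Subgroup G)) * ⟨u, huS⟩ = ⟨u, huS⟩ * ⟨w, hwS⟩ := mul_comm _ _
      exact congrArg Subtype.val h2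
    have h2 : w * u * w⁻¹ = u := by rw [h1, mul_inv_cancel_right]
    rw [h2] at hwu
    exact h.inv.2 (mul_right_cancel (b := u) (by rw [← hwu, one_mul]))
  obtain ⟨n, -, hn⟩ := (isCyclic_or_dihedral h.sub (S : Subgroup G) S.2).resolve_left hnc
  have h8n : n = 4 := by
    have h1 := BGSylow.card_of_equiv hn
    omega
  subst h8n
  obtain ⟨π, hB⟩ := BGStructure.exists_hyp S 2 (by norm_num) hn
    (fun x y hx hy => h.one x y ⟨mul_self_of_orderOf hx, ne_one_of_orderOf hx⟩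
      ⟨mul_self_of_orderOf hy, ne_one_of_orderOf hy⟩) t h.inv.orderOf_eq
  have hodd : Odd (centralizer ({t} : Set G)).index := BGSylow.odd_index hB S h8
  have hν1 : Odd ν := by rw [← hν]; exact Numbers.odd_relIndex _
  have hν0 : 0 < ν := hν1.pos
  obtain ⟨X₁, X₂, X₃, T, f, g₂, g₃, HC⟩ := BGDegrees.exists_chars hB le_rfl
  -- the parities
  have hpar : ∃ p : ZMod 2, IsPar (two_dvd hB) π p u ∧ IsPar (two_dvd hB) π (p + 1) w := by
    obtain ⟨p, hp⟩ : ∃ p : ZMod 2, IsPar (two_dvd hB) π p u := by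
      rcases par_cases hB 0 (hS huS) hu.orderOf_eq with h1 | h1 | h1
      · exact absurd h1 hune
      · exact ⟨_, h1⟩
      · exact ⟨_, h1⟩
    refine ⟨p, hp, ?_⟩
    rcases par_cases hB p (hS hwS) hw.orderOf_eq with h1 | h1 | h1
    · exact absurd h1 hwne
    · exfalso
      have h2 := Numbers.two_mul_kcount h.sub hB hp
      have h3 := Numbers.two_mul_kcount h.sub hB h1
      rw [h2, hν, h3ν] at h3
      omega
    · exact h1
  obtain ⟨p, hpu, hpw⟩ := hpar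
  have e1 := Numbers.two_mul_kcount h.sub hB hpu
  have e2 := Numbers.two_mul_kcount h.sub hB hpw
  rw [hν] at e1
  rw [h3ν] at e2
  have hk : (kcount (two_dvd hB) π 0 = 2 * ν ∧ kcount (two_dvd hB) π 1 = 6 * ν) ∨
      (kcount (two_dvd hB) π 0 = 6 * ν ∧ kcount (two_dvd hB) π 1 = 2 * ν) := by
    rcases zero_or_one p with rfl | rfl
    · left
      rw [zero_add] at e2
      exact ⟨by omega, by omega⟩
    · right
      rw [one_add_one_eq] at e2
      exact ⟨by omega, by omega⟩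
  refine nu_eq_one (N := ((centralizer ({t} : Set G)).index : ℤ)) (f := f) (g₂ := g₂) (g₃ := g₃)
    hν1 ?_ (by exact_mod_cast hodd) HC.f_ne HC.f_dvd ?_ ?_ HC.g_add ?_
  · exact_mod_cast Nat.pos_of_ne_zero index_ne_zero_of_finite
  · have h1 := HC.order
    rcases hk with ⟨k0, k1⟩ | ⟨k0, k1⟩ <;> rw [k0, k1] at h1 <;> push_cast at h1 <;>
      linear_combination h1
  · have h1 := HC.ratio
    rcases hk with ⟨k0, k1⟩ | ⟨k0, k1⟩ <;> rw [k0, k1] at h1 <;> push_cast at h1 <;>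
      linear_combination h1
  · intro r hrp hrν hd
    exact hr r hrp hrν (by exact_mod_cast hd)

end Cfsg.Agent.Classification.TypeZ.NoGoodNum
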