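import Mathlib
import Cfsg.Agent.Classification.TypeZ.Special

/-!
# Configuration (L1*): fusion and index

* `LConf.closed`: `F₀` is strongly closed in `K_t`;
* `LConf.coprime_index`: `|G : C(t)|` is prime to `|F₀|`.
-/

set_option autoImplicit false

namespace Cfsg.Agent.Classification.TypeZ.Bender

open Subgroup Cfsg
open Cfsg.Agent.Classification.TypeB.Basic Cfsg.Agent.Classification.TypeB.Core

universe u

/-- An element belongs to a subgroup as soon as its powers of prime power order do. -/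
theorem mem_of_parts {G : Type*} [Group G] [Finite G] {F : Subgroup G} (n : ℕ) :
    ∀ y : G, orderOf y = n →
      (∀ p : ℕ, p.Prime → ∀ k : ℕ, (∃ j, orderOf (y ^ k) = p ^ j) → y ^ k ∈ F) → y ∈ F := by
  induction n using Nat.strong_induction_on with
  | _ n ih =>
    intro y hy h
    by_cases h1 : n = 1
    · rw [h1, orderOf_eq_one_iff] at hy
      rw [hy]; exact one_mem F
    have hn0 : n ≠ 0 := by rw [← hy]; exact (orderOf_pos y).ne'
    set p := n.minFac with hp
    have hpp : p.Prime := Nat.minFac_prime h1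
    obtain ⟨a, m, hm, hnm⟩ := Nat.exists_eq_pow_mul_and_not_dvd hn0 p hpp.ne_one
    have hm0 : m ≠ 0 := by rintro rfl; rw [mul_zero] at hnm; exact hn0 hnm
    have ha : a ≠ 0 := by
      rintro rfl
      rw [pow_zero, one_mul] at hnm
      exact hm (hnm ▸ Nat.minFac_dvd n)
    have h2 : orderOf (y ^ m) = p ^ a := by
      rw [orderOf_pow, hy, hnm, Nat.gcd_mul_left_left, Nat.mul_div_cancel _ (Nat.pos_of_ne_zero hm0)]
    have h3 : orderOf (y ^ p ^ a) = m := by
      rw [orderOf_pow, hy, hnm, Nat.gcd_mul_right_left,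
        Nat.mul_div_cancel_left _ (pow_pos hpp.pos a)]
    have h4 : y ^ m ∈ F := h p hpp m ⟨a, h2⟩
    have h5 : y ^ p ^ a ∈ F := by
      apply ih m _ _ h3
      · intro q hq k hk
        rw [← pow_mul] at hk ⊢
        exact h q hq _ hk
      · rw [hnm]
        have : 1 < p ^ a := Nat.one_lt_pow ha hpp.one_lt
        nlinarith [Nat.pos_of_ne_zero hm0]
    have hcop : IsCoprime ((p ^ a : ℕ) : ℤ) (m : ℤ) :=
      Nat.isCoprime_iff_coprime.2 (Nat.Coprime.pow_left a ((Nat.Prime.coprime_iff_not_dvd hpp).2 hm))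
    obtain ⟨u, v, huv⟩ := hcop
    have h6 : y = (y ^ p ^ a) ^ u * (y ^ m) ^ v := by
      rw [← zpow_natCast y (p ^ a), ← zpow_natCast y m, ← zpow_mul, ← zpow_mul, ← zpow_add,
        mul_comm ((p ^ a : ℕ) : ℤ) u, mul_comm (m : ℤ) v, huv, zpow_one]
    rw [h6]
    exact mul_mem (zpow_mem h5 _) (zpow_mem h4 _)

namespace LConf

variable {G : Type u} [Group G] [Finite G] {t : G} {S F₀ : Subgroup G}

/-- `F₀` is strongly closed in `K_t` -/
theorem closed (c : LConf t S F₀) {x : G} (hx : x ∈ F₀) {g : G} (hg : g * x * g⁻¹ ∈ Kc t) :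
    g * x * g⁻¹ ∈ F₀ := by
  refine mem_of_parts _ _ rfl ?_
  rintro p hp k ⟨j, hj⟩
  rw [conj_pow] at hj ⊢
  have h1 : x ^ k ∈ F₀ := pow_mem hx k
  have h2 : g * x ^ k * g⁻¹ ∈ Kc t := by rw [← conj_pow]; exact pow_mem hg k
  have h3 : orderOf (x ^ k) = p ^ j := by
    rw [← hj]
    exact (orderOf_injective (MulAut.conj g).toMonoidHom (MulAut.conj g).injective (x ^ k)).symm
  by_cases h4 : x ^ k = 1
  · rw [h4, mul_one, mul_inv_cancel]; exact one_mem _
  have h5 : p ∣ Nat.card F₀ := by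
    have h6 : orderOf (⟨x ^ k, h1⟩ : F₀) ∣ Nat.card F₀ := orderOf_dvd_natCard _
    rw [Subgroup.orderOf_mk, h3] at h6
    have h7 : j ≠ 0 := by
      rintro rfl
      rw [pow_zero, orderOf_eq_one_iff] at h3
      exact h4 h3
    exact (dvd_pow_self p h7).trans h6
  obtain ⟨w, hw, hwx⟩ := (c.ctrl p hp h5).fusion (x ^ k) (c.le h1) ⟨j, h3⟩ g h2
  rw [← hwx]
  exact conj_mem_of_mem_normalizer (c.normal (mem_centralizer_singleton_iff.2 hw)) h1

omit [Finite G] in
/-- `|G : C(t)|` is prime to `|F₀|` -/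
theorem coprime_index (c : LConf t S F₀) :
    Nat.Coprime (centralizer ({t} : Set G)).index (Nat.card F₀) := by
  rw [Nat.coprime_iff_gcd_eq_one]
  by_contra h
  obtain ⟨r, hr, hrd⟩ := Nat.exists_prime_and_dvd h
  exact (c.ctrl r hr (hrd.trans (Nat.gcd_dvd_right _ _))).not_dvd
    (hrd.trans (Nat.gcd_dvd_left _ _))

end LConf

end Cfsg.Agent.Classification.TypeZ.Bender
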