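import Mathlib
import Cfsg.Agent.Classification.TypeZ.LConfFix
import Cfsg.Agent.Classification.TypeZ.NoGoodEnd

/-!
# Type Z of the Gorenstein–Walter theorem: assembly

* `LStar G`: the fixed point lemma (L1*);
* `LStar.fix`: (L1*) for configuration `LConf`;
* `gwConcl_of_noGood`: `GWConcl G` if there is no good pair.
-/

set_option autoImplicit false

namespace Cfsg.Agent.Classification.TypeZ.ZMain

open Subgroup Cfsg
open Cfsg.Agent.Classification.TypeB.Basic Cfsg.Agent.Classification.TypeB.Core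
open Cfsg.Agent.Classification.DihMinimal Cfsg.Agent.Classification.TypeZ.Bender
open Cfsg.Agent.Classification.TypeZ.NoGoodBase Cfsg.Agent.Classification.TypeZ.NoGoodW

universe u

/-- The fixed point lemma (L1*). -/
def LStar (G : Type u) [Group G] [Finite G] : Prop :=
  ∀ (S : Sylow 2 G) (t : G) (F₀ : Subgroup G), ZHyp G t →
    t ∈ (S : Subgroup G) → (S : Subgroup G) ≤ centralizer ({t} : Set G) → F₀ ≤ Kc t →
    centralizer ({t} : Set G) ≤ normalizer (F₀ : Set G) →
    (∀ w ∈ (S : Subgroup G), IsInv w → w ≠ t → ∀ x ∈ F₀, w * x * w⁻¹ = x⁻¹) →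
    Kc t ≤ F₀ ⊔ (Kc t ⊓ centralizer ((S : Subgroup G) : Set G)) →
    (∀ x ∈ F₀, ∀ g, g * x * g⁻¹ ∈ Kc t → g * x * g⁻¹ ∈ F₀) →
    Nat.Coprime (centralizer ({t} : Set G)).index (Nat.card F₀) → F₀ ≠ ⊥ →
    Kc t ⊓ centralizer ((S : Subgroup G) : Set G) = ⊥

variable {G : Type u} [Group G] [Finite G] {t : G}

theorem LStar.fix (hL : LStar G) (h : ZHyp G t) {S F₀ : Subgroup G} (c : LConf t S F₀) :
    ∀ y ∈ Kc t, (∀ s ∈ S, y * s = s * y) → y = 1 := by
  obtain ⟨P, rfl⟩ := c.sylow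
  intro y hy hyS
  by_cases hF : F₀ = ⊥
  · obtain ⟨u, huS, hu, hut⟩ := EndII.exists_inv h P
    have h1 : Kc t = ⊥ := by
      apply h.core_eq_bot hu hut
      intro z hz
      obtain ⟨a, ha, b, -, hbS, rfl⟩ := c.gen z hz
      rw [hF, mem_bot] at ha
      rw [ha, one_mul, mem_centralizer_singleton_iff]
      exact hbS u huS
    rw [h1, mem_bot] at hy
    exact hy
  · have h1 := hL P t F₀ h c.mem c.cent c.le c.normal c.invert ?_ (fun x hx g hg => c.closed hx hg)
      c.coprime_index hF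
    · rw [← mem_bot, ← h1]
      exact ⟨hy, mem_centralizer_iff.2 fun s hs => (hyS s hs).symm⟩
    · intro z hz
      obtain ⟨a, ha, b, hb, hbS, rfl⟩ := c.gen z hz
      exact mul_mem_sup ha ⟨hb, mem_centralizer_iff.2 fun s hs => (hbS s hs).symm⟩

/-- The case without good pairs. -/
theorem gwConcl_of_noGood (hL : LStar G) (h : ZHyp G t) (hno : NoGood t) (S : Sylow 2 G)
    (hS : (S : Subgroup G) ≤ centralizer ({t} : Set G))
    (hd : ∀ p : ℕ, p.Prime → p ∣ Nat.card (fittingOf (Kc t)) →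
      NonSpecial t p ∨ (S : Subgroup G) ≤ centralizer (Pc p t : Set G)) : GWConcl G := by
  obtain ⟨F₀, c⟩ := NoGoodEnd.exists_lconf_of h hno S hS hd
  exact EndII.gwConcl_of_lconf h c (hL.fix h c)

/-- Assembly: `hI` is the exclusion of good pairs, `hII` the exclusion of special primes. -/
theorem gwConcl (hL : LStar G) (h : ZHyp G t) (hI : NoGood t) (S : Sylow 2 G)
    (hS : (S : Subgroup G) ≤ centralizer ({t} : Set G))
    (hII : NoGood t → ∀ p : ℕ, p.Prime → p ∣ Nat.card (fittingOf (Kc t)) →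
      NonSpecial t p ∨ (S : Subgroup G) ≤ centralizer (Pc p t : Set G)) : GWConcl G :=
  gwConcl_of_noGood hL h hI S hS (hII hI)

end Cfsg.Agent.Classification.TypeZ.ZMain
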