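import Mathlib
import Cfsg.Agent.Classification.TypeZ.ZMain
import Cfsg.Agent.Classification.TypeZ.EndIFinal
import Cfsg.Agent.Classification.TypeZ.NoGood
import Cfsg.Agent.Classification.GWMain

/-!
# Type Z of the Gorenstein–Walter theorem and S0483, from the fixed point lemma (L1*)
-/

set_option autoImplicit false

namespace Cfsg.Agent.Classification.TypeZ.ZFinal

open Subgroup Cfsg
open Cfsg.Agent.Classification.TypeB.Basic Cfsg.Agent.Classification.TypeB.Core
open Cfsg.Agent.Classification.DihReduction Cfsg.Agent.Classification.DihMinimal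
open Cfsg.Agent.Classification.TypeZ.Bender
open Cfsg.Agent.Classification.TypeZ.NoGoodBase Cfsg.Agent.Classification.TypeZ.NoGoodW
open Cfsg.Agent.Classification.TypeZ.ZMain

universe u

section

variable {G : Type u} [Group G] [Finite G] {t : G}

/-- There are no good pairs. -/
theorem noGood (hL : LStar G) (h : ZHyp G t) : NoGood t := fun u x g =>
  EndIFinal.no_good h (fun _ _ c => hL.fix h c) ⟨u, x, g⟩

/-- Type Z, from the fixed point lemma (L1*). -/
theorem gwConcl (hL : LStar G) (h : ZHyp G t) (S : Sylow 2 G)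
    (hS : (S : Subgroup G) ≤ centralizer ({t} : Set G)) : GWConcl G := by
  obtain ⟨F₀, c⟩ := NoGood.exists_lconf h (noGood hL h) S hS
  exact EndII.gwConcl_of_lconf h c (hL.fix h c)

end

/-- (L1*) for all groups -/
def LStarAll : Prop := ∀ (G : Type u) [Group G] [Finite G], LStar G

theorem zAll (hL : LStarAll.{u}) : GWMain.ZAll.{u} := by
  intro G _ _ t S n _ _ _ hc h
  exact gwConcl (hL G) h S (fun s hs => mem_centralizer_singleton_iff.2 (hc s hs))

theorem fixAll (hL : LStarAll.{u}) : GWMain.FixAll.{u} := by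
  intro G _ _ _ S t F₀ h _ htS hSt hle hn hinv hgen hcl hcop hne
  exact hL G S t F₀ h htS hSt hle hn (fun w hw hwi hwt => hinv w hw hwi.2 hwt) hgen hcl hcop hne

/-- **S0483**, from (L1*) and the odd order theorem -/
theorem main (hFT : OddOrder.{u}) (hL : LStarAll.{u})
    {X : Type u} [Group X] [Finite X] [Group.IsPerfect X]
    (S : Sylow 2 X) (n : ℕ) (hn : 2 ≤ n) (hS : Nonempty ((S : Subgroup X) ≃* DihedralGroup n)) :
    (∃ (F : Type) (_ : Field F) (_ : Fintype F), Odd (Fintype.card F) ∧ 3 < Fintype.card F ∧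
        Nonempty (X ⧸ Cfsg.oddCore X ≃* Matrix.ProjectiveSpecialLinearGroup (Fin 2) F)) ∨
      Nonempty (X ⧸ Cfsg.oddCore X ≃* alternatingGroup (Fin 7)) :=
  GWMain.main hFT (zAll hL) S n hn hS

end Cfsg.Agent.Classification.TypeZ.ZFinal
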