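import Mathlib
import Cfsg.Agent.Classification.BGDegrees
import Cfsg.Agent.Classification.TypeZ.FourArith
import Cfsg.Agent.Classification.TypeZ.CongrSigned

/-!
# The index of `C(t)`, `|S| = 2 n ≥ 8`

With `k₀ + k₁ = n κ`: `f = 1 + 2 n μ`, `κ = μ l`, `|G : C(t)| = l² f (f + 1) / 2`. If `κ = m N`
with `m² ≤ N`, all `F`-orbits on `t ^ G - {t}` of length divisible by `N`, then `l = ±1`.
-/

set_option autoImplicit false
set_option linter.unusedSectionVars false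

namespace Cfsg.Agent.Classification.TypeZ.EightIndex

open DihedralGroup Cfsg Cfsg.Agent.Classification.BGDefs Cfsg.Agent.Classification.BGBasic
  Cfsg.Agent.Classification.BGOrder Cfsg.Agent.Classification.BGDegrees
  Cfsg.Agent.Classification.TypeZ.CongrSigned

universe u

variable {G : Type u} [Group G] [Fintype G] {t : G} {n : ℕ} [NeZero n]
  {π : (Subgroup.centralizer ({t} : Set G)) →* DihedralGroup n} {h : BGHyp t n π}
  {X₁ X₂ X₃ : G → ℂ} {T : ZMod n → G → ℂ} {f g₂ g₃ : ℤ}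

/-- `f = 1 + 2 n μ`, `κ = μ l`, `|G : C(t)| = l² (1 + 2 n μ)(1 + n μ)`. -/
theorem exists_l (H : BGChars h X₁ X₂ X₃ T f g₂ g₃) {κ : ℕ} (hκ : κ ≠ 0)
    (hk : kcount (two_dvd h) π 0 + kcount (two_dvd h) π 1 = n * κ) :
    ∃ μ l : ℤ, μ ≠ 0 ∧ l ≠ 0 ∧ (κ : ℤ) = μ * l ∧ f = 1 + 2 * n * μ ∧
      ((Subgroup.centralizer ({t} : Set G)).index : ℤ) =
        l ^ 2 * ((1 + 2 * n * μ) * (1 + n * μ)) := by
  obtain ⟨μ, hμ⟩ := H.f_dvd
  have e1 : f = 1 + 2 * n * μ := by linarith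
  have hn : (n : ℤ) ≠ 0 := by exact_mod_cast NeZero.ne n
  have h1 := H.order
  have h2 : (kcount (two_dvd h) π 0 + kcount (two_dvd h) π 1 : ℤ) = n * κ := by exact_mod_cast hk
  rw [h2, e1] at h1
  have h5 : ((Subgroup.centralizer ({t} : Set G)).index : ℤ) * μ ^ 2 =
      (κ : ℤ) ^ 2 * ((1 + 2 * n * μ) * (1 + n * μ)) := by
    apply mul_left_cancel₀ (show (4 * (n : ℤ) ^ 2) ≠ 0 from
      mul_ne_zero (by norm_num) (pow_ne_zero 2 hn))
    linear_combination h1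
  obtain ⟨h6, l, h7, h8, h9⟩ := FourArith.exists_l (by exact_mod_cast hκ) h5
  exact ⟨μ, l, h6, h8, h7, e1, h9⟩

/-- **Index formula** if `κ = m N` with `m² ≤ N`. -/
theorem index_eq (H : BGChars h X₁ X₂ X₃ T f g₂ g₃) (F : Subgroup G)
    (hFt : ∀ a ∈ F, a * t = t * a) {N m : ℕ} (hN : OrbitDvd t F N) (hN1 : 1 < N) (hm : m ≠ 0)
    (hk : kcount (two_dvd h) π 0 + kcount (two_dvd h) π 1 = n * (m * N)) (hmN : m ^ 2 ≤ N) :
    ∃ μ : ℤ, (μ = (m * N : ℤ) ∨ μ = -(m * N : ℤ)) ∧ f = 1 + 2 * n * μ ∧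
      ((Subgroup.centralizer ({t} : Set G)).index : ℤ) = (1 + 2 * n * μ) * (1 + n * μ) := by
  have hn : (n : ℤ) ≠ 0 := by exact_mod_cast NeZero.ne n
  have hmN0 : (m * N : ℤ) ≠ 0 := by
    exact_mod_cast mul_ne_zero hm (by omega : N ≠ 0)
  refine FourArith.main_eight (κ := (m * N : ℤ)) (m := m) (N := N) hn (by exact_mod_cast hN1) rfl
    hmN0 (by exact_mod_cast hmN) H.f_dvd ?_ (index_congr hFt hN (by omega))
  have h1 := H.order
  have h2 : (kcount (two_dvd h) π 0 + kcount (two_dvd h) π 1 : ℤ) = n * (m * N) := by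
    exact_mod_cast hk
  rw [h2] at h1
  exact h1

end Cfsg.Agent.Classification.TypeZ.EightIndex
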